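import Cfsg.Agent.Std2E.Base

/-! Extending the chart to `D Q`. -/

set_option autoImplicit false

namespace Cfsg.Agent.Std2E

open Cfsg Cfsg.Spor Cfsg.Agent.Spor Cfsg.Agent.Spor.Leech Cfsg.Agent.TT Cfsg.Agent.LES Cfsg.Agent.Mon
  Cfsg.Agent.Mon.LC Cfsg.Agent.Std2B Subgroup

section
variable {B : Type*} [Group B] {G : Type*} [Group G] {j : B → G}

/-- Extension of a partial isomorphism over a subgroup of index two. -/
theorem ext_two {D S : Subgroup B} (p : PH D j) {x : G} {q : B} (hr : Rel D j x q) (h2 : q * q ∈ D)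
    (hx : x * x = j (q * q)) (hq : q ∉ D) (hn : ∀ d ∈ D, j d ≠ x)
    (hS : ∀ y ∈ S, y ∈ D ∨ ∃ d ∈ D, y = d * q) : ∃ Θ : B → G, PH S Θ ∧ (∀ d ∈ D, Θ d = j d) ∧ Θ q = x := by
  classical
  let Θ : B → G := fun y => if y ∈ D then j y else j (y * q⁻¹) * x
  have t1 : ∀ y ∈ D, Θ y = j y := fun y hy => if_pos hy
  have t2 : ∀ y ∈ D, Θ (y * q) = j y * x := fun y hy => by
    simp [Θ, show y * q ∉ D from fun e => hq ((mul_mem_cancel_left hy).1 e)]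
  refine ⟨Θ, ⟨fun a ha b hb => ?_, fun a ha e => ?_⟩, t1, by simpa [p.one] using t2 1 (one_mem D)⟩
  · rcases hS a ha with a1 | ⟨a, a1, rfl⟩ <;> rcases hS b hb with b1 | ⟨b, b1, rfl⟩
    · rw [t1 _ a1, t1 _ b1, t1 _ (mul_mem a1 b1), p.mul _ a1 _ b1]
    · rw [← mul_assoc, t1 _ a1, t2 _ b1, t2 _ (mul_mem a1 b1), p.mul _ a1 _ b1, mul_assoc]
    · rw [show a * q * b = a * (q * b * q⁻¹) * q by group, t2 _ a1, t1 _ b1,
        t2 _ (mul_mem a1 (hr b b1).1), p.mul _ a1 _ (hr b b1).1, ← (hr b b1).2]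
      group
    · rw [show a * q * (b * q) = a * (q * b * q⁻¹) * (q * q) by group, t2 _ a1, t2 _ b1,
        t1 _ (mul_mem (mul_mem a1 (hr b b1).1) h2), p.mul _ (mul_mem a1 (hr b b1).1) _ h2,
        p.mul _ a1 _ (hr b b1).1, ← (hr b b1).2, ← hx]
      group
  · rcases hS a ha with a1 | ⟨a, a1, rfl⟩
    · exact p.inj a a1 (t1 a a1 ▸ e)
    · rw [t2 a a1, mul_eq_one_iff_inv_eq, ← p.inv a1] at e
      exact absurd e (hn _ (inv_mem a1))

theorem Rel.conj {M : Subgroup B} (p : PH M j) {z s k : B} {n : G} (h : Rel (DD M z) j n k)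
    (hs : s ∈ M) : Rel (DD M (s * z * s⁻¹)) j (j s * n * (j s)⁻¹) (s * k * s⁻¹) := fun y hy => by
  have h1 : s⁻¹ * y * s⁻¹⁻¹ ∈ DD M z := mem_DD.2 ⟨mul_mem (mul_mem (inv_mem hs) hy.1) (inv_mem (inv_mem hs)),
    by rw [show z = s⁻¹ * (s * z * s⁻¹) * s⁻¹⁻¹ by group, conj_mul, conj_mul, (mem_DD.1 hy).2]⟩
  obtain ⟨h2, h3⟩ := h _ h1
  have e : s * k * s⁻¹ * y * (s * k * s⁻¹)⁻¹ = s * (k * (s⁻¹ * y * s⁻¹⁻¹) * k⁻¹) * s⁻¹ := by group
  rw [e, p.conj hs h2.1, ← h3, p.conj (inv_mem hs) hy.1, p.inv hs]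
  exact ⟨mem_DD.2 ⟨mul_mem (mul_mem hs h2.1) (inv_mem hs), by
    rw [conj_mul, conj_mul, (mem_DD.1 h2).2]⟩, by group⟩

theorem mem_closure_four {z t v : B} (zz : z * z = 1) (tt : t * t = 1) (c : t * z = z * t)
    (hv : v ∈ closure {z, t}) : v = 1 ∨ v = z ∨ v = t ∨ v = t * z := by
  have k : ∀ x, z * (z * x) = x := fun x => by rw [← mul_assoc, zz, one_mul]
  have k' : ∀ x, t * (t * x) = x := fun x => by rw [← mul_assoc, tt, one_mul]
  have k'' : ∀ x, z * (t * x) = t * (z * x) := fun x => by rw [← mul_assoc, ← c, mul_assoc]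
  induction hv using closure_induction with
  | mem x hx => rcases hx with rfl | rfl <;> simp
  | one => simp
  | mul x y _ _ hx hy =>
    rcases hx with rfl | rfl | rfl | rfl <;> rcases hy with rfl | rfl | rfl | rfl <;>
      simp [mul_assoc, zz, tt, k, k', k'', ← c]
  | inv x _ hx =>
    rcases hx with rfl | rfl | rfl | rfl <;>
      simp [inv_eq_of_mul_eq_one_right zz, inv_eq_of_mul_eq_one_right tt, c]

end

variable {B : Type*} [Group B] [Finite B] {z t : B} {Q M : Subgroup B}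
  {γ : centralizer ({z} : Set B) →* Co2} {φ : leechPerpU → B}
  {G : Type*} [Group G] [Finite G] {j Θ : B → G}

/-- An element of `G` acting on the chart of `D` as an element of `Q` outside `R`. -/
theorem exists_relQ (h : BM z t Q M γ φ) (c : Cht t M j) {n : G} (h1 : n * j z = j z * n)
    (h2 : n * j t * n⁻¹ = j t * j z) : ∃ x q, q ∈ Q ∧ Rel (DD M z) j x q ∧ q * t * q⁻¹ = t * z ∧
      Eqv (j z) (x * x) 1 := by
  have xs := h.xs
  have zM := h.zD.1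
  have tM := h.tD.1
  have zz := (c.sq_iff zM).2 xs.z_sq
  have nt : t ∉ Rts M z := fun ⟨m, hm, e⟩ => h.t_ne_z (by
    rw [show z = m⁻¹ * t * m⁻¹⁻¹ by rw [← e]; group, conj_eq_of_comm (h.le _ (inv_mem hm))])
  obtain ⟨k, hk, rk⟩ := exRel h c ((mem_NS zz).2 ⟨h1, .inr h2⟩)
  obtain ⟨w', hw', -, -, -, wQ', -, wz', -⟩ := h.exists_line
  obtain ⟨d, hd, e1⟩ := h.trans_coll (h.conj_coll hk hw' wQ') (h.d.lx.norm k hk.1 _ wQ') (fun e => wz' (by
    rw [← conj_eq_of_comm hk.1] at e; simpa using e)) hw' wQ' wz'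
  have kt : k * t * k⁻¹ = t * z := (c.eq_iff (rk t h.tD).1.1 (mul_mem tM zM)).1 (by
    rw [← (rk t h.tD).2, h2, c.mul _ tM _ zM])
  obtain ⟨s, hs, rfl⟩ := hw'
  have wQ : s⁻¹ * z * s⁻¹⁻¹ ∈ Q := by rw [inv_inv]; exact h.symm wQ'
  have hw : s⁻¹ * z * s⁻¹⁻¹ ∈ Rts M z := ⟨_, inv_mem hs, rfl⟩
  have wz : s⁻¹ * z * s⁻¹⁻¹ ≠ z := fun e => wz' (by nth_rw 1 [← e]; group)
  have r1 := ((Rel.of_mem c.toPH inf_le_left hd).mul rk).conj c.toPH (inv_mem hs)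
  have mz : s⁻¹ * (d * k) * s⁻¹⁻¹ * z = z * (s⁻¹ * (d * k) * s⁻¹⁻¹) := comm_of_conj_eq (by
    conv_rhs => rw [show z = s⁻¹ * (s * z * s⁻¹) * s by group, ← e1]
    group)
  have mw : s⁻¹ * (d * k) * s⁻¹⁻¹ * (s⁻¹ * z * s⁻¹⁻¹) = s⁻¹ * z * s⁻¹⁻¹ * (s⁻¹ * (d * k) * s⁻¹⁻¹) := by
    rw [conj_mul, conj_mul, comm_mul_left (mem_DD.1 hd).2 hk.1]
  have mt : s⁻¹ * (d * k) * s⁻¹⁻¹ * t * (s⁻¹ * (d * k) * s⁻¹⁻¹)⁻¹ = t * (s⁻¹ * z * s⁻¹⁻¹) := by
    have e2 : s⁻¹ * t * s⁻¹⁻¹ = t := conj_eq_of_comm (h.le _ (inv_mem hs))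
    have e3 : d * (t * z) * d⁻¹ = t * z :=
      conj_eq_of_comm (Commute.mul_right (h.le d hd.1) (mem_DD.1 hd).2).eq
    conv_lhs => rw [← e2]
    conv_rhs => rw [← e2, conj_mul, ← e3, ← kt]
    group
  generalize s⁻¹ * (d * k) * s⁻¹⁻¹ = m at r1 mz mw mt
  generalize j s⁻¹ * (j d * n) * (j s⁻¹)⁻¹ = n at r1
  generalize s⁻¹ * z * s⁻¹⁻¹ = w at r1 mw mt wQ hw wz
  clear e1 kt rk hk hd wz' wQ' hs h1 h2
  have w1 : w ≠ 1 := by
    obtain ⟨m, -, rfl⟩ := hw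
    simpa using xs.z_ne
  have ww : w * w = 1 := by
    obtain ⟨m, -, rfl⟩ := hw
    rw [conj_mul, xs.z_sq]; simp
  have wM : w ∈ M := by
    obtain ⟨m, hm, rfl⟩ := hw
    exact mul_mem (mul_mem hm zM) (inv_mem hm)
  have wt := h.le w wM
  obtain ⟨r, rQ, rt, rw'⟩ : ∃ r ∈ Q, r * t = t * r ∧ r * w ≠ w * r := by
    by_contra hc
    push Not at hc
    rcases xs.eq_of_comm_centralizer h.tQ wQ hc with e | e | e | e
    exacts [w1 e, wz e, nt (e ▸ hw), nt (by simpa [e, xs.mul_z_z] using h.mulz hw wQ wz)]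
  have rM := (h.R_le rQ rt).1
  have zw : z ∈ DD M w := mem_DD.2 ⟨zM, (xs.z_comm w wQ).symm⟩
  have mQ : m * r * m⁻¹ ∈ Q := h.d.lx.norm m mz r rQ
  have key : ∀ y ∈ Q, y * t = t * y → y * w = w * y →
      n * j r * n⁻¹ * j y * (n * j r * n⁻¹)⁻¹ = j (m * r * m⁻¹ * y * (m * r * m⁻¹)⁻¹) :=
    fun y yQ yt yw => by
      obtain ⟨a1, a2⟩ := r1.inv y (mem_DD.2 ⟨(h.R_le yQ yt).1, yw⟩)
      have a3 : r * (m⁻¹ * y * m⁻¹⁻¹) * r⁻¹ ∈ DD M w := by
        rcases xs.conj rQ (h.d.lx.norm m⁻¹ (comm_inv_left mz) y yQ) with e | e <;> rw [e]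
        exacts [a1, mul_mem a1 zw]
      rw [show m * r * m⁻¹ * y * (m * r * m⁻¹)⁻¹ = m * (r * (m⁻¹ * y * m⁻¹⁻¹) * r⁻¹) * m⁻¹ by group,
        ← (r1 _ a3).2, c.conj rM a1.1, ← a2]
      group
  have nz : n * j z * n⁻¹ = j z := by rw [(r1 z zw).2, conj_eq_of_comm mz]
  have e1 : m * r * m⁻¹ * t * (m * r * m⁻¹)⁻¹ = t * z := by
    have e2 : m * (t * w) * m⁻¹ = t := by
      rw [← conj_mul, mt, conj_eq_of_comm mw, mul_assoc, ww, mul_one]
    calc _ = m * r * m⁻¹ * (m * (t * w) * m⁻¹) * (m * r * m⁻¹)⁻¹ := by rw [e2]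
      _ = m * (r * t * r⁻¹ * (r * w * r⁻¹)) * m⁻¹ := by group
      _ = m * (t * w) * m⁻¹ * (m * z * m⁻¹) := by
        rw [conj_eq_of_comm rt, xs.conj_of_ne rQ wQ rw']; group
      _ = _ := by rw [e2, conj_eq_of_comm mz]
  have xz : n * j r * n⁻¹ * j z = j z * (n * j r * n⁻¹) := by
    rw [← nz, conj_mul, conj_mul, (c.comm_iff rM zM).2 (xs.z_comm r rQ)]
  obtain ⟨q, hq, rq⟩ := exRel h c ((mem_NS zz).2 ⟨xz, .inr (by
    rw [key t h.tQ rfl wt.symm, e1, c.mul _ tM _ zM])⟩)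
  have e3 : ∀ y ∈ Q, y * t = t * y → y * w = w * y →
      q * y * q⁻¹ = m * r * m⁻¹ * y * (m * r * m⁻¹)⁻¹ := fun y yQ yt yw => by
    have yD := h.R_le yQ yt
    refine (c.eq_iff (rq y yD).1.1 ?_).1 (by rw [← (rq y yD).2, key y yQ yt yw])
    rcases xs.conj mQ yQ with e | e <;> rw [e]
    exacts [yD.1, mul_mem yD.1 zM]
  refine ⟨_, q, fix3 h.d hq.1 h.tQ wQ h.tQ wt.symm rfl wt fun y yQ yt yw _ => ?_, rq,
    (e3 t h.tQ rfl wt.symm).trans e1, ?_⟩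
  · rw [e3 y yQ yt yw]; exact xs.conj mQ yQ
  · rw [conj_mul, ← c.mul _ rM _ rM]
    rcases xs.sq rQ with e | e <;> rw [e]
    exacts [.inl (by simp [c.one]), .inr (by rw [nz, one_mul])]

theorem exists_xt (h : BM z t Q M γ φ) (c : Cht t M j) {n : G} (h1 : n * j z = j z * n)
    (h2 : n * j t * n⁻¹ = j t * j z) : ∃ Θ, Xt z t Q M j Θ := by
  have xs := h.xs
  have zM := h.zD.1
  have tM := h.tD.1
  have zz := (c.sq_iff zM).2 xs.z_sq
  have tt := (c.sq_iff tM).2 h.tt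
  have z1 : j z ≠ 1 := fun e => xs.z_ne (c.inj z zM e)
  have tz := xs.z_comm t h.tQ
  have Dt : ∀ d ∈ DD M z, d * t = t * d := fun d hd => h.le d hd.1
  obtain ⟨x, q, qQ, rq, qt, xx⟩ := exists_relQ h c h1 h2
  have xt : ∀ {x}, Rel (DD M z) j x q → x * j t * x⁻¹ = j t * j z := fun r => by
    rw [(r t h.tD).2, qt, c.mul _ tM _ zM]
  have qt' : q * t ≠ t * q := fun e => xs.z_ne (mul_eq_left.1 (qt.symm.trans (conj_eq_of_comm e)))
  obtain ⟨x, rq, xx⟩ : ∃ x, Rel (DD M z) j x q ∧ x * x = j (q * q) := by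
    by_cases e : x * x = j (q * q)
    · exact ⟨x, rq, e⟩
    refine ⟨x * j t, fun y hy => ⟨(rq y hy).1, ?_⟩, ?_⟩
    · rw [← (rq y hy).2, mul_assoc x, ← (c.comm_iff hy.1 tM).2 (Dt y hy)]; group
    · have e1 := (rq.inv t h.tD).2
      rw [xs.conj_of_ne (inv_mem qQ) h.tQ fun e => qt' (by simpa using comm_inv_left e),
        c.mul _ tM _ zM, (c.comm_iff tM zM).2 tz] at e1
      rw [show x * j t * (x * j t) = x * x * (x⁻¹ * j t * x⁻¹⁻¹) * j t by group, e1, mul_assoc,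
        mul_assoc (j z), tt, mul_one]
      rcases xs.sq qQ with a | a <;> rcases xx with b | b <;> simp_all [c.one]
  have qD : q ∉ DD M z := fun e => qt' (Dt q e)
  have hz : ∀ y ∈ Q, y * y ∈ DD M z := fun y hy => by
    rcases xs.sq hy with a | a <;> rw [a]
    exacts [one_mem _, h.zD]
  obtain ⟨Θ, p, t1, -⟩ := ext_two (S := DD M z ⊔ Q) (c.mono inf_le_left) rq (hz q qQ) xx qD
    (fun d hd e => z1 (mul_eq_left.1 (by
      rw [← xt rq, ← e, conj_eq_of_comm ((c.comm_iff hd.1 tM).2 (Dt d hd))]))) fun y hy => by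
      have hn : DD M z ≤ normalizer (Q : Set B) := PLocal.Amb.le_normalizer_iff_cj.2 fun g hg =>
        PLocal.Amb.cj_le_iff_forall.2 (h.d.lx.norm g (mem_DD.1 hg).2)
      obtain ⟨a, ha, b, hb, rfl⟩ := (PLocal.Amb.mem_sup_of_le_normalizer_right hn).1 hy
      by_cases e : b * t = t * b
      · exact .inl (mul_mem ha (h.R_le hb e))
      · refine .inr ⟨a * (b * q⁻¹), mul_mem ha (h.R_le (mul_mem hb (inv_mem qQ))
          (xs.mul_comm_of_not_comm h.tQ hb (inv_mem qQ) e fun e => qt' ?_)), by group⟩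
        simpa using comm_inv_left e
  have DS : DD M z ≤ DD M z ⊔ Q := le_sup_left
  have QS : Q ≤ DD M z ⊔ Q := le_sup_right
  have rΘ : ∀ k ∈ Q, Rel (DD M z) j (Θ k) k := fun k hk y hy => by
    have := h.nD (XS_le_NS xs h.tQ hk) hy
    exact ⟨this, by rw [← t1 _ hy, ← t1 _ this, p.conj (QS hk) (DS hy)]⟩
  have onto : ∀ g k, Rel (DD M z) j g k → k ∈ Q → ∃ v ∈ closure {z, t}, Θ (k * v) = g :=
    fun g k r hk => by
      obtain ⟨v, hv, e⟩ := cenD h c (g := (Θ k)⁻¹ * g) fun y hy => comm_of_conj_eq (by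
        simpa using (((rΘ k hk).inv.mul r) y hy).2)
      have vD : v ∈ DD M z := (closure_le _).2 (Set.pair_subset h.zD h.tD) hv
      exact ⟨v, hv, by rw [p.mul _ (QS hk) _ (DS vD), t1 v vD, e, mul_inv_cancel_left]⟩
  refine ⟨Θ, p, t1, fun g k r hk => ?_, fun g k r hk y hy => ?_⟩
  · obtain ⟨v, hv, e⟩ := onto g k r hk
    exact ⟨_, mul_mem hk ((closure_le _).2 (Set.pair_subset xs.z_mem h.tQ) hv), e⟩
  by_cases yt : y * t = t * y
  · have yD := h.R_le hy yt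
    rw [t1 _ yD, t1 _ (r y yD).1, (r y yD).2]
    exact .inl rfl
  have kQ := h.d.lx.norm k hk.1 y hy
  obtain ⟨v, hv, e⟩ := onto _ _ ((r.mul (rΘ y hy)).mul r.inv) kQ
  have ut : k * y * k⁻¹ * t ≠ t * (k * y * k⁻¹) := fun e => yt (by
    have e1 : y * (k⁻¹ * t * k⁻¹⁻¹) = k⁻¹ * t * k⁻¹⁻¹ * y := by
      rw [show y = k⁻¹ * (k * y * k⁻¹) * k⁻¹⁻¹ by group, conj_mul, conj_mul, e]
    rcases ((mem_NS xs.z_sq).1 (inv_mem hk)).2 with a | a <;> rw [a] at e1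
    · exact e1
    · rw [mul_assoc, ← xs.z_comm y hy, ← mul_assoc, ← mul_assoc] at e1
      exact mul_right_cancel e1)
  have uu : k * y * k⁻¹ * (k * y * k⁻¹) = y * y := by
    rw [conj_mul]
    rcases xs.sq hy with a | a <;> rw [a]
    exacts [by simp, conj_eq_of_comm hk.1]
  have e2 : ∀ u ∈ Q, Θ u = g * Θ y * g⁻¹ → u * u = y * y := fun u hu e =>
    (p.eq_iff (DS (hz u hu)) (DS (hz y hy))).1 (by
      rw [p.mul _ (QS hu) _ (QS hu), e, conj_mul, ← p.mul _ (QS hy) _ (QS hy), t1 _ (hz y hy),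
        (r _ (hz y hy)).2, ← conj_mul, uu])
  generalize k * y * k⁻¹ = u at kQ e ut uu ⊢
  have e3 : u * t * (u * t) = u * u * z := by
    rw [show u * t * (u * t) = u * (t * u * t⁻¹) * (t * t) by group, xs.conj_of_ne h.tQ kQ ut.symm, h.tt,
      mul_one, mul_assoc]
  rcases mem_closure_four xs.z_sq h.tt tz hv with rfl | rfl | rfl | rfl
  · exact .inl (by rw [← e, mul_one])
  · exact .inr (by rw [← e, p.mul _ (QS kQ) _ (DS h.zD), t1 _ h.zD, mul_assoc, zz, mul_one])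
  · exact absurd (mul_eq_left.1 (by rw [← e3, e2 _ (mul_mem kQ h.tQ) e, uu])) xs.z_ne
  · refine absurd (mul_eq_left.1 (show u * u * z = u * u from ?_)) xs.z_ne
    have a := mul_mem kQ h.tQ
    rw [← e3, uu, ← e2 _ (mul_mem kQ (mul_mem h.tQ xs.z_mem)) e, ← mul_assoc u t z,
      mul_assoc (u * t) z, ← mul_assoc z, ← xs.z_comm _ a, xs.mul_z_z]

end Cfsg.Agent.Std2E
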