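import Cfsg.Agent.Std2E.Defs

/-! Baby Monster data without the homomorphism to `Co2`. -/

set_option autoImplicit false

namespace Cfsg.Agent.Std2E

open Cfsg Cfsg.Spor Cfsg.Agent.Spor Cfsg.Agent.Spor.Leech Cfsg.Agent.TT Cfsg.Agent.LES Cfsg.Agent.Mon
  Cfsg.Agent.Mon.LC Cfsg.Agent.Std2B Subgroup

variable {X : Type*} [Group X] {z : X} {Q : Subgroup X} {φ : leechPerpU → X} {n n' : X} {g g' : Co2}

theorem act_one : Act z φ 1 1 :=
  ⟨by simp, fun v w k => .inl (by simp [show w = v from Subtype.ext (by simpa using k.symm)])⟩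

theorem Act.mul (zz : z * z = 1) (a : Act z φ n g) (b : Act z φ n' g') : Act z φ (n * n') (g * g') :=
  ⟨comm_mul_left a.1 b.1, fun v w k => (a.2 (BO.sm _ (co2Incl_u g') v) w (by rw [← k, map_mul, mul_smul]; rfl)).trans zz
    (((b.2 v _ rfl).conj a.1).trans zz (.inl (by group)))⟩

theorem Act.inv (zz : z * z = 1) (a : Act z φ n g) : Act z φ n⁻¹ g⁻¹ :=
  ⟨comm_inv_left a.1, fun v w k => by
    have := (a.2 w v (by rw [← k, map_inv, smul_inv_smul])).conj (comm_inv_left a.1)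
    exact (Eqv.trans zz this (.inl (by group))).symm zz⟩

/-- Baby Monster data without the homomorphism to `Co2`. -/
structure Pre (z : X) (Q : Subgroup X) (φ : leechPerpU → X) : Prop where
  xs : XS Q z
  card : Nat.card Q = 2 ^ 23
  mem : ∀ v, φ v ∈ Q
  add : ∀ v w, Eqv z (φ (v + w)) (φ v * φ w)
  onto : ∀ x ∈ Q, ∃ v, Eqv z x (φ v)
  triv : ∀ x : leechPerpU, Eqv z (φ x) 1 ↔ (∃ w : leechLattice, (x : leechLattice) = w + w) ∨
      ∃ w : leechLattice, (x : leechLattice) = leechU + (w + w)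
  sur : ∀ g, ∃ n, Act z φ n g
  ker : ∀ n, Act z φ n 1 → n ∈ Q
  faith : ∀ g, Act z φ 1 g → g = 1

namespace Pre

variable (p : Pre z Q φ)
include p

theorem act_Q (hn : n ∈ Q) : Act z φ n 1 :=
  ⟨p.xs.z_comm n hn, fun v w k => by
    rw [show w = v from Subtype.ext (by simpa using k.symm)]
    exact Eqv.symm p.xs.z_sq (p.xs.conj hn (p.mem v))⟩

theorem uniq (h : Act z φ n g) (h' : Act z φ n g') : g = g' :=
  mul_inv_eq_one.1 (p.faith _ (mul_inv_cancel n ▸ h.mul p.xs.z_sq (h'.inv p.xs.z_sq)))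

theorem babyData (ex : ∀ n, n * z = z * n → ∃ g, Act z φ n g) : ∃ γ, BabyData z Q γ φ := by
  have zz := p.xs.z_sq
  choose γ₀ hγ using fun c : centralizer ({z} : Set X) => ex c (MonData.comm_z c)
  let γ : centralizer ({z} : Set X) →* Co2 := MonoidHom.mk' γ₀ fun a b =>
    p.uniq (hγ (a * b)) ((hγ a).mul zz (hγ b))
  have sur : Function.Surjective γ := fun g => by
    obtain ⟨n, hn⟩ := p.sur g
    exact ⟨⟨n, mem_centralizer_singleton_iff.2 hn.1⟩, p.uniq (hγ ⟨n, _⟩) hn⟩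
  have ker : ∀ c, γ c = 1 ↔ (c : X) ∈ Q := fun c =>
    ⟨fun e => p.ker c (e ▸ hγ c), fun e => p.uniq (hγ c) (p.act_Q e)⟩
  refine ⟨γ, ⟨p.xs, fun c hc => p.ker c ⟨(hc z p.xs.z_mem).symm, fun v w k => .inl ?_⟩, fun c hc x hx => ?_⟩, ?_, p.card,
    sur, ker, p.mem, p.add, p.onto, p.triv, fun c => (hγ c).2⟩
  · rw [show w = v from Subtype.ext (by simpa using k.symm), conj_eq_of_comm (hc _ (p.mem v)).symm]
  · obtain ⟨g, hg⟩ := ex c hc
    obtain ⟨v, hv⟩ := p.onto x hx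
    exact ((hv.conj hc).trans zz ((hg.2 v (BO.sm _ (co2Incl_u g) v) rfl).symm zz)).mem p.xs.z_mem (p.mem _)
  · rintro _ ⟨c, hc, rfl⟩
    have := (pCore_normal 2 (centralizer ({z} : Set X))).map γ sur
    exact (ker c).1 ((Co2_normal_two_eq_bot _ ((Grp.pCore_isPGroup 2 _).map γ)).le (mem_map_of_mem γ hc))

theorem comap {Y : Type*} [Group Y] {f : Y →* X} (hf : Function.Injective f)
    (hr : ∀ n g, Act z φ n g → n ∈ f.range) : ∃ y χ, f y = z ∧ (∀ v, f (χ v) = φ v) ∧ Pre y (Q.comap f) χ ∧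
      ∀ n g, Act y χ n g ↔ Act z φ (f n) g := by
  have hQ : Q ≤ f.range := fun x hx => hr x 1 (p.act_Q hx)
  obtain ⟨y, rfl⟩ := hQ p.xs.z_mem
  choose χ hχ using fun v => hQ (p.mem v)
  have ev : ∀ {a b}, Eqv y a b ↔ Eqv (f y) (f a) (f b) := by
    intro a b; rw [Eqv, Eqv, ← map_mul, hf.eq_iff, hf.eq_iff]
  have cm : ∀ {a b}, a * b = b * a ↔ f a * f b = f b * f a := by
    intro a b; rw [← map_mul, ← map_mul, hf.eq_iff]
  have ac : ∀ n g, Act y χ n g ↔ Act (f y) φ (f n) g := fun n g =>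
    and_congr cm (forall₃_congr fun v w _ => by rw [ev, map_mul, map_mul, map_inv, hχ, hχ])
  refine ⟨y, χ, rfl, hχ, ⟨⟨p.xs.z_mem, fun e => p.xs.z_ne (by simp [e]), hf (by simpa using p.xs.z_sq),
    fun x hx => cm.2 (p.xs.z_comm _ hx), fun a ha b hb => ev.2 (by rw [map_mul, map_mul]; exact p.xs.comm _ ha _ hb),
    fun x hx hc => ?_, ?_⟩, ?_, fun v => mem_comap.2 (hχ v ▸ p.mem v), fun v w => ev.2 (by simpa [hχ] using p.add v w),
    fun x hx => (p.onto _ hx).imp fun v e => ev.2 (hχ v ▸ e), fun v => by rw [ev, hχ, map_one, p.triv], fun g => ?_,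
    fun n hn => p.ker _ ((ac n 1).1 hn), fun g hg => p.faith g (map_one f ▸ (ac 1 g).1 hg)⟩, ac⟩
  · refine (p.xs.cent _ hx fun b hb => ?_).imp (fun e => hf (by simpa using e)) fun e => hf e
    obtain ⟨b, rfl⟩ := hQ hb
    exact cm.1 (hc b hb)
  · obtain ⟨x, a, b, c⟩ := p.xs.nonab
    obtain ⟨x, rfl⟩ := hQ a
    exact ⟨x, a, fun e => b (by simp [e]), fun e => c (e ▸ rfl)⟩
  · rw [← p.card, ← card_map_of_injective hf, map_comap_eq_self hQ]
  · obtain ⟨n, hn⟩ := p.sur g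
    obtain ⟨n, rfl⟩ := hr n g hn
    exact ⟨n, (ac n g).2 hn⟩

end Pre

theorem card_le_two [Finite X] {E H : Subgroup X} (le : H ≤ E)
    (h : ∀ a ∈ E, ∀ b ∈ E, a ∉ H → b ∉ H → a * b ∈ H) : Nat.card E ≤ 2 * Nat.card H := by
  have : (H.subgroupOf E).index ∣ 2 := index_dvd_two_iff.2 (by
    by_cases k : ∃ a : E, (a : X) ∉ H
    · obtain ⟨a, ha⟩ := k
      exact ⟨a, fun b => or_iff_not_imp_right.2 fun hb => h b b.2 a a.2 hb ha⟩
    · exact ⟨1, fun b => .inr (not_not.1 fun hb => k ⟨b, hb⟩)⟩)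
  rw [← (H.subgroupOf E).index_mul_card, Nat.card_congr (subgroupOfEquivOfLe le).toEquiv]
  exact Nat.mul_le_mul_right _ (Nat.le_of_dvd two_pos this)

end Cfsg.Agent.Std2E
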