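import Cfsg.Agent.Std2E.Base
import Cfsg.Agent.Std2B.NrmA

/-! All of `Co2` acts on the extraspecial group of `G`. -/

set_option autoImplicit false

namespace Cfsg.Agent.Std2E

open Cfsg Cfsg.Spor Cfsg.Agent.Spor Cfsg.Agent.Spor.Leech Cfsg.Agent.TT Cfsg.Agent.LES Cfsg.Agent.Mon
  Cfsg.Agent.Mon.LC Cfsg.Agent.Std2B Subgroup

variable {B : Type*} [Group B] [Finite B] {z t : B} {Q M : Subgroup B}
  {γ : centralizer ({z} : Set B) →* Co2} {φ : leechPerpU → B}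
  {G : Type*} [Group G] [Finite G] {j Θ : B → G} {w w' m : B} {n : G}

/-- `n` acts on the chart of `C_M(w)` as `m`. -/
structure Mv (M : Subgroup B) (j : B → G) (z t w m : B) (n : G) : Prop where
  mz : m * z = z * m
  mw : m * w = w * m
  mt : m * t * m⁻¹ = t * w
  rel : Rel (DD M w) j n m

omit [Finite B] in
theorem nrm_comm {x y : B} (g : B) (h : x * y = y * x) : g * x * g⁻¹ * (g * y * g⁻¹) = g * y * g⁻¹ * (g * x * g⁻¹) := by
  rw [conj_mul, conj_mul, h]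

omit [Finite B] in
theorem nrm_comm3 {x y : B} (hx : x * x = 1) (hy : y * y = 1) (h : x * y * (x * y) = 1) : x * y = y * x := by
  calc x * y = (x * y)⁻¹ := (inv_eq_of_mul_eq_one_right h).symm
    _ = y * x := by rw [mul_inv_rev, inv_eq_of_mul_eq_one_right hx, inv_eq_of_mul_eq_one_right hy]

variable (h : BM z t Q M γ φ)
include h

theorem BM.rts_mem (hw : w ∈ Rts M z) : w ∈ M := by
  obtain ⟨m, hm, rfl⟩ := hw
  exact mul_mem (mul_mem hm (mem_DD.1 h.zD).1) (inv_mem hm)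

omit [Finite B] in
theorem BM.rts_sq (hw : w ∈ Rts M z) : w * w = 1 := by
  obtain ⟨m, -, rfl⟩ := hw
  rw [conj_mul, h.xs.z_sq]; simp

theorem BM.rts_not (hw : w ∈ Rts M z) (wQ : w ∈ Q) : w ≠ 1 ∧ w ≠ t ∧ w ≠ t * z := by
  have k : ∀ {w}, w ∈ Rts M z → w ≠ t := by
    rintro _ ⟨m, hm, rfl⟩ e
    rw [← conj_eq_of_comm (h.le m hm), mul_left_inj, mul_right_inj] at e
    exact h.t_ne_z e.symm
  refine ⟨?_, k hw, fun e => ?_⟩
  · obtain ⟨m, -, rfl⟩ := hw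
    simpa using h.xs.z_ne
  · exact k (h.mulz hw wQ fun e' => h.t_ne (by simpa [e'] using e)) (by rw [e, mul_assoc, h.xs.z_sq, mul_one])

theorem BM.rts_V0 (hw : w ∈ Rts M z) (wQ : w ∈ Q) (wz : w ≠ z) : w ∉ closure {z, t} := fun k => by
  have a := h.rts_not hw wQ
  rcases (mem_closure_four h.xs.z_sq h.tt (h.xs.z_comm t h.tQ)).1 k with k | k | k | k
  exacts [a.1 k, wz k, a.2.1 k, a.2.2 (k.trans (h.xs.z_comm t h.tQ).symm)]

theorem BM.memDw {x : B} (hx : x ∈ Q) (x1 : x * t = t * x) (x2 : x * w = w * x) : x ∈ DD M w :=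
  mem_DD.2 ⟨(mem_DD.1 (h.R_le hx x1)).1, x2⟩

variable (c : Cht t M j) (e : Xt z t Q M j Θ)
include c e

omit [Finite G] in
theorem exists_mv (hw : w ∈ Rts M z) (wQ : w ∈ Q) (hw' : w' ∈ Rts M z) (wQ' : w' ∈ Q)
    (h2 : w' * w ∈ Rts M z) (n1 : w ≠ z) (n2 : w' ≠ z) (n3 : w' * w ≠ z) :
    ∃ m n, Mv M j z t w m n ∧ m * w' = w' * m := by
  have i6 := nrm_comm3 (h.rts_sq hw') (h.rts_sq hw) (h.rts_sq h2)
  have i4 : ∀ x ∈ Rts M z, x ∈ Q → x ≠ z → x ≠ t ∧ x * z ≠ t := fun x x1 x2 x3 =>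
    ⟨(h.rts_not x1 x2).2.1, (h.rts_not (h.mulz x1 x2 x3) (mul_mem x2 h.xs.z_mem)).2.1⟩
  have j1 := i4 _ hw wQ n1
  have j2 := i4 _ hw' wQ' n2
  have j3 := i4 _ h2 (mul_mem wQ' wQ) n3
  have i5 := h.xs.z_comm _ wQ
  have i7 := h.xs.z_comm _ wQ'
  obtain ⟨σ, hσ, rfl⟩ := hw
  have s1 := h.le σ hσ
  have i2 := h.symm wQ
  have i3 : σ⁻¹ * w' * σ⁻¹⁻¹ ∈ Q := h.nz _ (Rts.conj hw' (inv_mem hσ)) (by simpa [mul_assoc] using nrm_comm σ⁻¹ i6)
    (by simpa [mul_assoc] using Rts.conj h2 (inv_mem hσ))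
  rw [inv_inv] at i3
  have i8 : ∀ {x y}, t = y → σ * y * σ⁻¹ = x → x = t := by
    rintro _ _ rfl rfl; exact conj_eq_of_comm s1
  obtain ⟨q, hq, q1, q2, q3⟩ : ∃ q ∈ Q, q * (σ⁻¹ * z * σ) = σ⁻¹ * z * σ * q ∧
      q * (σ⁻¹ * w' * σ) = σ⁻¹ * w' * σ * q ∧ q * t ≠ t * q := by
    by_contra! k
    rcases three h.xs i2 i3 (by simp [mul_assoc, ← mul_assoc z, h.xs.z_sq]) h.tQ k with
      (k | k) | (k | k) | (k | k) | k | k
    · exact h.t_ne k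
    · exact h.t_ne_z (by simpa using k)
    · exact h.t_ne_z (i8 k (by group)).symm
    · exact j1.2 (i8 k (by rw [i5]; group))
    · exact j2.1 (i8 k (by group))
    · exact j3.1 (i8 k (by group))
    · exact j2.2 (i8 k (by rw [i7]; group))
    · exact j3.2 (i8 k (by rw [h.xs.z_comm _ (mul_mem wQ' wQ)]; group))
  have qN := XS_le_NS h.xs h.tQ hq
  refine ⟨σ * q * σ⁻¹, j σ * Θ q * (j σ)⁻¹, ⟨?_, nrm_comm σ (h.xs.z_comm q hq), ?_, fun x hx => ?_⟩, ?_⟩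
  · simpa [mul_assoc] using nrm_comm σ q1
  · rw [← conj_eq_of_comm s1, conj_inv, conj_mul, conj_mul, conj_mul, h.xs.conj_of_ne hq h.tQ q3]
  · obtain ⟨x, rfl⟩ := (MulAut.conj σ).surjective x
    rw [MulAut.conj_apply] at hx ⊢
    have y1 : x ∈ DD M z := mem_DD.2 ⟨by simpa [mul_assoc] using mul_mem (mul_mem (inv_mem hσ) hx.1) hσ,
      (MulAut.conj σ).injective (by simpa using (mem_DD.1 hx).2)⟩
    have y3 := h.nD qN y1
    rw [conj_inv, conj_mul, conj_mul]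
    refine ⟨mem_DD.2 ⟨mul_mem (mul_mem hσ y3.1) (inv_mem hσ), nrm_comm σ (mem_DD.1 y3).2⟩, ?_⟩
    rw [c.conj hσ y1.1, conj_inv, conj_mul, conj_mul, c.conj hσ y3.1, ← e.eq _ y3,
      e.conj (mem_sup_right hq) (mem_sup_left y1), e.eq _ y1]
  · simpa [mul_assoc] using nrm_comm σ q2

theorem exists_beta (v : Mv M j z t w m n) (wQ : w ∈ Q) (ww : w * w = 1) (aw : t * w = w * t) :
    n * j z = j z * n ∧ ∃ β, PH Q β ∧ (∀ x ∈ Q, β x ∈ Q) ∧ β z = z ∧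
      (∀ x ∈ Q, n * Θ x * n⁻¹ = Θ (m * β x * m⁻¹)) ∧ ∀ x ∈ Q, x * t = t * x → x * w = w * x → β x = x := by
  have xs := h.xs
  have aQ := h.tQ
  have le : Q ≤ DD M z ⊔ Q := le_sup_right
  have za := (xs.z_comm t aQ).symm
  have zw := h.memDw xs.z_mem za (xs.z_comm w wQ).symm
  have nz : n * j z = j z * n := comm_of_conj_eq (by rw [(v.rel z zw).2, conj_eq_of_comm v.mz])
  have tz := e.eq z h.zD
  have zz : j z * j z = 1 := tz ▸ (e.sq_iff (le xs.z_mem)).2 xs.z_sq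
  have k1 : ∀ x ∈ Q, ∀ p ∈ Q, p ∈ DD M w → Eqv (j z)
      (n * Θ x * n⁻¹ * j (m * p * m⁻¹) * (n * Θ x * n⁻¹)⁻¹) (j (m * p * m⁻¹)) := fun x hx p hp p1 => by
    rw [← (v.rel p p1).2, conj_inv, conj_mul, conj_mul, ← e.eq p (h.R_le hp (h.le p p1.1)), ← e.conj (le hx) (le hp)]
    refine Eqv.conj nz ?_
    rw [← tz, e.eqv_iff (le xs.z_mem) (le (mul_mem (mul_mem hx hp) (inv_mem hx))) (le hp)]
    exact xs.conj hx hp
  have k2 : ∀ x ∈ Q, ∃ y ∈ Q, n * Θ x * n⁻¹ = Θ (m * y * m⁻¹) := fun x hx => by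
    have gz : n * Θ x * n⁻¹ * j z = j z * (n * Θ x * n⁻¹) := comm_mul_left (comm_mul_left nz
      (tz ▸ (e.comm_iff (le hx) (le xs.z_mem)).2 (xs.z_comm x hx))) (comm_inv_left nz)
    have := k1 x hx _ (mul_mem aQ wQ) (h.memDw (mul_mem aQ wQ) (comm_mul_left rfl aw.symm) (comm_mul_left aw rfl))
    rw [← conj_mul, v.mt, conj_eq_of_comm v.mw, mul_assoc t, ww, mul_one] at this
    obtain ⟨k, hk, rk⟩ := exRel h c ((mem_NS zz).2 ⟨gz, this⟩)
    obtain ⟨y, hy, ey⟩ := e.onto _ k rk (fix3 h.d hk.1 aQ wQ wQ aw aw rfl fun p hp p1 p2 _ => by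
      have p0 := h.R_le hp p1
      have := k1 x hx _ (h.d.lx.norm _ (comm_inv_left v.mz) _ hp) (v.rel.inv p (h.memDw hp p1 p2)).1
      rwa [show m * (m⁻¹ * p * m⁻¹⁻¹) * m⁻¹ = p by group, (rk p p0).2,
        c.eqv_iff h.zD.1 (rk p p0).1.1 p0.1] at this)
    exact ⟨m⁻¹ * y * m⁻¹⁻¹, h.d.lx.norm _ (comm_inv_left v.mz) _ hy, by rw [← ey]; congr 1; group⟩
  choose! β b1 b2 using k2
  have mQ := fun x hx => le (h.d.lx.norm m v.mz x hx)
  have b3 : ∀ x ∈ Q, x * t = t * x → x * w = w * x → β x = x := fun x hx x1 x2 => by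
    have := b2 x hx
    have x3 := v.rel x (h.memDw hx x1 x2)
    rw [e.eq x (h.R_le hx x1), x3.2, ← e.eq _ (h.R_le (h.d.lx.norm m v.mz x hx) (h.le _ x3.1.1)),
      e.eq_iff (mQ x hx) (mQ _ (b1 x hx))] at this
    simpa using this.symm
  refine ⟨nz, β, ⟨fun x hx y hy => ?_, fun x hx k => ?_⟩, b1, b3 z xs.z_mem za (xs.z_comm w wQ).symm, b2, b3⟩
  · have := b2 _ (mul_mem hx hy)
    rw [e.mul _ (le hx) _ (le hy), ← conj_mul, b2 x hx, b2 y hy, ← e.mul _ (mQ _ (b1 x hx)) _ (mQ _ (b1 y hy)), conj_mul,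
      e.eq_iff (mQ _ (mul_mem (b1 x hx) (b1 y hy))) (mQ _ (b1 _ (mul_mem hx hy)))] at this
    simpa using this.symm
  · have := b2 x hx
    rw [k, mul_one, mul_inv_cancel, e.one] at this
    exact e.inj x (le hx) (by simpa using this)

theorem tri (hw : w ∈ Rts M z) (wQ : w ∈ Q) (hw' : w' ∈ Rts M z) (wQ' : w' ∈ Q)
    (h2 : w' * w ∈ Rts M z) (r1 : w ≠ z) (r2 : w' ≠ z) (r3 : w' * w ≠ z) :
    ∃ m n, m * z = z * m ∧ m * t * m⁻¹ = t * w ∧ n * j z = j z * n ∧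
      ∀ x ∈ Q, Eqv (j z) (Θ (m * x * m⁻¹)) (n * Θ x * n⁻¹) := by
  have xs := h.xs
  have aQ := h.tQ
  have le : Q ≤ DD M z ⊔ Q := le_sup_right
  have aa := h.tt
  have ww := h.rts_sq hw
  have ww' := h.rts_sq hw'
  have c1 := (h.le w (h.rts_mem hw)).symm
  have c2 := (h.le w' (h.rts_mem hw')).symm
  have c3 := nrm_comm3 ww' ww (h.rts_sq h2)
  have c4 : t * (w' * w) = w' * w * t := (comm_mul_left c2.symm c1.symm).symm
  have c5 : t * (w' * w) * (t * (w' * w)) = 1 := by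
    rw [mul_assoc, ← mul_assoc _ t, ← c4, mul_assoc t, h.rts_sq h2, mul_one, aa]
  have e1 : w' * w * w' = w := by rw [c3, mul_assoc, ww', mul_one]
  have e2 : w' * (w' * w) = w := by rw [← mul_assoc, ww', one_mul]
  obtain ⟨m1, n1, v1, p1⟩ := exists_mv h c e hw' wQ' hw wQ (c3 ▸ h2) r2 r1 (c3 ▸ r3)
  obtain ⟨m2, n2, v2, p2⟩ := exists_mv h c e hw wQ hw' wQ' h2 r1 r2 r3
  obtain ⟨m3, n3, v3, p3⟩ := exists_mv h c e h2 (mul_mem wQ' wQ) hw' wQ' (e2.symm ▸ hw) r3 r2 (e2.symm ▸ r1)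
  obtain ⟨z1, β1, a1, b1, g1, d1, f1⟩ := exists_beta h c e v1 wQ' ww' c2
  obtain ⟨z2, β2, a2, b2, g2, d2, f2⟩ := exists_beta h c e v2 wQ ww c1
  obtain ⟨z3, β3, a3, b3, g3, d3, f3⟩ := exists_beta h c e v3 (mul_mem wQ' wQ) (h.rts_sq h2) c4
  have nQ := h.d.lx.norm
  have za := (xs.z_comm t aQ).symm
  have tz := e.eq z h.zD
  have zz : j z * j z = 1 := tz ▸ (e.sq_iff (le xs.z_mem)).2 xs.z_sq
  have mz := comm_mul_left (comm_mul_left v3.mz v2.mz) v1.mz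
  have tot : ∀ x ∈ Q, n3 * n2 * n1 * Θ x * (n3 * n2 * n1)⁻¹ =
      Θ (m3 * β3 (m2 * β2 (m1 * β1 x * m1⁻¹) * m2⁻¹) * m3⁻¹) := fun x hx => by
    have y1 := nQ _ v1.mz _ (b1 x hx)
    rw [← d3 _ (nQ _ v2.mz _ (b2 _ y1)), ← d2 _ y1, ← d1 _ hx]; group
  have fx : ∀ x ∈ Q, x * t = t * x → x * w = w * x → x * w' = w' * x → m3 * β3 (m2 * β2 (m1 * β1 x * m1⁻¹) * m2⁻¹) * m3⁻¹ =
      m3 * m2 * m1 * x * (m3 * m2 * m1)⁻¹ := fun x hx x1 x2 x3 => by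
    have y1 := (v1.rel x (h.memDw hx x1 x3)).1
    have y2 := comm_mul_left (comm_mul_left p1 x2) (comm_inv_left p1)
    have y3 := (v2.rel _ (mem_DD.2 ⟨y1.1, y2⟩)).1
    have y4 := comm_mul_left (comm_mul_left p2 (mem_DD.1 y1).2) (comm_inv_left p2)
    have y5 := nQ _ v1.mz _ hx
    rw [f1 x hx x1 x3, f2 _ y5 (h.le _ y1.1) y2, f3 _ (nQ _ v2.mz _ y5) (h.le _ y3.1)
      (comm_mul_left y4.symm (mem_DD.1 y3).2.symm).symm]; group
  have p4 : m3 * w = w * m3 := e1 ▸ (comm_mul_left v3.mw.symm p3.symm).symm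
  have ca : m3 * m2 * m1 * t * (m3 * m2 * m1)⁻¹ = t := by
    calc _ = m3 * (m2 * (m1 * t * m1⁻¹) * m2⁻¹) * m3⁻¹ := by group
      _ = t * (w' * w) * w * w' := by
        rw [v1.mt, ← conj_mul (b := m2), v2.mt, conj_eq_of_comm p2, ← conj_mul, ← conj_mul, v3.mt, conj_eq_of_comm p4,
          conj_eq_of_comm p3]
      _ = t := by simp only [mul_assoc, ← mul_assoc w w, ww, one_mul, ww', mul_one]
  obtain ⟨k, hk, ek⟩ := exRel h c (g := n3 * n2 * n1) (mem_NS_of_comm (comm_of_conj_eq (by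
    rw [← e.eq t h.tD, tot t aQ, fx t aQ rfl c1 c2, ca])) (comm_mul_left (comm_mul_left z3 z2) z1))
  have tot' : ∀ x ∈ Q, Eqv z ((m3 * m2 * m1)⁻¹ * k * x * ((m3 * m2 * m1)⁻¹ * k)⁻¹) ((m3 * m2 * m1)⁻¹ *
      (m3 * β3 (m2 * β2 (m1 * β1 x * m1⁻¹) * m2⁻¹) * m3⁻¹) * (m3 * m2 * m1)⁻¹⁻¹) := fun x hx => by
    have := e.act _ k ek hk x hx
    rw [tot x hx, ← tz, e.eqv_iff (le xs.z_mem) (le (nQ _ hk.1 _ hx))
      (le (nQ _ v3.mz _ (b3 _ (nQ _ v2.mz _ (b2 _ (nQ _ v1.mz _ (b1 x hx)))))))] at this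
    exact Eqv.trans xs.z_sq (.inl (by group)) (this.conj (comm_inv_left mz))
  have kQ := fix3 h.d (comm_mul_left (comm_inv_left mz) hk.1) aQ wQ wQ' c1 c2 c3.symm fun x hx x1 x2 x3 =>
    (tot' x hx).trans xs.z_sq (.inl (by rw [fx x hx x1 x2 x3]; group))
  have t3 := fun q (q1 : q ∈ Rts M z) => h.rts_V0 q1
  have V1 : z ∈ closure {z, t} := subset_closure (.inl rfl)
  have V2 : t ∈ closure {z, t} := subset_closure (.inr rfl)
  obtain ⟨x, hx, x1, x2, x3⟩ : ∃ x ∈ Q, x * t = t * x ∧ x * w = w * x ∧ x * w' ≠ w' * x := by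
    by_contra! k
    have k3 : ∀ {y}, y ∈ closure {z, t} → ¬ Eqv z w' (y * w) := fun hy k => t3 _ h2 (mul_mem wQ' wQ) r3 (by
      have := k.mul_right (xs.z_comm w wQ)
      rw [mul_assoc, ww, mul_one] at this
      exact this.mem V1 hy)
    rcases three xs aQ wQ aa wQ' k with k | k | k | k
    exacts [t3 _ hw' wQ' r2 (k.mem V1 (one_mem _)), t3 _ hw' wQ' r2 (k.mem V1 V2), k3 (one_mem _) (by simpa using k),
      k3 V2 k]
  have cj : ∀ {m y p p' : B}, m * p * m⁻¹ = p' → (m * y * m⁻¹ * p' = p' * (m * y * m⁻¹) ↔ y * p = p * y) := by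
    rintro m y p _ rfl
    rw [conj_mul, conj_mul, mul_left_inj, mul_right_inj]
  have cb : ∀ {β y p}, PH Q β → y ∈ Q → p ∈ Q → β p = p → (β y * p = p * β y ↔ y * p = p * y) :=
    fun b hy hp k => by rw [← b.comm_iff hy hp, k]
  have cc : ∀ {y p q : B}, y * (p * q) = p * q * y → y * p = p * y → y * q = q * y := fun k1 k2 => by
    rwa [← mul_assoc, k2, mul_assoc, mul_assoc, mul_right_inj] at k1
  have o1 := delta xs a1 b1 g1 aQ wQ' aa ww' c2 f1 hx x1 x3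
  set y := m1 * β1 x * m1⁻¹ with hy
  have yQ : y ∈ Q := nQ _ v1.mz _ (b1 x hx)
  have y1 : y * w = w * y := (cj (conj_eq_of_comm p1)).2 ((cb a1 hx wQ (f1 w wQ c1.symm c3.symm)).2 x2)
  have y2 : y * w' ≠ w' * y := fun k => x3 ((cb a1 hx wQ' (f1 w' wQ' c2.symm rfl)).1 ((cj (conj_eq_of_comm v1.mw)).1 k))
  have y3 : y * t ≠ t * y := fun k => y2 (cc ((cj v1.mt).2 ((cb a1 hx aQ (f1 t aQ rfl c2)).2 x1)) k)
  have o2 := delta xs a2 b2 g2 wQ aQ ww aa c1.symm (fun q q1 q2 q3 => f2 q q1 q3 q2) yQ y1 y3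
  set u := m2 * β2 y * m2⁻¹ with hu
  have uQ : u ∈ Q := nQ _ v2.mz _ (b2 y yQ)
  have u1 : u * w = w * u := (cj (conj_eq_of_comm v2.mw)).2 ((cb a2 yQ wQ (f2 w wQ c1.symm rfl)).2 y1)
  have u2 : w' * u ≠ u * w' := fun k => y2 ((cb a2 yQ wQ' (f2 w' wQ' c2.symm c3)).1 ((cj (conj_eq_of_comm p2)).1 k.symm))
  have u3 : t * u ≠ u * t := fun k => y3 ((cb a2 yQ aQ (f2 t aQ rfl c1)).1 ((cj v2.mt).1 (comm_mul_left k u1.symm).symm))
  have o3 := delta xs a3 b3 g3 (mul_mem aQ (mul_mem wQ' wQ)) aQ c5 aa (comm_mul_left rfl c4.symm)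
    (fun q q1 q2 q3 => f3 q q1 q3 (cc q2 q3)) uQ (by
      rw [← mul_assoc t]; exact (comm_mul_left (xs.mul_comm_of_not_comm uQ aQ wQ' u3 u2) u1.symm).symm) u3.symm
  have o4 : (m2 * m1)⁻¹ * (u⁻¹ * β3 u) * (m2 * m1)⁻¹⁻¹ ∈ closure {z, t} := by
    have t1 := conj_eq_of_comm (comm_inv_left (comm_mul_left v2.mz v1.mz))
    have t2 : (m2 * m1)⁻¹ * (t * (w' * w)) * (m2 * m1)⁻¹⁻¹ = t := by
      rw [c3, ← mul_assoc t, ← v2.mt, ← conj_eq_of_comm p2, conj_mul, ← v1.mt]; group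
    rcases (mem_closure_four xs.z_sq c5 (xs.z_comm _ (mul_mem aQ (mul_mem wQ' wQ)))).1 o3 with
      k | k | k | k <;> rw [k]
    exacts [by simp, t1.symm ▸ V1, t2.symm ▸ V2, by rw [← conj_mul, t1, t2]; exact mul_mem V1 V2]
  have o5 := ((((tot' x hx).symm xs.z_sq).trans xs.z_sq (xs.conj kQ hx)).mul_left x⁻¹).mem V1
    (by rw [inv_mul_cancel]; exact one_mem _)
  have o6 : m1⁻¹ * (y⁻¹ * β2 y) * m1⁻¹⁻¹ ∈ closure {z, t} := by
    convert mul_mem (mul_mem (inv_mem o1) o5) (inv_mem o4) using 1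
    rw [hu, hy]
    group
  refine ⟨m2, n2, v2.mz, v2.mt, z2, fun p hp => ?_⟩
  have o7 : Eqv z (β2 y) y := by
    have t1 := conj_eq_of_comm (comm_inv_left v1.mz)
    have t2 := conj_eq_of_comm (comm_inv_left p1)
    rcases (mem_closure_four xs.z_sq ww (xs.z_comm _ wQ)).1 o2 with k | k | k | k
    · exact .inl (inv_mul_eq_one.1 k).symm
    · exact .inr (inv_mul_eq_iff_eq_mul.1 k)
    · exact absurd (by rwa [k, t2] at o6) (t3 w hw wQ r1)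
    · rw [k, ← conj_mul, t1, t2] at o6
      exact absurd ((mul_mem_cancel_left V1).1 o6) (t3 w hw wQ r1)
  rw [d2 p hp, ← tz, e.eqv_iff (le xs.z_mem) (le (nQ _ v2.mz _ hp)) (le (nQ _ v2.mz _ (b2 p hp)))]
  exact ((triv xs a2 b2 g2 aQ wQ ww f2 yQ y3 y1 o7 hp).symm xs.z_sq).conj v2.mz

omit h c e in
theorem exists_act (h : BM z t Q M γ φ) (c : Cht t M j) (e : Xt z t Q M j Θ) (g : Co2) :
    ∃ n, Act (j z) (fun v => Θ (φ v)) n g := by
  have d := h.d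
  have xs := h.xs
  have le : Q ≤ DD M z ⊔ Q := le_sup_right
  have tz := e.eq z h.zD
  have zz : j z * j z = 1 := tz ▸ (e.sq_iff (le xs.z_mem)).2 xs.z_sq
  have ev : ∀ {x y}, x ∈ Q → y ∈ Q → Eqv z x y → Eqv (j z) (Θ x) (Θ y) := fun hx hy k =>
    tz ▸ (e.eqv_iff (le xs.z_mem) (le hx) (le hy)).2 k
  let Γ : Subgroup Co2 :=
    { carrier := {g | ∃ n, Act (j z) (fun v => Θ (φ v)) n g}
      one_mem' := ⟨1, by simp, fun v w k => .inl (by simp [show w = v from Subtype.ext (by simpa using k.symm)])⟩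
      mul_mem' := fun {g g'} ⟨n, a⟩ ⟨n', b⟩ => ⟨n * n', comm_mul_left a.1 b.1, fun v w k =>
        (a.2 (BO.sm _ (co2Incl_u g') v) w (by rw [← k, map_mul, mul_smul]; rfl)).trans zz
          (((b.2 v _ rfl).conj a.1).trans zz (.inl (by group)))⟩
      inv_mem' := fun {g} ⟨n, a⟩ => ⟨n⁻¹, comm_inv_left a.1, fun v w k => by
        have := (a.2 w v (by rw [← k, map_inv, smul_inv_smul])).conj (comm_inv_left a.1)
        exact (Eqv.trans zz this (.inl (by group))).symm zz⟩ }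
  obtain ⟨w, hw, w', hw', h2, wQ, wQ', r1, r2, r3⟩ := h.exists_line
  obtain ⟨m, n, m1, m2, m3, m4⟩ := tri h c e hw wQ hw' wQ' h2 r1 r2 r3
  obtain ⟨v, hv, ev'⟩ := (h.root w wQ r1).1 hw
  let k : centralizer ({z} : Set B) := ⟨m, mem_centralizer_singleton_iff.2 m1⟩
  refine (top_of_move (Γ := Γ) (fun g hg => ?_) (g := γ k) ⟨n, m3, fun v w e' =>
    (ev (d.mem _) (d.lx.norm _ m1 _ (d.mem v)) (d.conj k v w e')).trans zz (m4 _ (d.mem v))⟩ hv ?_).ge (mem_top g)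
  · obtain ⟨k, k1, k2⟩ := h.exists_lift (co2Incl_u g) hg
    have kz := (mem_DD.1 k1).2
    refine ⟨Θ k, tz ▸ (e.comm_iff (mem_sup_left k1) (le xs.z_mem)).2 kz, fun v w e' => ?_⟩
    rw [← e.conj (mem_sup_left k1) (le (d.mem v))]
    exact ev (d.mem _) (d.lx.norm _ kz _ (d.mem v)) (d.conj k v w (by rw [← co2Incl_smul, k2, e']))
  have s1 : Eqv z (φ (BO.sm _ (co2Incl_u (γ k)) xP)) (φ (xP + v)) := by
    refine ((d.conj_eqv k h.tφ).symm xs.z_sq).trans xs.z_sq ((Eqv.trans xs.z_sq ?_ ((d.add xP v).symm xs.z_sq)))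
    rw [show (k : B) * t * (k : B)⁻¹ = t * w from m2]
    exact (ev'.mul_left t).trans xs.z_sq (h.tφ.mul_right (xs.z_comm _ (d.mem v)))
  have n1 : nm (co2Incl (γ k) • x16) = 32 := by rw [nm_smul]; decide
  have n2 : dt leechU (co2Incl (γ k) • x16) = 16 := by
    rw [← co2Incl_u (γ k), dt_smul]; exact dot_U_x16
  have n3 : nm x16 = 32 := by decide
  have n4 : dt leechU x16 = 16 := dot_U_x16
  have n5 : nm leechU = 32 := sqNorm_leechU
  have n6 : dt leechU (x16 - v) = 16 := by rw [dt_sub_right, n4, hv.2.1]; rfl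
  have n7 : nm (x16 - v) = 32 := by rw [nm_sub, n3, hv.1, hv.2.2]; rfl
  rcases d.eqv_iff.1 s1 with ⟨y, hy⟩ | ⟨y, hy⟩
  · refine .inl ((eq_or_neg_of_congr (y := y + v) (n1.trans_lt (by norm_num)) (n7.trans_le (by norm_num)) ?_).resolve_right fun k => ?_)
    · rw [show y + v + (y + v) = y + y + v + v by abel, ← hy]
      show _ = co2Incl (γ k) • x16 - (x16 + v) + v + v
      abel
    · rw [k, dt_neg_right, n6] at n2; omega
  · refine .inr ((eq_or_neg_of_congr (y := y + x16) (n1.trans_lt (by norm_num)) ?_ ?_).resolve_right fun k => ?_)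
    · exact (nm_sub leechU (x16 - v)).trans_le (by omega)
    · rw [show y + x16 + (y + x16) = leechU + (y + y) + x16 + x16 - leechU by abel, ← hy]
      show _ = co2Incl (γ k) • x16 - (x16 + v) + x16 + x16 - leechU
      abel
    · rw [k, dt_neg_right, dt_sub_right, n6, dt_self, n5] at n2; omega

end Cfsg.Agent.Std2E
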