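import Cfsg.Agent.Std2B.Defs
import Cfsg.Agent.MonU.BOrb
import Cfsg.Agent.Mon.LCnt

/-! The Baby Monster seen from a `{3,4}`-transposition `t`: `M = 2.²E₆(2)` in `C(t)`, and charts of `M`. -/

set_option autoImplicit false

namespace Cfsg.Agent.Std2E

open Cfsg Cfsg.Spor Cfsg.Agent.Spor Cfsg.Agent.Spor.Leech Cfsg.Agent.TT Cfsg.Agent.LES Cfsg.Agent.Mon Cfsg.Agent.Mon.LC
  Cfsg.Agent.Std2B Subgroup

/-- The short vector with inner product 16 with `u`. -/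
def xP : leechPerpU := ⟨x16, BabyData.mem_perp.2 (by rw [dotInt_comm, dot_U_x16])⟩

/-- Vectors giving the transpositions in `Q`. -/
def TyT (v : leechPerpU) : Prop := nm v = 32 ∧ dt leechU v = 16

/-- Vectors giving the conjugates of `z` in `Q`. -/
def TyB (v : leechPerpU) : Prop := nm v = 32 ∧ dt leechU v = 0

/-- Vectors giving the root involutions of `M` in `Q`. -/
def TyR (v : leechPerpU) : Prop := nm v = 32 ∧ dt leechU v = 0 ∧ dt x16 v = 16

variable {B : Type*} [Group B] {G : Type*} [Group G]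

/-- `x` lies over a vector with property `P`. -/
def Ov (z : B) (φ : leechPerpU → B) (P : leechPerpU → Prop) (x : B) : Prop := ∃ v, P v ∧ Eqv z x (φ v)

/-- The third kind of non-central involutions of `Q`. -/
def IsD (z : B) (Q : Subgroup B) (φ : leechPerpU → B) (x : B) : Prop :=
  x ∈ Q ∧ x * x = 1 ∧ ¬ Eqv z x 1 ∧ ¬ Ov z φ TyT x ∧ ¬ Ov z φ TyB x

/-- The root involutions of `M`. -/
def Rts (M : Subgroup B) (z : B) : Set B := {w | ∃ m ∈ M, m * z * m⁻¹ = w}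

/-- `C_M(w)`. -/
def DD (M : Subgroup B) (w : B) : Subgroup B := M ⊓ centralizer {w}

theorem mem_DD {M : Subgroup B} {w x : B} : x ∈ DD M w ↔ x ∈ M ∧ x * w = w * x :=
  and_congr_right fun _ => mem_centralizer_singleton_iff

theorem Rts.conj {M : Subgroup B} {z w m : B} (hw : w ∈ Rts M z) (hm : m ∈ M) :
    m * w * m⁻¹ ∈ Rts M z := by
  obtain ⟨k, hk, rfl⟩ := hw
  exact ⟨m * k, mul_mem hm hk, by group⟩

theorem self_mem_Rts (M : Subgroup B) (z : B) : z ∈ Rts M z := ⟨1, one_mem _, by simp⟩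

/-- The model: what is used about the Baby Monster. -/
structure BM (z t : B) (Q M : Subgroup B) (γ : centralizer ({z} : Set B) →* Co2)
    (φ : leechPerpU → B) : Prop where
  d : BabyData z Q γ φ
  tφ : Eqv z t (φ xP)
  le : ∀ m ∈ M, m * t = t * m
  memD : ∀ k : centralizer ({z} : Set B), (k : B) * t = t * k →
    ((k : B) ∈ M ↔ co2Incl (γ k) • x16 = x16)
  odd : Odd (Rts M z).ncard
  root : ∀ w ∈ Q, w ≠ z → (w ∈ Rts M z ↔ Ov z φ TyR w)
  nz : ∀ w ∈ Rts M z, w * z = z * w → w * z ∈ Rts M z → w ∈ Q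
  gen : ∀ w ∈ Rts M z, w ∈ Q → w ≠ z → M ≤ DD M z ⊔ DD M w
  clsA : ∀ l ∈ M, l * l = 1 → ∃ m ∈ M, m * l * m⁻¹ ∈ Q
  clsB : ∃ y, ∀ l ∈ M, l * l = 1 → l = 1 ∨ l = t ∨ l ∈ Rts M z ∨ t * l ∈ Rts M z ∨
    ∃ m ∈ M, m * l * m⁻¹ = y ∨ m * l * m⁻¹ = t * y ∨ m * l * m⁻¹ = t * l

/-- A chart: `j` maps `M` onto a self-centralising normal subgroup of `C_G(j t)`. -/
structure Cht (t : B) (M : Subgroup B) (j : B → G) : Prop extends PH M j where
  nrm : ∀ g, g * j t = j t * g → ∀ m ∈ M, ∃ m' ∈ M, g * j m * g⁻¹ = j m'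
  cen : ∀ g, (∀ m ∈ M, g * j m = j m * g) → ∃ m ∈ M, j m = g

/-- `g` acts on the chart of `D` as `k`. -/
def Rel (D : Subgroup B) (j : B → G) (g : G) (k : B) : Prop :=
  ∀ x ∈ D, k * x * k⁻¹ ∈ D ∧ g * j x * g⁻¹ = j (k * x * k⁻¹)

namespace Rel

variable {D : Subgroup B} {j : B → G} {g g' : G} {k k' : B}

theorem one : Rel D j 1 1 := fun x hx => by simp [hx]

theorem mul (h : Rel D j g k) (h' : Rel D j g' k') : Rel D j (g * g') (k * k') := fun x hx => by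
  obtain ⟨a, b⟩ := h _ (h' x hx).1
  refine ⟨by simpa [mul_assoc] using a, ?_⟩
  calc _ = g * (g' * j x * g'⁻¹) * g⁻¹ := by group
    _ = _ := by rw [(h' x hx).2, b]; congr 1; group

theorem inv [Finite B] (h : Rel D j g k) : Rel D j g⁻¹ k⁻¹ := fun x hx => by
  have hs : Function.Surjective fun y : D => (⟨k * y * k⁻¹, (h y y.2).1⟩ : D) :=
    Finite.surjective_of_injective fun a b e => Subtype.ext (by simpa using congrArg Subtype.val e)
  obtain ⟨y, hy⟩ := hs ⟨x, hx⟩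
  obtain rfl : k * y * k⁻¹ = x := congrArg Subtype.val hy
  rw [← (h y y.2).2, show k⁻¹ * (k * y * k⁻¹) * k⁻¹⁻¹ = y by group]
  exact ⟨y.2, by group⟩

theorem of_mem {S : Subgroup B} (p : PH S j) (hD : D ≤ S) (hk : k ∈ D) : Rel D j (j k) k :=
  fun _ hx => ⟨mul_mem (mul_mem hk hx) (inv_mem hk), (p.conj (hD hk) (hD hx)).symm⟩

end Rel

/-- `Θ` extends the chart from `D = C_M(z)` to `D Q`. -/
structure Xt (z t : B) (Q M : Subgroup B) (j Θ : B → G) : Prop extends PH (DD M z ⊔ Q) Θ where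
  eq : ∀ x ∈ DD M z, Θ x = j x
  onto : ∀ g k, Rel (DD M z) j g k → k ∈ Q → ∃ y ∈ Q, Θ y = g
  act : ∀ g k, Rel (DD M z) j g k → k ∈ NS z t → ∀ x ∈ Q,
    Eqv (j z) (Θ (k * x * k⁻¹)) (g * Θ x * g⁻¹)

/-- `n` centralises `z` and acts on the image of `φ` modulo `z` as `g`. -/
def Act (z : G) (φ : leechPerpU → G) (n : G) (g : Co2) : Prop :=
  n * z = z * n ∧ ∀ v w : leechPerpU, co2Incl g • (v : leechLattice) = w → Eqv z (φ w) (n * φ v * n⁻¹)

end Cfsg.Agent.Std2E
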