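import Cfsg.Agent.Std2B.ParL
import Cfsg.Agent.Mon.LCnt
import Cfsg.Agent.Mon.BSimple

/-! Leech lattice lemmas for the parity argument in the Baby Monster case. -/

set_option autoImplicit false

namespace Cfsg.Agent.Std2E

open Cfsg Cfsg.Spor Cfsg.Agent.LES Cfsg.Agent.Spor Cfsg.Agent.Spor.Leech Cfsg.Agent.Mon

local notation "nm" x:max => sqNorm ((x : leechLattice) : GolayPt → ℤ)
local notation "dt" x:max y:max =>
  dotInt ((x : leechLattice) : GolayPt → ℤ) ((y : leechLattice) : GolayPt → ℤ)

/-- The `4600` short vectors of inner product `16` with `u`. -/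
structure S16 (x : leechLattice) : Prop where
  norm : nm x = 32
  dot : dt leechU x = 16

theorem s16_iff {x : leechLattice} : S16 x ↔ nm x = 32 ∧ dt leechU x = 16 :=
  ⟨fun h => ⟨h.1, h.2⟩, fun h => ⟨h.1, h.2⟩⟩

theorem x16_mem : S16 x16 := ⟨sqNorm_x16, dot_U_x16⟩

theorem perp_iff {x : leechLattice} : x ∈ leechPerpU ↔ dt leechU x % 16 = 0 := by
  rw [BabyData.mem_perp, dotInt_comm]; omega

theorem S16.perp {x : leechLattice} (h : S16 x) : x ∈ leechPerpU := perp_iff.2 (by rw [h.2]; rfl)

theorem dt_fix {g : Co0} (hg : g • leechU = leechU) (x : leechLattice) :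
    dt leechU (g • x) = dt leechU x := by
  rw [← dotInt_smul g leechU x, hg]

theorem smul_perp {g : Co0} (hg : g • leechU = leechU) {x : leechLattice} (h : x ∈ leechPerpU) :
    g • x ∈ leechPerpU := perp_iff.2 (dt_fix hg x ▸ perp_iff.1 h)

theorem S16.smul {g : Co0} (hg : g • leechU = leechU) {x : leechLattice} (h : S16 x) :
    S16 (g • x) := ⟨(sqNorm_smul g x).trans h.1, (dt_fix hg x).trans h.2⟩

theorem S16.sub {x : leechLattice} (h : S16 x) : S16 (leechU - x) := by
  have := h.1; have := h.2; have := sqNorm_leechU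
  constructor
  · rw [AddSubgroup.coe_sub, sqNorm_sub]; omega
  · rw [AddSubgroup.coe_sub, dotInt_sub_right, dotInt_self]; omega

theorem S16.eq_of_congr {x y : leechLattice} (hx : S16 x) (hy : S16 y)
    (h : (∃ w, x - y = w + w) ∨ ∃ w, x - y = leechU + (w + w)) : x = y ∨ x = leechU - y := by
  have key : ∀ {y : leechLattice}, S16 y → ∀ w, x - y = w + w → x = y := fun {y} hy w e =>
    (eq_or_neg_of_congr (by have := hx.1; omega) (by have := hy.1; omega) e).resolve_right fun a => by
      have := hx.2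
      rw [a, AddSubgroup.coe_neg, dotInt_neg_right] at this
      have := hy.2; omega
  rcases h with ⟨w, e⟩ | ⟨w, e⟩
  · exact .inl (key hy w e)
  · exact .inr (key hy.sub (w + y) (by rw [eq_add_of_sub_eq e]; abel))

theorem exists_zero {r : leechLattice} (hr : nm r = 32) {p : GolayPt}
    (hp : (r : GolayPt → ℤ) p % 2 = 0) : ∃ q, (r : GolayPt → ℤ) q = 0 := by
  obtain ⟨c, -, h, -⟩ := LL.even_of_zero r.2 hp
  by_contra hc
  push Not at hc
  have : ∑ _i : GolayPt, (4 : ℤ) ≤ sqNorm (r : GolayPt → ℤ) := Finset.sum_le_sum fun i _ => by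
    have a := h i
    have b := hc i
    have : (r : GolayPt → ℤ) i ≤ -2 ∨ 2 ≤ (r : GolayPt → ℤ) i := by split_ifs at a <;> omega
    rcases this with e | e <;> nlinarith
  rw [Finset.sum_const, Finset.card_univ, Leech.card_golayPt] at this
  simp at this; omega

/-- The vector `a e_i + b e_j`. -/
def vab (i j : GolayPt) (a b : ℤ) (ha : a = 4 ∨ a = -4) (hb : b = 4 ∨ b = -4) : leechLattice :=
  ⟨Pi.single i a + Pi.single j b, single_add_single_mem_leech i j (by omega) (by omega) (by omega)⟩

theorem nm_vab {i j : GolayPt} (h : i ≠ j) {a b : ℤ} (ha : a = 4 ∨ a = -4) (hb : b = 4 ∨ b = -4) :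
    nm (vab i j a b ha hb) = 32 :=
  (sqNorm_single_add_single h _ _).trans (by rcases ha with rfl | rfl <;> rcases hb with rfl | rfl <;> rfl)

theorem dt_vab (x : leechLattice) {i j : GolayPt} {a b : ℤ} (ha : a = 4 ∨ a = -4) (hb : b = 4 ∨ b = -4) :
    dt x (vab i j a b ha hb) = (x : GolayPt → ℤ) i * a + (x : GolayPt → ℤ) j * b := by
  show dotInt _ (_ + _) = _
  rw [dotInt_add_right, dotInt_single_right, dotInt_single_right]

theorem sgn_vab {c : Finset GolayPt} (hc : c ∈ GC) {i j : GolayPt} (hi : i ∉ c) (hj : j ∉ c) {a b : ℤ}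
    (ha : a = 4 ∨ a = -4) (hb : b = 4 ∨ b = -4) : sgn c hc • vab i j a b ha hb = vab i j a b ha hb :=
  Subtype.ext (funext fun l => by
    rw [sgn_smul]
    split_ifs with d
    · have : l ≠ i := fun e => hi (e ▸ d)
      have : l ≠ j := fun e => hj (e ▸ d)
      simp [vab, *]
    · rfl)

/-- An involution of `Co2` fixes one of the `4600` vectors. -/
theorem exists_fix {h : Co0} (hh : h * h = 1) (hu : h • leechU = leechU) : ∃ v, S16 v ∧ h • v = v := by
  obtain ⟨c, hc, e⟩ := XSC.C1.good_of_sq hh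
  obtain ⟨g, rfl⟩ := isConj_iff.1 e.symm
  rcases c.eq_empty_or_nonempty with rfl | ⟨p, hp⟩
  · exact ⟨x16, x16_mem, by rw [XSC.C1.sgn_empty, mul_one, mul_inv_cancel, one_smul]⟩
  obtain ⟨r, hr⟩ : ∃ r, g • r = leechU := ⟨_, smul_inv_smul g _⟩
  have h1 : nm r = 32 := (sqNorm_smul g r).symm.trans (hr ▸ sqNorm_leechU)
  rw [← hr, mul_smul, mul_smul, inv_smul_smul, smul_left_cancel_iff] at hu
  have h2 : ∀ i ∈ c, (r : GolayPt → ℤ) i = 0 := fun i hi => by
    have := sgn_smul c hc r i
    rw [hu, if_pos hi] at this; omega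
  suffices ∃ v, nm v = 32 ∧ dt r v = 16 ∧ sgn c hc • v = v by
    obtain ⟨v, a, b, d⟩ := this
    exact ⟨g • v, ⟨(sqNorm_smul g v).trans a, by rw [← hr]; exact (dotInt_smul g r v).trans b⟩,
      by rw [mul_smul, mul_smul, inv_smul_smul, d]⟩
  rcases LL.short_cases r.2 h1 (h2 p hp) with ⟨i, hi⟩ | ⟨o, -, h8, h3, -⟩
  · obtain ⟨j, -, -, h3⟩ := LC.exists_shape h1 hi
    have ic : i ∉ c := fun a => by have := h2 i a; omega
    obtain ⟨k, k1, k2⟩ := Finset.exists_mem_notMem_of_card_lt_card (s := {i, j}) (t := cᶜ)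
      (Finset.card_le_two.trans_lt (by
        have := GC_eight_le (GC_compl hc) ⟨i, Finset.mem_compl.2 ic⟩; omega))
    simp only [Finset.mem_insert, Finset.mem_singleton, not_or] at k2
    refine ⟨vab i k _ 4 hi (.inl rfl), nm_vab (Ne.symm k2.1) _ _, ?_,
      sgn_vab hc ic (Finset.mem_compl.1 k1) _ _⟩
    rw [dt_vab, h3 k k2.1 k2.2]
    rcases hi with a | a <;> rw [a] <;> rfl
  · obtain ⟨i, hi, j, hj, ij⟩ := Finset.one_lt_card.1 (show 1 < o.card by omega)
    have a := h3 i hi
    have b := h3 j hj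
    refine ⟨vab i j (2 * (r : GolayPt → ℤ) i) (2 * (r : GolayPt → ℤ) j) (by omega) (by omega),
      nm_vab ij _ _, ?_, sgn_vab hc (fun d => by have := h2 i d; omega)
        (fun d => by have := h2 j d; omega) _ _⟩
    rw [dt_vab]
    rcases a with a | a <;> rcases b with b | b <;> rw [a, b] <;> rfl

/-- A quadratic form on `u^⊥ / u` in `Λ / 2Λ` which is constant on the `4600` vectors. -/
structure QF (f : leechLattice → ZMod 2) : Prop where
  two : ∀ v ∈ leechPerpU, ∀ w, f (v + (w + w)) = f v
  u : ∀ v ∈ leechPerpU, f (v + leechU) = f v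
  quad : ∀ x ∈ leechPerpU, ∀ y ∈ leechPerpU, ∀ w ∈ leechPerpU,
    f (x + y + w) + f x + f y + f w = f (x + y) + f (x + w) + f (y + w)
  const : ∀ v, S16 v → f v = f x16

namespace QF

variable {f : leechLattice → ZMod 2} (h : QF f)
include h

theorem comp {g : Co0} (hg : g • leechU = leechU) : QF fun v => f (g • v) where
  two v hv w := by simpa only [smul_add] using h.two _ (smul_perp hg hv) (g • w)
  u v hv := by simpa only [smul_add, hg] using h.u _ (smul_perp hg hv)
  quad x hx y hy w hw := by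
    simpa only [smul_add] using h.quad _ (smul_perp hg hx) _ (smul_perp hg hy) _ (smul_perp hg hw)
  const v hv := (h.const _ (hv.smul hg)).trans (h.const _ (x16_mem.smul hg)).symm

theorem congr {x y : leechLattice} (hy : y ∈ leechPerpU) (w : leechLattice) (e : x - y = w + w) :
    f x = f y := by rw [← h.two y hy w, ← e, add_sub_cancel]

theorem zero : f 0 = 0 := by
  have := h.quad 0 (zero_mem _) 0 (zero_mem _) 0 (zero_mem _)
  simp only [add_zero] at this
  linear_combination this

theorem sum_bil {w : leechLattice} (hw : w ∈ leechPerpU) {d : ZMod 2} (L : List leechLattice)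
    (hL : ∀ t ∈ L, S16 t ∧ f (t + w) + f t + f w = d) :
    L.sum ∈ leechPerpU ∧ f (L.sum + w) + f L.sum + f w = L.length * d := by
  have two : (2 : ZMod 2) = 0 := rfl
  induction L with
  | nil => exact ⟨zero_mem _, by
      simp only [List.sum_nil, zero_add, h.zero, List.length_nil]; linear_combination f w * two⟩
  | cons t L ih =>
    obtain ⟨a, b⟩ := ih fun t ht => hL t (List.mem_cons_of_mem _ ht)
    obtain ⟨c, e⟩ := hL t List.mem_cons_self
    refine ⟨add_mem c.perp a, ?_⟩
    rw [List.sum_cons, List.length_cons]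
    push_cast
    linear_combination h.quad t c.perp _ a w hw + b + e +
      (f (t + L.sum) - f t - f L.sum - f w) * two

omit h in
theorem o7 : setOf' 8394986 ∈ GC := setOf'_mem_codeSets (by decide +kernel)

omit h in
theorem sum7 : ([1, 3, 5, 6, 7, 11, 12].map fun k => v44 none (some k) 4 rfl).sum =
    e8 none + ((two_ind _ o7 + e8 none) + (two_ind _ o7 + e8 none)) :=
  Subtype.ext (by decide)

theorem e8_zero : f (e8 none) = 0 := by
  have two : (2 : ZMod 2) = 0 := rfl
  have hw : e8 none ∈ leechPerpU := perp_iff.2 (by decide)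
  have := (h.sum_bil hw (d := f (e8 none)) ([1, 3, 5, 6, 7, 11, 12].map fun k => v44 none (some k) 4 rfl)
    fun t ht => by
      obtain ⟨k, hk, rfl⟩ := List.mem_map.1 ht
      have a : S16 (v44 none (some k) 4 rfl) ∧ S16 (v44 none (some k) (-4) rfl) ∧
          v44 none (some k) 4 rfl + e8 none = v44 none (some k) (-4) rfl +
            (v44 none (some k) 4 rfl + v44 none (some k) 4 rfl) := by
        simp only [s16_iff, Subtype.ext_iff]
        revert k; decide
      rw [a.2.2, h.two _ a.2.1.perp, h.const _ a.1, h.const _ a.2.1]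
      exact ⟨a.1, by linear_combination f x16 * two⟩).2
  rw [sum7, h.two _ hw, h.congr (zero_mem _) (two_ind _ o7 + e8 none + e8 none) (by abel),
    h.zero] at this
  simp only [List.length_map, List.length_cons, List.length_nil] at this
  push_cast at this
  linear_combination -this - 2 * f (e8 none) * two

theorem orth_zero {x : leechLattice} (h1 : nm x = 32) (h2 : dt leechU x = 0) : f x = 0 := by
  obtain ⟨g, a, b⟩ := exists_std_pair sqNorm_leechU h1 h2
  have a' : g⁻¹ • leechU = leechU := inv_smul_eq_iff.2 a.symm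
  have := (h.comp a').e8_zero
  rwa [← leechU_add, add_comm, smul_add, a', ← b, inv_smul_smul,
    h.u _ (perp_iff.2 (by rw [h2]; rfl))] at this

theorem sum_eq (L : List leechLattice) (h1 : ∀ t ∈ L, S16 t)
    (h2 : L.Pairwise fun s t => dt s t = 16) : f L.sum = L.length * f x16 := by
  have two : (2 : ZMod 2) = 0 := rfl
  induction L with
  | nil => simpa using h.zero
  | cons t L ih =>
    rw [List.pairwise_cons] at h2
    have ht := h1 t List.mem_cons_self
    have a := (h.sum_bil ht.perp (d := 0) L fun s hs => by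
      have hs' := h1 s (List.mem_cons_of_mem _ hs)
      have b := h2.1 s hs
      have := hs'.1; have := ht.1; have := hs'.2; have := ht.2
      refine ⟨hs', ?_⟩
      rw [show s + t = s - t + (t + t) by abel, h.two _ (sub_mem hs'.perp ht.perp),
        h.orth_zero (x := s - t) (by rw [AddSubgroup.coe_sub, sqNorm_sub, dotInt_comm]; omega)
          (by rw [AddSubgroup.coe_sub, dotInt_sub_right]; omega), h.const _ hs', h.const _ ht]
      linear_combination f x16 * two).2
    rw [List.sum_cons, List.length_cons, add_comm t]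
    push_cast
    linear_combination a + ih (fun s hs => h1 s (List.mem_cons_of_mem _ hs)) h2.2 + h.const _ ht -
      (f L.sum + f t) * two

theorem x16_zero : f x16 = 0 := by
  have two : (2 : ZMod 2) = 0 := rfl
  have := h.sum_eq ([1, 3, 5, 6, 7, 11, 12].map fun k => v44 none (some k) 4 rfl)
    (by simp only [s16_iff]; decide) (by decide)
  rw [sum7, h.two _ (perp_iff.2 (by decide)), h.e8_zero] at this
  simp only [List.length_map, List.length_cons, List.length_nil] at this
  push_cast at this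
  linear_combination -this - 3 * f x16 * two

theorem zero_64 {x : leechLattice} (hx : x ∈ leechPerpU) (h1 : nm x = 64) : f x = 0 := by
  obtain ⟨g, rfl⟩ := trans_64 (sqNorm_e8 none) h1
  obtain ⟨r, hr⟩ : ∃ r, g • r = leechU := ⟨_, smul_inv_smul g _⟩
  have h2 : nm r = 32 := (sqNorm_smul g r).symm.trans (hr ▸ sqNorm_leechU)
  have hd : ∀ y, dt leechU (g • y) = dt r y := fun y => hr ▸ dotInt_smul g r y
  have h3 := perp_iff.1 hx
  rw [hd, coe_e8, dotInt_single_right] at h3
  obtain ⟨p, hp⟩ := exists_zero h2 (p := none) (by omega)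
  rcases LL.short_cases r.2 h2 hp with ⟨i, hi⟩ | ⟨o, -, h8, h4, -⟩
  · obtain ⟨y, hy⟩ := e8_congr none i
    have h5 := sqNorm_e8 i
    have h6 : dt r (e8 i) = (r : GolayPt → ℤ) i * 8 := dotInt_single_right _ _ _
    have key : ∀ s : leechLattice, nm s = 32 → dt r s = 0 → ∀ w, e8 none - (s + r) = w + w →
        f (g • e8 none) = 0 := fun s a b w e => by
      have c : g • s ∈ leechPerpU := perp_iff.2 (by rw [hd, b]; rfl)
      rw [h.congr (add_mem c (perp_iff.2 (by decide) : leechU ∈ _)) (g • w)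
        (by rw [← hr, ← smul_add, ← smul_sub, e, smul_add]), h.u _ c]
      exact h.orth_zero ((sqNorm_smul g s).trans a) ((hd s).trans b)
    rcases hi with a | a
    · exact key (e8 i - r) (by rw [AddSubgroup.coe_sub, sqNorm_sub, dotInt_comm]; omega)
        (by rw [AddSubgroup.coe_sub, dotInt_sub_right, dotInt_self]; omega) y
        (by rw [sub_add_cancel, hy, two_smul])
    · exact key (e8 i + r) (by rw [AddSubgroup.coe_add, sqNorm_add, dotInt_comm]; omega)
        (by rw [AddSubgroup.coe_add, dotInt_add_right, dotInt_self]; omega) (y - r)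
        (by rw [sub_add_sub_comm, ← two_smul ℕ y, ← hy]; abel)
  obtain ⟨i, hi, j, hj, k, hk, ij, ik, jk⟩ := Finset.two_lt_card.1 (show 2 < o.card by omega)
  have q : ∀ {i}, i ∈ o → 2 * (r : GolayPt → ℤ) i = 4 ∨ 2 * (r : GolayPt → ℤ) i = -4 := fun a => by
    have := h4 _ a; omega
  have q2 : ∀ {i}, i ∈ o → (r : GolayPt → ℤ) i * (2 * (r : GolayPt → ℤ) i) = 8 := fun a => by
    rcases h4 _ a with e | e <;> rw [e] <;> rfl
  have m : ∀ {i j} (a : i ∈ o) (b : j ∈ o), i ≠ j → S16 (g • vab i j _ _ (q a) (q b)) :=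
    fun a b e => ⟨(sqNorm_smul _ _).trans (nm_vab e _ _), by rw [hd, dt_vab, q2 a, q2 b]; rfl⟩
  have := h.sum_eq [g • vab i j _ _ (q hi) (q hj), g • vab i k _ _ (q hi) (q hk),
    g • vab j k _ _ (q hj) (q hk)] (by simp [m hi hj ij, m hi hk ik, m hj hk jk]) (by
      have a := q2 hi; have b := q2 hj; have c := q2 hk
      simp only [List.pairwise_cons, List.mem_cons, List.not_mem_nil, or_false, forall_eq_or_imp,
        forall_eq, dotInt_smul, List.Pairwise.nil, and_true, false_imp_iff, implies_true]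
      refine ⟨⟨?_, ?_⟩, ?_⟩ <;> refine (dt_vab _ _ _).trans ?_ <;>
        simp [vab, ij, ik, jk, ij.symm, ik.symm, jk.symm] <;> linarith)
  rw [h.x16_zero, mul_zero] at this
  rw [← this]
  symm
  have c : ∀ {i}, (a : i ∈ o) → ∃ w : leechLattice, (w : GolayPt → ℤ) + (w : GolayPt → ℤ) =
      Pi.single i (4 * (r : GolayPt → ℤ) i) - Pi.single none 8 := fun {i} a =>
    ⟨vab i none _ (-4) (q a) (.inr rfl), by
      simp only [vab]
      rw [add_add_add_comm, ← Pi.single_add, ← Pi.single_add, sub_eq_add_neg, ← Pi.single_neg]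
      congr 2; ring⟩
  obtain ⟨a, ha⟩ := c hi
  obtain ⟨b, hb⟩ := c hj
  obtain ⟨d, hd⟩ := c hk
  refine h.congr hx (g • (a + b + d + e8 none)) ?_
  simp only [List.sum_cons, List.sum_nil, add_zero, ← smul_add, ← smul_sub, smul_left_cancel_iff]
  rw [show a + b + d + e8 none + (a + b + d + e8 none) =
    (a + a) + (b + b) + (d + d) + (e8 none + e8 none) by abel]
  refine Subtype.ext (funext fun l => ?_)
  simp only [AddSubgroup.coe_add]
  rw [ha, hb, hd]
  simp only [vab, coe_e8, AddSubgroup.coe_sub, AddSubgroup.coe_add, Pi.add_apply, Pi.sub_apply, Pi.single_apply]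
  split_ifs <;> ring

theorem sing {v : leechLattice} (hp : v ∈ leechPerpU) (hv : nm v % 32 = 0) : f v = 0 := by
  obtain ⟨y, a, x, b⟩ := isLeechForm.exists_short v
  rw [dotForm_apply, dotInt_self] at a
  have e : v = y + (x + x) := by rw [← two_smul ℕ x, ← b]; abel
  have c1 := sixteen_dvd_sqNorm x.2
  have c2 := eight_dvd_dotInt y.2 x.2
  have c3 := eight_dvd_dotInt leechU.2 x.2
  have c4 := perp_iff.1 hp
  rw [e, AddSubgroup.coe_add, AddSubgroup.coe_add, dotInt_add_right, dotInt_add_right] at c4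
  have hy : y ∈ leechPerpU := perp_iff.2 (by omega)
  rw [e, AddSubgroup.coe_add, AddSubgroup.coe_add, sqNorm_add, sqNorm_add, dotInt_add_right,
    dotInt_self] at hv
  rw [e, h.two _ hy]
  by_cases h0 : y = 0
  · rw [h0, h.zero]
  have := min_norm y.2 fun h => h0 (Subtype.ext h)
  rcases (by omega : nm y = 32 ∨ nm y = 64) with h1 | h1
  swap
  · exact h.zero_64 hy h1
  have hu : f leechU = 0 := by simpa [h.zero] using h.u 0 (zero_mem _)
  rcases dot_min_cases sqNorm_leechU h1 with e | e | e | e | e | e | e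
  · rw [e, hu]
  · rw [e, h.congr (perp_iff.2 (by decide) : leechU ∈ _) (-leechU) (by abel), hu]
  · exact (h.const _ ⟨h1, e⟩).trans h.x16_zero
  · omega
  · exact h.orth_zero h1 e
  · omega
  · rw [h.congr (neg_mem hy) y (by abel)]
    exact (h.const _ ⟨(sqNorm_neg _).trans h1, by
      rw [AddSubgroup.coe_neg, dotInt_neg_right, e]; rfl⟩).trans h.x16_zero

end QF

end Cfsg.Agent.Std2E
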