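import Cfsg.Agent.Std2B.ParG
import Cfsg.Agent.Std2E.ParL
import Cfsg.Agent.Std2E.Defs
import Cfsg.Agent.Mon.Trace_a

/-! The parity argument in the Baby Monster case: `K` is the whole centraliser. -/

set_option autoImplicit false

namespace Cfsg.Agent.Std2E

open Cfsg Cfsg.Spor Cfsg.Agent.TT Cfsg.Agent.LES Cfsg.Agent.Mon Cfsg.Agent.Spor Cfsg.Agent.Spor.Leech
  Cfsg.Agent.Std2B Subgroup

universe u

/-- The parity argument for an extraspecial normal subgroup `Q` of `K ≤ C` with `z` central. -/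
theorem eq_top_xs' {C : Type u} [Group C] [Finite C] {K : Subgroup C} {z : K} {Q : Subgroup K}
    {T : Set K} (xs : XS Q z) (hz : ∀ g : C, g * z = z * g) (nQ : ∀ k, ∀ q ∈ Q, k * q * k⁻¹ ∈ Q)
    (sub : ∀ t ∈ T, t ∈ Q) (inv : ∀ k, ∀ t ∈ T, ∃ t' ∈ T, Eqv z (k * t * k⁻¹) t')
    (uniq : ∀ t ∈ T, ∀ g : C, g⁻¹ * t * g ∈ K → g ∈ K) (ne : T.Nonempty)
    (ev : ∀ {H : Type u} (m : K → H), (∀ x y, m x = m y ↔ Eqv z x y) → Even (m '' T).ncard)
    (hW : ∀ A ≤ Q, z ∈ A → (∀ t ∈ T, t ∉ A) → (∀ t ∈ T, ∀ t' ∈ T, ∃ n,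
      (∀ w ∈ A, Eqv z (n * w * n⁻¹) w) ∧ n * t * n⁻¹ * t' ∈ A) → ∀ x ∈ A, Eqv z x 1)
    (hX : ∀ X : Subgroup K, z ∈ X → (∀ x ∈ X, Eqv z (x * x) 1) →
      (∀ x ∈ X, ∀ t ∈ T, Eqv z (x * t * x⁻¹) t → Eqv z x 1) →
      Nat.card X * Nat.card X < 2 * Nat.card Q) : K = ⊤ := by
  haveI : (zpowers (z : C)).Normal := ⟨by
    rintro _ ⟨n, rfl⟩ g
    exact ⟨n, (conj_eq_of_comm (Commute.zpow_right (hz g) n).eq).symm⟩⟩
  have zs : (z : C) * z = 1 := congrArg Subtype.val xs.z_sq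
  have hz' : ∀ k : K, k * z = z * k := fun k => Subtype.ext (hz k)
  let m : K →* C ⧸ zpowers (z : C) := (QuotientGroup.mk' _).comp K.subtype
  have me : ∀ x y, m x = m y ↔ Eqv z x y := fun x y => by
    rw [eq_comm]
    refine QuotientGroup.eq.trans ((mem_zpowers_invol zs).trans ?_)
    simp only [coe_subtype, inv_mul_eq_iff_eq_mul, mul_one, Eqv, Subtype.ext_iff, coe_mul]
  have m1 : ∀ x, m x = 1 ↔ Eqv z x 1 := fun x => by rw [← me, map_one]
  have mz : m z = 1 := (m1 z).2 (.inr (one_mul z).symm)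
  have cd : ∀ X : Subgroup K, z ∈ X → Nat.card X = 2 * Nat.card (X.map m) := fun X hX => by
    have e : X ⊓ m.ker = zpowers z := Subgroup.ext fun x => by
      rw [mem_inf, MonoidHom.mem_ker, m1, eqv_one_iff, mem_zpowers_invol xs.z_sq]
      exact ⟨fun h => h.2, fun h => ⟨h.elim (· ▸ one_mem _) (· ▸ hX), h⟩⟩
    rw [← Grp.card_map_mul_card_inf_ker m X, e, Nat.card_zpowers, xs.orderOf_z, mul_comm]
  have mN : ∀ g : C, (g : C ⧸ zpowers (z : C)) ∈ m.range → g ∈ K := by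
    rintro g ⟨k, e⟩
    have := (zpowers_le.2 z.2) (QuotientGroup.eq.1 e)
    exact (K.mul_mem_cancel_left (inv_mem k.2)).1 this
  have top := par_top (N := m.range) (B := Q.map m) (T := m '' T) (map_le_range _ _)
    (by rintro _ ⟨k, rfl⟩ _ ⟨q, hq, rfl⟩; exact ⟨_, nQ k q hq, by simp⟩)
    (by rintro _ ⟨q, hq, rfl⟩; rw [← map_mul, m1, eqv_one_iff]; exact xs.sq hq)
    (by rintro _ ⟨t, ht, rfl⟩; exact ⟨t, sub t ht, rfl⟩)
    (by
      rintro _ ⟨k, rfl⟩ _ ⟨t, ht, rfl⟩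
      obtain ⟨t', a, b⟩ := inv k t ht
      exact ⟨t', a, by rw [← (me _ _).2 b]; simp⟩)
    (by
      rintro _ ⟨t, ht, rfl⟩ ⟨g⟩ e
      exact ⟨⟨g, uniq t ht g (mN _ e)⟩, rfl⟩)
    (ne.image m) (ev m me)
    (fun W h1 h2 h3 => by
      have := hW (W.comap m) (fun x hx => by
          obtain ⟨q, hq, e⟩ := h1 hx
          exact (((me _ _).1 e).symm xs.z_sq).mem xs.z_mem hq)
        (by rw [mem_comap, mz]; exact one_mem _) (fun t ht => h2 _ ⟨t, ht, rfl⟩) fun t ht t' ht' => by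
          obtain ⟨_, ⟨n, rfl⟩, a, b⟩ := h3 _ ⟨t, ht, rfl⟩ _ ⟨t', ht', rfl⟩
          exact ⟨n, fun w hw => (me _ _).1 (by simpa using conj_eq_of_comm (a _ hw).eq),
            by simpa using b⟩
      refine eq_bot_iff.2 fun x hx => ?_
      obtain ⟨q, -, rfl⟩ := h1 hx
      exact (m1 q).2 (this q hx))
    fun X h1 h2 h3 => by
      have h4 := hX (X.comap m) (by rw [mem_comap, mz]; exact one_mem _)
        (fun x hx => (m1 _).1 (by rw [map_mul]; exact h2 _ hx)) fun x hx t ht e =>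
          (m1 x).1 (h3 _ hx _ ⟨t, ht, rfl⟩ (comm_of_conj_eq (by simpa using (me _ _).2 e)).symm)
      rw [cd _ (by rw [mem_comap, mz]; exact one_mem _), cd Q xs.z_mem,
        map_comap_eq_self h1] at h4
      nlinarith
  exact eq_top_iff.2 fun g _ => mN g (top.ge (mem_top _))

theorem ncard_eq_two_mul {I H : Type*} {S : Set I} (hS : S.Finite) (f : I → H) (σ : I → I)
    (h1 : ∀ i ∈ S, σ i ∈ S ∧ σ i ≠ i) (h2 : ∀ i ∈ S, ∀ j ∈ S, f i = f j ↔ i = j ∨ i = σ j) :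
    S.ncard = 2 * (f '' S).ncard := by
  classical
  lift S to Finset I using hS
  rw [← Finset.coe_image, Set.ncard_coe_finset, Set.ncard_coe_finset,
    Finset.card_eq_sum_card_image f, mul_comm, ← smul_eq_mul, ← Finset.sum_const]
  refine Finset.sum_congr rfl fun b hb => ?_
  obtain ⟨j, hj, rfl⟩ := Finset.mem_image.1 hb
  rw [← Finset.card_pair (h1 j hj).2.symm]
  congr 1
  ext i
  rw [Finset.mem_filter, Finset.mem_insert, Finset.mem_singleton]
  exact ⟨fun h => (h2 i h.1 j hj).1 h.2, fun h => have := h.elim (· ▸ hj) (· ▸ (h1 j hj).1)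
    ⟨this, (h2 i this j hj).2 h⟩⟩

section

variable {K : Type*} [Group K] {z : K} {Q : Subgroup K}
  {γ : centralizer ({z} : Set K) →* Co2} {φ : leechPerpU → K}

theorem ne_of_S16 (d : BabyData z Q γ φ) {x : K} {v : leechPerpU} (h : Eqv z x (φ v)) (hv : S16 v) :
    x ≠ 1 ∧ x ≠ z := by
  rw [← not_or, ← eqv_one_iff]
  intro e
  have a := hv.1
  have b := hv.2
  have c := sqNorm_leechU
  rcases (d.triv v).1 ((h.symm d.lx.z_sq).trans d.lx.z_sq e) with ⟨w, e⟩ | ⟨w, e⟩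
  · rcases eq_or_neg_of_congr (v := v) (w := 0) (y := w) (by omega) (by simp [sqNorm]) (by simpa using e)
      with f | f <;> simp [f, sqNorm] at a
  · rcases eq_or_neg_of_congr (v := v) (w := leechU) (y := w) (by omega) (by omega)
      (sub_eq_iff_eq_add'.2 e) with f | f <;>
      simp only [f, AddSubgroup.coe_neg, dotInt_neg_right, dotInt_self] at b <;> omega

theorem conj_of_S16 (d : BabyData z Q γ φ) {x y : K} {v w : leechPerpU} (hx : Eqv z x (φ v))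
    (hy : Eqv z y (φ w)) (hv : S16 v) (hw : S16 w) :
    ∃ k : centralizer ({z} : Set K), k * x * (k : K)⁻¹ = y := by
  obtain ⟨g, a, b⟩ := exists_std_16_U hv.1 hv.2
  obtain ⟨g', a', b'⟩ := exists_std_16_U hw.1 hw.2
  have e : (g'⁻¹ * g) • leechU = leechU := by rw [mul_smul, a, inv_smul_eq_iff, a']
  obtain ⟨k, -, f⟩ := d.exists_conj e hx (by
    rwa [show BO.sm _ e v = w from Subtype.ext (by
      change (g'⁻¹ * g) • _ = _
      rw [mul_smul, b, inv_smul_eq_iff, b'])]) (ne_of_S16 d hy hw).1 (ne_of_S16 d hy hw).2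
  exact ⟨k, f⟩

theorem le_of_trans [Finite K] (d : BabyData z Q γ φ) (hz : ∀ k : K, k * z = z * k) {A : Subgroup K}
    (hA : A ≤ Q) (zA : z ∈ A) (h1 : ∀ t ∈ φ '' {v | S16 v}, t ∉ A)
    (h2 : ∀ t ∈ φ '' {v | S16 v}, ∀ t' ∈ φ '' {v | S16 v},
      ∃ n, (∀ w ∈ A, Eqv z (n * w * n⁻¹) w) ∧ n * t * n⁻¹ * t' ∈ A) : ∀ x ∈ A, Eqv z x 1 := by
  classical
  have xs := d.lx.toXS
  have two : (2 : ZMod 2) = 0 := rfl
  have key : ∀ f : leechPerpU → ZMod 2, (∀ v w, Eqv z (φ v) (φ w) → f v = f w) →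
      (∀ x y w, f (x + y + w) + f x + f y + f w = f (x + y) + f (x + w) + f (y + w)) →
      (∀ v w : leechPerpU, S16 v → S16 w → f v = f w) →
      ∀ v : leechPerpU, sqNorm ((v : leechLattice) : GolayPt → ℤ) % 32 = 0 → f v = 0 :=
    fun f a b c v hv => by
      have := QF.sing (f := fun x => if hx : x ∈ leechPerpU then f ⟨x, hx⟩ else 0)
        ⟨fun v hv w => ?_, fun v hv => ?_, fun x hx y hy w hw => ?_, fun v hv => ?_⟩ v.2 hv
      · simpa using this
      · have : v + (w + w) ∈ leechPerpU := add_mem hv (perp_iff.2 (by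
          have := eight_dvd_dotInt leechU.2 w.2
          rw [AddSubgroup.coe_add, dotInt_add_right]; omega))
        rw [dif_pos hv, dif_pos this]
        exact a _ _ (d.eqv_iff.2 (.inl ⟨w, by simp⟩))
      · rw [dif_pos hv, dif_pos (add_mem hv (perp_iff.2 (by decide)))]
        exact a _ _ (d.eqv_iff.2 (.inr ⟨0, by simp⟩))
      · simp only [dif_pos hx, dif_pos hy, dif_pos hw, dif_pos (add_mem hx hy), dif_pos (add_mem hx hw),
          dif_pos (add_mem hy hw), dif_pos (add_mem (add_mem hx hy) hw)]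
        exact b ⟨x, hx⟩ ⟨y, hy⟩ ⟨w, hw⟩
      · rw [dif_pos hv.perp, dif_pos x16_mem.perp]
        exact c _ _ hv x16_mem
  refine le_of_quad (T := φ '' {v | S16 v}) xs hz (fun k => d.lx.norm k (hz k))
    (by rintro _ ⟨v, -, rfl⟩; exact d.mem v) ⟨_, xP, x16_mem, rfl⟩ (fun w hw h q hq => ?_)
    (fun p p1 p2 p3 p4 x hx h => ?_) hA zA h1 h2
  · have h3 : ∀ q ∈ Q, q * q = 1 → w * q = q * w := fun q hq e => by
      obtain ⟨v, hv⟩ := d.onto q hq
      rw [eq_comm, ← cmv_eq_zero, cmv_eqv xs hw hv]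
      refine key (fun v => cmv (φ v) w) (fun u v => cmv_eqv xs hw) (fun u v x => ?_)
        (fun u v a b => ?_) v ((d.sq_iff hv).1 e)
      · simp only [cmv_eqv xs hw (d.add _ _), cmv_mul_left xs (d.mem _) (d.mem _) hw]; ring
      · rw [cmv_comm, h _ ⟨u, a, rfl⟩ _ ⟨v, b, rfl⟩, cmv_comm]
    have h4 := (d.sq_iff (Eqv.refl _ (φ xP))).2 (by have := x16_mem.1; change sqNorm x16.1 % 32 = 0; omega)
    have h5 := ne_of_S16 d (Eqv.refl _ (φ xP)) x16_mem
    have h6 := d.le_of_inv (A := Subgroup.closure {q | q ∈ Q ∧ q * q = 1})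
      (Subgroup.subset_closure ⟨xs.z_mem, xs.z_sq⟩)
      (fun c hc a ha => (Subgroup.closure_le ((Subgroup.closure _).comap (MulAut.conj c).toMonoidHom)).2
        (fun q hq => Subgroup.subset_closure (k := {q | q ∈ Q ∧ q * q = 1}) ⟨d.lx.norm c hc q hq.1, by
          change c * q * c⁻¹ * (c * q * c⁻¹) = 1
          rw [conj_mul, hq.2, mul_one, mul_inv_cancel]⟩) ha)
      (d.mem _) (Subgroup.subset_closure ⟨d.mem _, h4⟩) h5.1 h5.2 hq
    exact cmv_eq_zero.2 (mem_centralizer_singleton_iff.1 ((Subgroup.closure_le (centralizer {w})).2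
      (fun q hq => mem_centralizer_singleton_iff.2 (h3 q hq.1 hq.2).symm) h6)).symm
  · obtain ⟨v, hv⟩ := d.onto x hx
    have m := fun v => p1 _ (d.mem v)
    have ad : ∀ u v, Eqv z (p (φ (u + v))) (p (φ u) * p (φ v)) := fun u v =>
      (p3 _ (mul_mem (d.mem u) (d.mem v)) _ (d.add u v)).trans xs.z_sq (p2 _ (d.mem u) _ (d.mem v))
    have sa : ∀ u v, sqv (p (φ (u + v))) = sqv (p (φ u)) + sqv (p (φ v)) + cmv (p (φ u)) (p (φ v)) :=
      fun u v => by rw [sqv_eqv xs (mul_mem (m u) (m v)) (ad u v), sqv_mul xs (m u) (m v)]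
    rw [eqv_sq xs (m v) (p3 _ (d.mem v) _ hv), ← sqv_eq_zero]
    refine key (fun v => sqv (p (φ v))) (fun u w e => sqv_eqv xs (m w) (p3 _ (d.mem w) _ e))
      (fun u v w => ?_) (fun u w a b => p4 _ ⟨u, a, rfl⟩ _ ⟨w, b, rfl⟩) v ((d.sq_iff hv).1 h)
    simp only [sa, cmv_eqv xs (m w) (ad u v), cmv_mul_left xs (m u) (m v) (m w)]
    ring

theorem exists_fix_T (d : BabyData z Q γ φ) {x : centralizer ({z} : Set K)} (hx : (x : K) * x ∈ Q) :
    ∃ v : leechPerpU, S16 v ∧ γ x • (v : leechLattice) = v ∧ Eqv z (x * φ v * (x : K)⁻¹) (φ v) := by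
  obtain ⟨v, a, b⟩ := exists_fix (h := co2Incl (γ x)) (by
    rw [← map_mul, ← map_mul, (d.ker _).2 hx, map_one]) (co2Incl_u _)
  exact ⟨⟨v, a.perp⟩, a, b, (d.conj x ⟨v, a.perp⟩ ⟨v, a.perp⟩ b).symm d.lx.z_sq⟩

end

variable {C : Type u} [Group C] [Finite C] {K : Subgroup C} {z : K} {Q : Subgroup K}
  {γ : centralizer ({z} : Set K) →* Co2} {φ : leechPerpU → K}

theorem eq_top_of_uniq' (d : BabyData z Q γ φ) (hz : ∀ g : C, g * z = z * g)
    (hu : ∀ g : C, g⁻¹ * φ xP * g ∈ K → g ∈ K) : K = ⊤ := by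
  classical
  have hz' : ∀ k : K, k * z = z * k := fun k => Subtype.ext (hz k)
  refine eq_top_xs' (T := φ '' {v | S16 v}) d.lx.toXS hz
    (fun k => d.lx.norm k (hz' k)) (by rintro _ ⟨v, -, rfl⟩; exact d.mem v) ?_ ?_
    ⟨_, xP, x16_mem, rfl⟩ (fun m hm => ?_) (fun A => le_of_trans d hz') fun X _ h1 h2 => ?_
  · rintro k _ ⟨v, hv, rfl⟩
    exact ⟨_, ⟨_, S16.smul (co2Incl_u _) hv, rfl⟩,
      d.conj_eqv ⟨k, mem_centralizer_singleton_iff.2 (hz' k)⟩ (Eqv.refl _ _)⟩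
  · rintro _ ⟨v, hv, rfl⟩ g hg
    obtain ⟨k, e⟩ := conj_of_S16 d (Eqv.refl _ (φ xP)) (Eqv.refl _ (φ v)) x16_mem hv
    rw [← e] at hg
    exact (K.mul_mem_cancel_left (inv_mem k.1.2)).1 (hu _ (by simpa [mul_assoc] using hg))
  · have h1 : {v : leechPerpU | S16 v}.ncard = 4600 := by
      rw [← Tr.count_16 sqNorm_leechU, ← Set.ncard_image_of_injective _ Subtype.val_injective]
      congr 1
      ext x
      exact ⟨fun ⟨v, a, b⟩ => b ▸ s16_iff.1 a, fun a => ⟨⟨x, (s16_iff.2 a).perp⟩, s16_iff.2 a, rfl⟩⟩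
    have u0 : leechU ∈ leechPerpU := perp_iff.2 (by decide)
    have h2 := ncard_eq_two_mul (S := {v : leechPerpU | S16 v})
      (Set.finite_of_ncard_ne_zero (by rw [h1]; norm_num)) (fun v => m (φ v)) (fun v => ⟨_, u0⟩ - v)
      (fun v hv => ⟨S16.sub hv, fun e => by
        have a := hv.2
        have b := hv.1
        have e' : leechU = (v : leechLattice) + v := sub_eq_iff_eq_add.1 (congrArg Subtype.val e)
        have c : dotInt ((v : leechLattice) + v : leechLattice).1 (v : leechLattice).1 = 16 := e' ▸ a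
        rw [AddSubgroup.coe_add, dotInt_add_left, dotInt_self] at c
        omega⟩) fun v hv w hw => by
        rw [hm, d.eqv_iff]
        refine ⟨fun e => (S16.eq_of_congr hv hw e).imp Subtype.ext Subtype.ext, ?_⟩
        rintro (rfl | rfl)
        exacts [.inl ⟨0, by simp⟩, .inr ⟨-w, by simp; abel⟩]
    rw [Set.image_image]
    exact ⟨1150, by omega⟩
  · have h3 : X ≤ zpowers z := fun x hx => by
      obtain ⟨v, a, -, b⟩ := exists_fix_T d (x := ⟨x, mem_centralizer_singleton_iff.2 (hz' x)⟩)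
        ((h1 x hx).mem d.lx.z_mem (one_mem _))
      exact (mem_zpowers_invol d.lx.z_sq).2 (eqv_one_iff.1 (h2 x hx _ ⟨v, a, rfl⟩ b))
    have := card_le_of_le h3
    rw [Nat.card_zpowers, d.lx.toXS.orderOf_z] at this
    rw [d.card]
    nlinarith

end Cfsg.Agent.Std2E
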