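import Cfsg.Agent.Std2E.Defs
import Cfsg.Agent.Std2E.ParL

/-! Lattice lemmas for the types of involutions of `Q`. -/

set_option autoImplicit false

namespace Cfsg.Agent.Std2E.TA

open Cfsg Cfsg.Spor Cfsg.Agent.Spor Cfsg.Agent.Spor.Leech Cfsg.Agent.TT Cfsg.Agent.LES Cfsg.Agent.Mon
  Cfsg.Agent.Mon.LC Cfsg.Agent.MonU.BL

/-- Congruence modulo `2Λ` and `u`. -/
def Sm (v w : leechLattice) : Prop := Cg v w ∨ Cg v (w + leechU)

theorem nmU : nm leechU = 32 := sqNorm_leechU
theorem nmX : nm x16 = 32 := sqNorm_x16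
theorem dtUX : dt leechU x16 = 16 := dot_U_x16
theorem dtUU : dt leechU leechU = 32 := (dt_self _).trans nmU

theorem cg_eq {v w : leechLattice} (h : Cg v w) (hv : nm v = 32) (hw : nm w ≤ 64) :
    v = w ∨ v = -w := by
  obtain ⟨y, e⟩ := h
  exact eq_or_neg_of_congr (by simp only [nm] at hv; omega) hw e

theorem cg_sub (a b : leechLattice) : Cg (a + b) (a - b) := ⟨b, by abel⟩

theorem nm_zero : nm 0 = 0 := by simp [nm, sqNorm]

theorem not_triv {v : leechLattice} (h : nm v = 32) (h' : dt leechU v = 16 ∨ dt leechU v = 0) :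
    ¬ (Cg v 0 ∨ Cg v leechU) := by
  rintro (e | e)
  · rcases cg_eq e h (by rw [nm_zero]; norm_num) with a | a
    · rw [a, nm_zero] at h; omega
    · rw [a, neg_zero, nm_zero] at h; omega
  · rcases cg_eq e h (by rw [nmU]; norm_num) with a | a
    · rw [a, dtUU] at h'; omega
    · rw [a, dt_neg_right, dtUU] at h'; omega

/-- a short vector congruent to a `B` vector is that vector up to sign -/
theorem sm_B {v w : leechLattice} (h : Sm v w) (hv : nm v = 32) (hw : nm w = 32)
    (hd : dt leechU w = 0) : v = w ∨ v = -w := by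
  rcases h with e | e
  · exact cg_eq e hv (by omega)
  · have : nm (w + leechU) = 64 := by rw [nm_add, dt_comm, hd, hw, nmU]; rfl
    rcases cg_eq e hv this.le with a | a
    · rw [a] at hv; omega
    · rw [a, nm_neg] at hv; omega

theorem notBB' {v w t : leechLattice} (hv : nm v = 32) (hv' : dt leechU v = 0) (hw : nm w = 32)
    (hw' : dt leechU w = 0) (ht : nm t = 32) (ht' : dt leechU t = 16) : ¬ Cg (v + w) t := by
  intro e
  have key : ∀ w, nm w = 32 → dt leechU w = 0 → 0 ≤ dt v w → ¬ Cg (v - w) t := fun w a b c e => by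
    have h1 := nm_sub v w
    rcases cg_eq e.symm ht (by omega) with f | f
    · rw [f, dt_sub_right] at ht'; omega
    · rw [f, dt_neg_right, dt_sub_right] at ht'; omega
  by_cases h : 0 ≤ dt v w
  · exact key w hw hw' h ((cg_sub v w).symm.trans e)
  · exact key (-w) ((nm_neg w).trans hw) (by rw [dt_neg_right, hw']; rfl)
      (by rw [dt_neg_right]; omega) (by rwa [sub_neg_eq_add])

theorem notBB {v w t : leechLattice} (hv : nm v = 32) (hv' : dt leechU v = 0) (hw : nm w = 32)
    (hw' : dt leechU w = 0) (ht : nm t = 32) (ht' : dt leechU t = 16) : ¬ Sm (v + w) t := by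
  rintro (e | e)
  · exact notBB' hv hv' hw hw' ht ht' e
  · refine notBB' hv hv' hw hw' (t := leechU - t) (by rw [nm_sub, nmU, ht, ht']; rfl)
      (by rw [dt_sub_right, dtUU, ht']; rfl) (e.trans ⟨t, by abel⟩)

theorem T_cases {v : leechLattice} (hv : nm v = 32) (hv' : dt leechU v = 16)
    (hc : dt v x16 % 16 = 0) : Sm v x16 ∨
      ∃ r, nm r = 32 ∧ dt leechU r = 0 ∧ dt x16 r = 16 ∧ Sm (x16 + v) r := by
  have key : ∀ v, nm v = 32 → dt leechU v = 16 → dt x16 v = 16 →
      nm (x16 - v) = 32 ∧ dt leechU (x16 - v) = 0 ∧ dt x16 (x16 - v) = 16 := fun v a b c =>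
    ⟨by rw [nm_sub, nmX, a, c]; rfl, by rw [dt_sub_right, dtUX, b]; rfl,
      by rw [dt_sub_right, dt_self, nmX, c]; rfl⟩
  have h1 : nm (leechU - v) = 32 := by rw [nm_sub, nmU, hv, hv']; rfl
  have h2 : dt leechU (leechU - v) = 16 := by rw [dt_sub_right, dtUU, hv']; rfl
  have h3 : dt x16 (leechU - v) = 16 - dt x16 v := by rw [dt_sub_right, dt_comm, dtUX]
  rw [dt_comm] at hc
  rcases dt_cases nmX hv with a | a | a | a | a | a | a
  · exact .inl (.inl (a.2 ▸ Cg.refl _))
  · rw [a.2, dt_neg_right, dtUX] at hv'; omega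
  · obtain ⟨b, c, d⟩ := key v hv hv' a
    exact .inr ⟨_, b, c, d, .inl (cg_sub _ _)⟩
  · omega
  · obtain ⟨b, c, d⟩ := key _ h1 h2 (by omega)
    exact .inr ⟨_, b, c, d, .inr ⟨0, by abel⟩⟩
  · omega
  · rcases dt_cases nmX h1 with b | b | b | b | b | b | b
    · exact .inl (.inr ⟨-x16, by rw [← b.2]; abel⟩)
    all_goals omega

/-- two root vectors whose sum is again congruent to a root vector are orthogonal -/
theorem orth_R {a b c : leechLattice} (ha : nm a = 32) (ha1 : dt leechU a = 0) (ha2 : dt x16 a = 16)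
    (hb : nm b = 32) (hb1 : dt leechU b = 0) (hb2 : dt x16 b = 16)
    (hc : nm c = 32) (hc1 : dt leechU c = 0) (hc2 : dt x16 c = 16) (h : Sm (a + b) c) :
    dt a b = 0 := by
  have h0 : (nm (a + b)) % 32 = 0 := by
    rcases h with e | e <;> have := e.norm
    · simp only [nm] at *; omega
    · have f : nm (c + leechU) = 64 := by rw [nm_add, dt_comm, hc1, hc, nmU]; rfl
      simp only [nm] at *; omega
  rw [nm_add] at h0
  have h' : Sm (a - b) c := h.imp (cg_sub a b).symm.trans (cg_sub a b).symm.trans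
  rcases dt_cases ha hb with e | e | e | e | e | e | e
  · rw [e.2, sub_self] at h'
    exact (not_triv hc (.inr hc1) (h'.imp Cg.symm fun f => by
      have := (f.symm.add (Cg.refl leechU))
      rw [zero_add] at this
      exact (cg_add_add _ _).symm.trans this)).elim
  · rw [e.2, dt_neg_right] at hb2; omega
  · have h1 : nm (a - b) = 32 := by rw [nm_sub, ha, hb, e]; rfl
    have h2 : dt x16 (a - b) = 0 := by rw [dt_sub_right, ha2, hb2]; rfl
    rcases sm_B h' h1 hc hc1 with f | f
    · rw [f] at h2; omega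
    · rw [f, dt_neg_right] at h2; omega
  · omega
  · exact e
  · omega
  · have h1 : nm (a + b) = 32 := by rw [nm_add, ha, hb, e]; rfl
    have h2 : dt x16 (a + b) = 32 := by rw [dt_add_right, ha2, hb2]; rfl
    rcases sm_B h h1 hc hc1 with f | f
    · rw [f] at h2; omega
    · rw [f, dt_neg_right] at h2; omega

theorem sum_R {a b c : leechLattice} (ha : nm a = 32) (ha1 : dt leechU a = 0) (ha2 : dt x16 a = 16)
    (hb : nm b = 32) (hb1 : dt leechU b = 0) (hb2 : dt x16 b = 16)
    (hc : nm c = 32) (hc1 : dt leechU c = 0) (hc2 : dt x16 c = 16)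
    (ab : dt a b = 0) (ac : dt a c = 0) (bc : dt b c = 0) : Cg (a + b + c) leechU := by
  have h : nm (a + b + c + leechU - (x16 + x16)) = 0 := by
    have := dtUX
    have := nmU
    have := nmX
    have := dt_comm a x16
    have := dt_comm b x16
    have := dt_comm c x16
    have := dt_comm a leechU
    have := dt_comm b leechU
    have := dt_comm c leechU
    simp only [nm_sub, nm_add, dt_add_left, dt_add_right, dt_self]
    omega
  have e : a + b + c + leechU - (x16 + x16) = 0 := Subtype.ext (sqNorm_eq_zero h)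
  exact ⟨x16 - leechU, by rw [← sub_eq_zero, ← e]; abel⟩

/-- The standard `2^8` vector. -/
noncomputable abbrev o8 : leechLattice := two_ind _ XSC.C1.o0_GC

/-- classification of the singular classes -/
theorem sing_cases {v : leechLattice} (hp : dt leechU v % 16 = 0) (hv : nm v % 32 = 0) :
    (Cg v 0 ∨ Cg v leechU) ∨ (∃ w, nm w = 32 ∧ dt leechU w = 16 ∧ Cg v w) ∨
      (∃ w, nm w = 32 ∧ dt leechU w = 0 ∧ Sm v w) ∨
      ∃ g : Co0, g • leechU = o8 ∧ Cg (g • v) (e8 none) := by
  obtain ⟨x, h2, y, h3⟩ := isLeechForm.exists_short v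
  rw [dotForm_apply, dotInt_self] at h2
  have e : Cg v x := ⟨y, h3.trans (add_self_eq_two_smul y).symm⟩
  have h4 := e.norm
  have h5 := e.dot leechU
  have hu := nmU
  simp only [nm, dt] at *
  rcases norm_cases x with a | a
  · exact .inl (.inl (a ▸ e))
  by_cases h6 : sqNorm (x : GolayPt → ℤ) = 32
  · rcases dot_min_cases hu h6 with b | b | b | b | b | b | b
    · exact .inl (.inr (b ▸ e))
    · exact .inl (.inr (e.trans (b ▸ cg_neg _)))
    · exact .inr (.inl ⟨x, h6, b, e⟩)
    · omega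
    · exact .inr (.inr (.inl ⟨x, h6, b, .inl e⟩))
    · omega
    · exact .inr (.inl ⟨-x, (nm_neg x).trans h6, (dt_neg_right _ _).trans (by rw [dt, b]; rfl),
        e.trans (cg_neg x).symm⟩)
  right; right
  obtain ⟨g, hg⟩ := exists_smul_eq_e8 x (by omega) none
  have h7 := dotInt_smul g leechU x
  have h8 := (sqNorm_smul g leechU).trans hu
  rw [hg, coe_e8, dotInt_single_right] at h7
  obtain ⟨p, hp⟩ := exists_zero h8 (p := none) (by omega)
  rcases Mon.LL.short_cases (g • leechU).2 h8 hp with ⟨i, hi⟩ | ⟨o, ho, o8, o1, o2, o3⟩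
  · left
    have hd : dotInt ((g • leechU : leechLattice) : GolayPt → ℤ) (e8 i : GolayPt → ℤ) = 32 ∨
        dotInt ((g • leechU : leechLattice) : GolayPt → ℤ) (e8 i : GolayPt → ℤ) = -32 := by
      rw [coe_e8, dotInt_single_right]; omega
    have key : ∀ f : leechLattice, Cg f (e8 none) → sqNorm (f : GolayPt → ℤ) = 64 →
        dotInt ((g • leechU : leechLattice) : GolayPt → ℤ) (f : GolayPt → ℤ) = 32 →
        ∃ w : leechLattice, sqNorm (w : GolayPt → ℤ) = 32 ∧
        dotInt (leechU : GolayPt → ℤ) (w : GolayPt → ℤ) = 0 ∧ Sm v w := by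
      intro f f1 f2 f3
      refine ⟨g⁻¹ • (f - g • leechU), ?_, ?_, Or.inr ?_⟩
      · rw [sqNorm_smul, AddSubgroup.coe_sub, sqNorm_sub, dotInt_comm]; omega
      · rw [← dotInt_smul g, smul_inv_smul, AddSubgroup.coe_sub, Leech.dotInt_sub_right,
          dotInt_self]; omega
      · have := f1.symm.smul g⁻¹
        rw [← hg, inv_smul_smul] at this
        rw [smul_sub, inv_smul_smul, sub_add_cancel]
        exact e.trans this
    rcases hd with b | b
    · exact key _ (cg_e8 i none) (sqNorm_e8 i) b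
    · exact key _ ((cg_neg _).trans (cg_e8 i none)) (by rw [AddSubgroup.coe_neg, sqNorm_neg, sqNorm_e8])
        (by rw [AddSubgroup.coe_neg, dotInt_neg_right, b]; rfl)
  · right
    obtain ⟨f, hf, e1⟩ := Mon.LL.exists_GC_even ho (Or.inl o8) (Finset.filter_subset _ o) o3
    obtain ⟨τ, hτ⟩ := M24C.exists_smul_oct0 (mem_octads_iff.2 ⟨ho, o8⟩)
    have e2 : ((permHom τ)⁻¹ * sgn f hf) • g • leechU = two_ind _ XSC.C1.o0_GC := by
      rw [mul_smul, inv_smul_eq_iff]
      refine Subtype.ext (funext fun i => ?_)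
      rw [sgn_smul, permHom_smul]
      have e3 : (τ : Equiv.Perm GolayPt).symm i ∈ setOf' 5279 ↔ i ∈ o := by
        rw [← hτ]; exact mem_perm_smul.symm
      have e4 : i ∈ f ∩ o ↔ _ := e1 ▸ Finset.mem_filter
      simp only [two_ind, e3]
      rw [Finset.mem_inter] at e4
      by_cases hi : i ∈ o
      · have := o1 i hi
        by_cases hf : i ∈ f <;> simp only [hi, hf, if_true, if_false, true_and, true_iff, false_and,
          false_iff] at e4 ⊢ <;> omega
      · rw [o2 i hi, if_neg hi]; simp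
    refine ⟨(permHom τ)⁻¹ * sgn f hf * g, by rw [mul_smul, e2], ?_⟩
    have e5 := (e.smul g).smul ((permHom τ)⁻¹ * sgn f hf)
    rw [hg, ← mul_smul] at e5
    exact e5.trans (mem_monoSub_iff_congr.1 (mul_mem (inv_mem (permHom_mem τ)) (sgn_mem f hf)))

/-- the configuration of `B` vectors around the standard `D` vector -/
theorem cfg_std : ∃ a b c a' b' c' : leechLattice, a + b = c ∧
    (nm a = 32 ∧ dt o8 a = 0) ∧ (nm b = 32 ∧ dt o8 b = 0) ∧ (nm c = 32 ∧ dt o8 c = 0) ∧
    (nm a' = 32 ∧ dt o8 a' = 0) ∧ (nm b' = 32 ∧ dt o8 b' = 0) ∧ (nm c' = 32 ∧ dt o8 c' = 0) ∧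
    Cg (e8 none + a) a' ∧ Cg (e8 none + b) b' ∧ Cg (e8 none + c) c' := by
  refine ⟨vab none (some 5) 4 4 (.inl rfl) (.inl rfl), vab (some 5) (some 6) (-4) 4 (.inr rfl) (.inl rfl),
    vab none (some 6) 4 4 (.inl rfl) (.inl rfl), vab none (some 5) (-4) 4 (.inr rfl) (.inl rfl),
    vab (some 5) (some 6) 4 4 (.inl rfl) (.inl rfl), vab none (some 6) (-4) 4 (.inr rfl) (.inl rfl),
    Subtype.ext (by decide), by decide, by decide, by decide, by decide, by decide, by decide,
    ⟨e8 none, Subtype.ext (by decide)⟩,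
    ⟨vab none (some 5) 4 (-4) (.inl rfl) (.inr rfl), Subtype.ext (by decide)⟩,
    ⟨e8 none, Subtype.ext (by decide)⟩⟩

end Cfsg.Agent.Std2E.TA
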