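import Cfsg.Agent.Std2E.Defs
import Cfsg.Agent.Std2E.TypA

/-! The types of involutions of `Q`. -/

set_option autoImplicit false

namespace Cfsg.Agent.Std2E

open Cfsg Cfsg.Spor Cfsg.Agent.Spor Cfsg.Agent.Spor.Leech Cfsg.Agent.TT Cfsg.Agent.LES Cfsg.Agent.Mon
  Cfsg.Agent.Mon.LC Cfsg.Agent.Std2B Subgroup
open Cfsg.Agent.MonU.BL (Cg)

variable {B : Type*} [Group B] [Finite B] {z t : B} {Q M : Subgroup B}
  {γ : centralizer ({z} : Set B) →* Co2} {φ : leechPerpU → B}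

variable (d : BabyData z Q γ φ) {x y : B}
include d

omit [Finite B] in
theorem eqv_mul_phi {v w : leechPerpU} (hx : Eqv z x (φ v)) (hy : Eqv z y (φ w)) :
    Eqv z (x * y) (φ (v + w)) :=
  (eqv_mul d.lx.toXS (d.mem w) hx hy).trans d.lx.z_sq ((d.add v w).symm d.lx.z_sq)

omit [Finite B] in
theorem sm_of_eqv {v w : leechPerpU} (hx : Eqv z x (φ v)) (hy : Eqv z x (φ w)) : TA.Sm v w :=
  d.eqv_iff'.1 ((hx.symm d.lx.z_sq).trans d.lx.z_sq hy)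

omit [Finite B] in
theorem eqv_of_sm {v w : leechPerpU} (hx : Eqv z x (φ v)) (h : TA.Sm v w) : Eqv z x (φ w) :=
  hx.trans d.lx.z_sq (d.eqv_iff'.2 h)

theorem Ov.conj {P : leechPerpU → Prop} (hP : P = TyT ∨ P = TyB) (hx : Ov z φ P x) {k : B}
    (hk : k * z = z * k) : Ov z φ P (k * x * k⁻¹) := by
  obtain ⟨v, hv, e⟩ := hx
  let c : centralizer ({z} : Set B) := ⟨k, mem_centralizer_singleton_iff.2 hk⟩
  refine ⟨_, ?_, d.conj_eqv c e⟩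
  have h1 : nm (co2Incl (γ c) • (v : leechLattice)) = nm v := nm_smul _ _
  have h2 : dt leechU (co2Incl (γ c) • (v : leechLattice)) = dt leechU v := dt_fix (co2Incl_u _) _
  rcases hP with rfl | rfl
  · exact ⟨h1.trans hv.1, h2.trans hv.2⟩
  · exact ⟨h1.trans hv.1, h2.trans hv.2⟩

theorem ov_ne {P : leechPerpU → Prop} (hP : P = TyT ∨ P = TyB) (hx : Ov z φ P x) :
    x ∈ Q ∧ x * x = 1 ∧ x ≠ 1 ∧ x ≠ z := by
  obtain ⟨v, hv, e⟩ := hx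
  have h : nm v = 32 ∧ (dt leechU v = 16 ∨ dt leechU v = 0) := by
    rcases hP with rfl | rfl
    · exact ⟨hv.1, .inl hv.2⟩
    · exact ⟨hv.1, .inr hv.2⟩
  refine ⟨d.mem_of_eqv e, (d.sq_iff e).2 (by rw [show sqNorm _ = 32 from h.1]; rfl), ?_⟩
  rw [← not_or, ← eqv_one_iff]
  exact fun a => TA.not_triv h.1 h.2 (d.triv'.1 ((e.symm d.lx.z_sq).trans d.lx.z_sq a))

theorem not_TB (hx : Ov z φ TyT x) : ¬ Ov z φ TyB x := by
  rintro ⟨w, hw, e'⟩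
  obtain ⟨v, hv, e⟩ := hx
  have h := hv.2
  rcases TA.sm_B (sm_of_eqv d e e') hv.1 hw.1 hw.2 with a | a
  · rw [a, hw.2] at h; omega
  · rw [a, dt_neg_right, hw.2] at h; omega

omit [Finite B] in
theorem trans_of {v w : leechPerpU} (hx : Eqv z x (φ v)) (hy : Eqv z y (φ w)) {g : Co0}
    (hg : g • leechU = leechU) (h : Cg (g • (v : leechLattice)) w) (h1 : y ≠ 1) (hz : y ≠ z) :
    ∃ k, k * z = z * k ∧ k * x * k⁻¹ = y := by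
  obtain ⟨k, -, e⟩ := d.exists_conj hg hx (eqv_of_sm d hy (.inl h.symm)) h1 hz
  exact ⟨k, MonData.comm_z k, e⟩

theorem transT (hx : Ov z φ TyT x) (hy : Ov z φ TyT y) : ∃ k, k * z = z * k ∧ k * x * k⁻¹ = y := by
  obtain ⟨-, -, h1, h2⟩ := ov_ne d (.inl rfl) hy
  obtain ⟨v, hv, e⟩ := hx
  obtain ⟨w, hw, e'⟩ := hy
  obtain ⟨g, a, b⟩ := trans_of_std₂ (exists_std_16_U hv.1 hv.2) (exists_std_16_U hw.1 hw.2)
  exact trans_of d e e' a (b ▸ Cg.refl _) h1 h2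

theorem transB (hx : Ov z φ TyB x) (hy : Ov z φ TyB y) : ∃ k, k * z = z * k ∧ k * x * k⁻¹ = y := by
  obtain ⟨-, -, h1, h2⟩ := ov_ne d (.inr rfl) hy
  obtain ⟨v, hv, e⟩ := hx
  obtain ⟨w, hw, e'⟩ := hy
  obtain ⟨g, a, b⟩ := trans_of_std₂ (exists_std_pair sqNorm_leechU hv.1 hv.2)
    (exists_std_pair sqNorm_leechU hw.1 hw.2)
  exact trans_of d e e' a (b ▸ Cg.refl _) h1 h2

theorem IsD.std (hx : IsD z Q φ x) : ∃ v : leechPerpU, Eqv z x (φ v) ∧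
    ∃ g : Co0, g • leechU = TA.o8 ∧ Cg (g • (v : leechLattice)) (e8 none) := by
  obtain ⟨h1, h2, h3, h4, h5⟩ := hx
  obtain ⟨v, e⟩ := d.onto x h1
  refine ⟨v, e, ?_⟩
  rcases TA.sing_cases (perp_iff.1 v.2) ((d.sq_iff e).1 h2) with a | ⟨w, a, b, c⟩ | ⟨w, a, b, c⟩ | a
  · exact (h3 (e.trans d.lx.z_sq (d.triv'.2 a))).elim
  · exact (h4 ⟨⟨w, perp_iff.2 (by rw [show dotInt _ _ = 16 from b]; rfl)⟩, ⟨a, b⟩,
      eqv_of_sm d e (.inl c)⟩).elim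
  · exact (h5 ⟨⟨w, perp_iff.2 (by rw [show dotInt _ _ = 0 from b]; rfl)⟩, ⟨a, b⟩,
      eqv_of_sm d e c⟩).elim
  · exact a

theorem transD (hx : IsD z Q φ x) (hy : IsD z Q φ y) : ∃ k, k * z = z * k ∧ k * x * k⁻¹ = y := by
  obtain ⟨v, e, g, a, b⟩ := hx.std d
  obtain ⟨w, e', g', a', b'⟩ := hy.std d
  have h := hy.2.2.1
  rw [eqv_one_iff, not_or] at h
  refine trans_of d e e' (g := g'⁻¹ * g) (by rw [mul_smul, a, ← a', inv_smul_smul]) ?_ h.1 h.2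
  have := (b.trans b'.symm).smul g'⁻¹
  rwa [inv_smul_smul, ← mul_smul] at this

theorem cfgD (hx : IsD z Q φ x) : ∃ a b, Ov z φ TyB a ∧ Ov z φ TyB b ∧ Ov z φ TyB (a * b) ∧
    Ov z φ TyB (x * a) ∧ Ov z φ TyB (x * b) ∧ Ov z φ TyB (x * (a * b)) := by
  obtain ⟨v, e, g, hg, hv⟩ := hx.std d
  obtain ⟨a, b, c, a', b', c', s, ha, hb, hc, ha', hb', hc', ea, eb, ec⟩ := TA.cfg_std
  have key : ∀ r : leechLattice, nm r = 32 ∧ dt TA.o8 r = 0 →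
      ∃ w : leechPerpU, TyB w ∧ (w : leechLattice) = g⁻¹ • r := fun r hr => by
    have h : dt leechU (g⁻¹ • r) = 0 := by rw [← dt_smul g, smul_inv_smul, hg, hr.2]
    exact ⟨⟨g⁻¹ • r, perp_iff.2 (by rw [show dotInt _ _ = 0 from h]; rfl)⟩,
      ⟨(nm_smul _ _).trans hr.1, h⟩, rfl⟩
  obtain ⟨A, hA, eA⟩ := key a ha
  obtain ⟨Bv, hB, eB⟩ := key b hb
  obtain ⟨C, hC, eC⟩ := key c hc
  have hs : A + Bv = C := Subtype.ext (by rw [AddSubgroup.coe_add, eA, eB, eC, ← smul_add, s])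
  have k2 : ∀ {r r' : leechLattice} {R : leechPerpU} {y : B}, (R : leechLattice) = g⁻¹ • r →
      nm r' = 32 ∧ dt TA.o8 r' = 0 → Cg (e8 none + r) r' → Eqv z y (φ R) → Ov z φ TyB (x * y) :=
    fun {r r' R y} h1 h2 h3 h4 => by
      obtain ⟨w, hw, ew⟩ := key r' h2
      refine ⟨w, hw, eqv_of_sm d (eqv_mul_phi d e h4) (.inl ?_)⟩
      have := ((hv.add (Cg.refl r)).trans h3).smul g⁻¹
      rwa [smul_add, inv_smul_smul, ← h1, ← ew, ← AddSubgroup.coe_add] at this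
  have eAB : Eqv z (φ A * φ Bv) (φ C) := hs ▸ eqv_mul_phi d (Eqv.refl _ _) (Eqv.refl _ _)
  exact ⟨φ A, φ Bv, ⟨A, hA, Eqv.refl _ _⟩, ⟨Bv, hB, Eqv.refl _ _⟩, ⟨C, hC, eAB⟩,
    k2 eA ha' ea (Eqv.refl _ _), k2 eB hb' eb (Eqv.refl _ _), k2 eC hc' ec eAB⟩

theorem notBB (hx : Ov z φ TyB x) (hy : Ov z φ TyB y) : ¬ Ov z φ TyT (x * y) := by
  rintro ⟨r, hr, e''⟩
  obtain ⟨v, hv, e⟩ := hx
  obtain ⟨w, hw, e'⟩ := hy
  exact TA.notBB hv.1 hv.2 hw.1 hw.2 hr.1 hr.2 (sm_of_eqv d (eqv_mul_phi d e e') e'')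

theorem T_cases (ht : Eqv z t (φ xP)) (hx : Ov z φ TyT x) (hc : x * t = t * x) :
    Eqv z x t ∨ Ov z φ TyR (t * x) := by
  obtain ⟨v, hv, e⟩ := hx
  rcases TA.T_cases hv.1 hv.2 ((d.comm_iff e ht).1 hc) with a | ⟨r, a, b, c, f⟩
  · exact .inl ((eqv_of_sm d e (w := xP) a).trans d.lx.z_sq (ht.symm d.lx.z_sq))
  · exact .inr ⟨⟨r, perp_iff.2 (by rw [show dotInt _ _ = 0 from b]; rfl)⟩, ⟨a, b, c⟩,
      eqv_of_sm d (eqv_mul_phi d ht e) f⟩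

theorem rk8 {E : Subgroup B} (hz : z ∈ E) (hE : ∀ e ∈ E, Eqv z e 1 ∨ Ov z φ TyR e) :
    Nat.card E ≤ 8 := by
  classical
  have orth : ∀ {a b : B} {v w : leechPerpU}, a ∈ E → b ∈ E → TyR v → TyR w → Eqv z a (φ v) →
      Eqv z b (φ w) → ¬ Eqv z (a * b) 1 → dt v w = 0 := fun ha hb hv hw ea eb h => by
    obtain ⟨r, hr, er⟩ := (hE _ (mul_mem ha hb)).resolve_left h
    exact TA.orth_R hv.1 hv.2.1 hv.2.2 hw.1 hw.2.1 hw.2.2 hr.1 hr.2.1 hr.2.2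
      (sm_of_eqv d (eqv_mul_phi d ea eb) er)
  have three : ∀ a ∈ E, ∀ b ∈ E, ∀ c ∈ E, ¬ Eqv z a 1 → ¬ Eqv z b 1 → ¬ Eqv z c 1 →
      ¬ Eqv z (a * b) 1 → ¬ Eqv z (a * c) 1 → ¬ Eqv z (b * c) 1 → Eqv z (a * b * c) 1 :=
    fun a ha b hb c hc h1 h2 h3 h4 h5 h6 => by
      obtain ⟨u, hu, eu⟩ := (hE _ ha).resolve_left h1
      obtain ⟨v, hv, ev⟩ := (hE _ hb).resolve_left h2
      obtain ⟨w, hw, ew⟩ := (hE _ hc).resolve_left h3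
      exact (eqv_mul_phi d (eqv_mul_phi d eu ev) ew).trans d.lx.z_sq (d.triv'.2 (.inr
        (TA.sum_R hu.1 hu.2.1 hu.2.2 hv.1 hv.2.1 hv.2.2 hw.1 hw.2.1 hw.2.2
          (orth ha hb hu hv eu ev h4) (orth ha hc hu hw eu ew h5) (orth hb hc hv hw ev ew h6))))
  have main : ∃ a b c : B, ∀ e ∈ E,
      Eqv z e 1 ∨ Eqv z (a * e) 1 ∨ Eqv z (b * e) 1 ∨ Eqv z (c * e) 1 := by
    by_cases h1 : ∀ e ∈ E, Eqv z e 1
    · exact ⟨1, 1, 1, fun e he => .inl (h1 e he)⟩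
    push Not at h1
    obtain ⟨a, ha, h1⟩ := h1
    by_cases h2 : ∀ e ∈ E, Eqv z e 1 ∨ Eqv z (a * e) 1
    · exact ⟨a, 1, 1, fun e he => (h2 e he).imp_right .inl⟩
    push Not at h2
    obtain ⟨b, hb, h2, h3⟩ := h2
    refine ⟨a, b, a * b, fun e he => ?_⟩
    by_contra h
    push Not at h
    exact h.2.2.2 (three a ha b hb e he h1 h2 h.1 h3 h.2.1 h.2.2.1)
  obtain ⟨a, b, c, h⟩ := main
  have hs : (E : Set B) ⊆ (({1, z, a⁻¹, a⁻¹ * z} ∪ {b⁻¹, b⁻¹ * z, c⁻¹, c⁻¹ * z} : Finset B) : Set B) := by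
    intro e he
    have := h e he
    simp only [eqv_one_iff, mul_eq_one_iff_inv_eq, ← eq_inv_mul_iff_mul_eq] at this
    simp only [Finset.coe_union, Finset.coe_insert, Finset.coe_singleton, Set.mem_union,
      Set.mem_insert_iff, Set.mem_singleton_iff]
    rcases this with (a | a) | (a | a) | (a | a) | (a | a) <;> simp [a]
  have h2 := Set.ncard_le_ncard hs
  rw [Set.ncard_coe_finset] at h2
  have h3 := Finset.card_union_le ({1, z, a⁻¹, a⁻¹ * z} : Finset B) {b⁻¹, b⁻¹ * z, c⁻¹, c⁻¹ * z}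
  have h4 : ({1, z, a⁻¹, a⁻¹ * z} : Finset B).card ≤ 4 := Finset.card_le_four
  have h5 : ({b⁻¹, b⁻¹ * z, c⁻¹, c⁻¹ * z} : Finset B).card ≤ 4 := Finset.card_le_four
  change Nat.card (E : Set B) ≤ 8
  rw [Nat.card_coe_set_eq]
  omega

end Cfsg.Agent.Std2E
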