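import Cfsg.Agent.Std2E.Fix
import Cfsg.Agent.Std2E.Typ
import Cfsg.Agent.Std2E.ParB

/-! The parity argument: `K` is the whole centraliser. -/

set_option autoImplicit false

namespace Cfsg.Agent.Std2E

open Cfsg Cfsg.Spor Cfsg.Agent.Spor Cfsg.Agent.Spor.Leech Cfsg.Agent.TT Cfsg.Agent.LES Cfsg.Agent.Mon
  Cfsg.Agent.Mon.LC Cfsg.Agent.Std2B Subgroup

variable {C : Type*} [Group C] [Finite C] {K : Subgroup C} {z : K} {Q : Subgroup K}
  {γ : centralizer ({z} : Set K) →* Co2} {φ : leechPerpU → K}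

theorem eq_top_of_uniq (d : BabyData z Q γ φ) (hz : ∀ g : C, g * z = z * g)
    (hu : ∀ g : C, g⁻¹ * φ xP * g ∈ K → g ∈ K) : K = ⊤ :=
  eq_top_of_uniq' d hz hu

theorem uniq (d : BabyData z Q γ φ) (hz : ∀ g : C, g * z = z * g)
    (hN : ∀ g : C, Eqv (z : C) (g * φ xP * g⁻¹) (φ xP) → g ∈ K)
    (hT : ∀ x ∈ Q, IsConj (φ xP : C) x → Ov z φ TyT x)
    (hE : ∀ E : Subgroup C, (z : C) ∈ E → (∀ e ∈ E, e * e = 1 ∧ e * φ xP = φ xP * e ∧
      IsConj (φ xP : C) (φ xP * e)) → Nat.card E ≤ 16)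
    {g : C} (hg : g⁻¹ * φ xP * g ∈ K) : g ∈ K := by
  have tT : Ov z φ TyT (φ xP) := ⟨xP, s16_iff.1 x16_mem, Eqv.refl _ _⟩
  obtain ⟨tQ, tt, t1, tz⟩ := ov_ne d (.inl rfl) tT
  have tt' : (φ xP : C) * φ xP = 1 := congrArg Subtype.val tt
  have c1 : IsConj (φ xP : C) (g⁻¹ * φ xP * g) := isConj_iff.2 ⟨g⁻¹, by rw [inv_inv]⟩
  by_cases sQ : (⟨_, hg⟩ : K) ∈ Q
  · obtain ⟨k, -, e⟩ := transT d (hT _ sQ c1) tT
    have e' : (k : C) * (g⁻¹ * φ xP * g) * (k : C)⁻¹ = φ xP := congrArg Subtype.val e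
    exact inv_mem_iff.1 ((K.mul_mem_cancel_left k.2).1 (hN _ (.inl (Eq.trans (by group) e'))))
  obtain ⟨E, -, zE, hc, mE⟩ := exists_E d (s := ⟨_, hg⟩) (Subtype.ext (hz _))
    (Subtype.ext (by simp [mul_assoc, ← mul_assoc (φ xP : C), tt'])) sQ
  obtain ⟨y, -, ey⟩ := d.lx.exists_conj_eq tQ t1 tz
  have c2 : IsConj (φ xP : C) (φ xP * z) := isConj_iff.2 ⟨y, congrArg Subtype.val ey⟩
  have := hE (E.map ((MulAut.conj g).toMonoidHom.comp K.subtype))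
    ⟨z, zE, conj_eq_of_comm (hz g)⟩ (by
      rintro _ ⟨e, he, rfl⟩
      obtain ⟨a, b, q, -, c⟩ := mE e he
      have a' : (e : C) * e = 1 := congrArg Subtype.val a
      have b' : (e : C) * (g⁻¹ * φ xP * g) = g⁻¹ * φ xP * g * e := congrArg Subtype.val b
      change g * e * g⁻¹ * (g * e * g⁻¹) = 1 ∧ g * e * g⁻¹ * _ = _ * (g * e * g⁻¹) ∧
        IsConj _ (_ * (g * e * g⁻¹))
      refine ⟨by rw [conj_mul, a', mul_one, mul_inv_cancel], ?_, ?_⟩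
      · calc _ = g * (e * (g⁻¹ * φ xP * g)) * g⁻¹ := by group
          _ = _ := by rw [b']; group
      rw [show φ xP * (g * e * g⁻¹) = g * (g⁻¹ * φ xP * g * e) * g⁻¹ by group]
      rcases c with c | c
      · rw [show g⁻¹ * φ xP * g * e = q * (g⁻¹ * φ xP * g) * (q : C)⁻¹ from congrArg Subtype.val c]
        exact isConj_iff.2 ⟨g * q * g⁻¹, by group⟩
      · rw [show g⁻¹ * φ xP * g * e = q * (g⁻¹ * φ xP * g) * (q : C)⁻¹ * z from congrArg Subtype.val c]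
        refine c2.trans (isConj_iff.2 ⟨g * q * g⁻¹, ?_⟩)
        rw [← conj_mul, conj_eq_of_comm (hz _), ← conj_mul (b := g) (c := z), conj_eq_of_comm (hz _)]
        group)
  rw [card_map_of_injective ((MulAut.conj g).injective.comp Subtype.val_injective)] at this
  omega

end Cfsg.Agent.Std2E
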