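import Cfsg.Agent.Std2E.Fus
import Cfsg.Agent.Std2E.Ext
import Cfsg.Agent.Std2E.Nrm
import Cfsg.Agent.Std2E.Par
import Cfsg.Agent.Std2E.MainA

/-! A group with a chart `2.²E₆(2)` at an involution that is not weakly closed is of Baby Monster type. -/

set_option autoImplicit false

namespace Cfsg.Agent.Std2E

open Cfsg Cfsg.Spor Cfsg.Agent.Spor Cfsg.Agent.Spor.Leech Cfsg.Agent.TT Cfsg.Agent.LES Cfsg.Agent.Mon
  Cfsg.Agent.Mon.LC Cfsg.Agent.Std2B Subgroup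

variable {B : Type*} [Group B] [Finite B] {z t : B} {Q M : Subgroup B}
  {γ : centralizer ({z} : Set B) →* Co2} {φ : leechPerpU → B}
  {G : Type*} [Group G] [Finite G] {j Θ : B → G} {x y : B}

omit [Finite G] in
theorem sq_conj {a b : G} (k : IsConj a b) (h : a * a = 1) : b * b = 1 := by
  obtain ⟨u, rfl⟩ := isConj_iff.1 k
  rw [conj_mul, h]; simp

section
variable (h : BM z t Q M γ φ) (c : Cht t M j) (e : Xt z t Q M j Θ)
include h e

omit [Finite G] in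
theorem Xt.ev (hx : x ∈ Q) (hy : y ∈ Q) : Eqv (j z) (Θ x) (Θ y) ↔ Eqv z x y :=
  e.eq z h.zD ▸ e.eqv_iff (mem_sup_right h.xs.z_mem) (mem_sup_right hx) (mem_sup_right hy)

omit [Finite G] in
theorem Xt.act' {g : G} {k : B} (r : Rel (DD M z) j g k) (hk : k ∈ NS z t) (gz : g * j z = j z * g) :
    Act (j z) (fun v => Θ (φ v)) g (γ ⟨k, mem_centralizer_singleton_iff.2 hk.1⟩) :=
  ⟨gz, fun v w k1 => ((e.ev h (h.d.mem _) (h.d.lx.norm _ hk.1 _ (h.d.mem v))).2 (h.d.conj ⟨k, _⟩ v w k1)).trans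
    (e.eq z h.zD ▸ (e.xs le_sup_right h.xs).z_sq) (e.act g k r hk _ (h.d.mem v))⟩

include c

theorem pre : Pre (j z) (e.img Q) fun v => Θ (φ v) := by
  have d := h.d
  have xs := h.xs
  have le : Q ≤ DD M z ⊔ Q := le_sup_right
  have xs' := e.eq z h.zD ▸ e.xs le xs
  have tr : ∀ {k : B} (hk : k * z = z * k), (∀ v, Eqv z (φ v) (k * φ v * k⁻¹)) → k ∈ Q := fun hk k1 =>
    d.lx.mem_of_trivial fun y hy => by
      obtain ⟨v, hv⟩ := d.onto y hy
      exact ((hv.conj hk).trans xs.z_sq ((k1 v).symm xs.z_sq)).trans xs.z_sq (hv.symm xs.z_sq)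
  refine ⟨xs', (e.card_img le).trans d.card, fun v => (e.mem_img_iff (le (d.mem v))).2 (d.mem v), fun v w => ?_,
    fun x hx => ?_, fun v => ?_, exists_act h c e, fun n hn => ?_, fun g hg => ?_⟩
  · rw [← e.mul _ (le (d.mem v)) _ (le (d.mem w)), e.ev h (d.mem _) (mul_mem (d.mem v) (d.mem w))]
    exact d.add v w
  · obtain ⟨x, a, rfl⟩ := (e.mem_img le).1 hx
    exact (d.onto x a).imp fun v => (e.ev h a (d.mem v)).2
  · rw [← e.one, e.ev h (d.mem v) (one_mem _), d.triv]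
  · have k2 := fun v => hn.2 v v (by simp)
    have k3 := e.eq t h.tD ▸ (e.ev h h.tQ (d.mem _)).2 h.tφ
    obtain ⟨k, hk, r⟩ := exRel h c ((mem_NS xs'.z_sq).2 ⟨hn.1, ((k3.conj hn.1).trans xs'.z_sq
      ((k2 xP).symm xs'.z_sq)).trans xs'.z_sq (k3.symm xs'.z_sq)⟩)
    exact (e.mem_img le).2 (e.onto n k r (tr hk.1 fun v => (e.ev h (d.mem v) (d.lx.norm _ hk.1 _ (d.mem v))).1
      ((k2 v).trans xs'.z_sq ((e.act n k r hk _ (d.mem v)).symm xs'.z_sq))))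
  · obtain ⟨k, rfl⟩ := d.surj g
    refine (d.ker k).2 (tr (MonData.comm_z k) fun v => Eqv.trans xs.z_sq ?_ (d.conj k v (BO.sm _ (co2Incl_u _) v) rfl))
    exact Eqv.symm xs.z_sq ((e.ev h (d.mem _) (d.mem _)).1 (by simpa using hg.2 v _ rfl))

theorem conjQ {k : B} (hk : k * z = z * k) (hx : x ∈ Q) : IsConj (Θ x) (Θ (k * x * k⁻¹)) := by
  have p := pre h c e
  have d := h.d
  have zz := p.xs.z_sq
  have xk := d.lx.norm _ hk _ hx
  by_cases x1 : Eqv z x 1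
  · rw [conj_eq_of_comm (by rcases x1 with rfl | rfl <;> simp [hk])]
  obtain ⟨n, hn⟩ := p.sur (γ ⟨k, mem_centralizer_singleton_iff.2 hk⟩)
  obtain ⟨v, hv⟩ := d.onto x hx
  have a := ((e.ev h xk (d.mem _)).2 (d.conj_eqv ⟨k, mem_centralizer_singleton_iff.2 hk⟩ hv)).trans zz
    ((hn.2 v _ rfl).trans zz ((((e.ev h hx (d.mem v)).2 hv).conj hn.1).symm zz))
  obtain ⟨q, -, hq⟩ := exists_conj_of_eqv p.xs ((e.mem_img_iff (mem_sup_right xk)).2 xk)
    (fun t => x1 (.inl (by simpa using e.inj _ (mem_sup_right xk) t)))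
    (fun t => x1 (.inr (by
      rw [← e.eq z h.zD, e.eq_iff (mem_sup_right xk) (mem_sup_right h.xs.z_mem), ← conj_eq_of_comm hk] at t
      simpa using t))) (a.symm zz)
  exact (isConj_iff.2 ⟨n, rfl⟩).trans (isConj_iff.2 ⟨q, hq⟩).symm

theorem cT (hx : Ov z φ TyT x) : IsConj (j t) (Θ x) := by
  obtain ⟨k, k1, rfl⟩ := transT h.d h.tT hx
  exact e.eq t h.tD ▸ conjQ h c e k1 h.tQ

omit [Finite G] e in
theorem cR (hx : x ∈ Rts M z) : IsConj (j z) (j x) := by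
  obtain ⟨m, hm, e⟩ := hx
  exact c.isConj h.zD.1 (h.rts_mem ⟨m, hm, e⟩) hm e

theorem cB (hx : Ov z φ TyB x) : IsConj (j z) (Θ x) := by
  obtain ⟨w, hw, -, -, -, wQ, -, wz, -⟩ := h.exists_line
  obtain ⟨v, v1, v2⟩ := (h.root w wQ wz).1 hw
  obtain ⟨k, k1, rfl⟩ := transB h.d ⟨v, ⟨v1.1, v1.2.1⟩, v2⟩ hx
  exact (cR h c hw).trans (e.eq w (h.R_le wQ (h.le w (h.rts_mem hw))) ▸ conjQ h c e k1 wQ)

omit [Finite G] c in
theorem sq_of (hx : x ∈ Q) {g : G} (gg : g * g = 1) (k : IsConj g (Θ x)) : x * x = 1 :=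
  (e.sq_iff (mem_sup_right hx)).1 (sq_conj k gg)

variable (nc : ¬ IsConj (j t) (j z))
include nc

theorem cD (hx : IsD z Q φ x) : ¬ IsConj (j t) (Θ x) := fun k => by
  have xs := h.xs
  have le : Q ≤ DD M z ⊔ Q := le_sup_right
  have zz : j z * j z = 1 := (c.sq_iff h.zD.1).2 xs.z_sq
  have k1 : ∀ y ∈ Q, IsConj (j z) (Θ y) → y = z ∨ Ov z φ TyB y := fun y hy a => by
    by_contra! b
    refine nc (IsConj.trans ?_ a.symm)
    by_cases y1 : Ov z φ TyT y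
    · exact cT h c e y1
    obtain ⟨m, m1, rfl⟩ := transD h.d hx ⟨hy, sq_of h e hy zz a, by
      rintro (rfl | rfl)
      exacts [xs.z_ne (c.inj z h.zD.1 (by simpa [e.one] using a)), b.1 (one_mul z)], y1, b.2⟩
    exact k.trans (conjQ h c e m1 hx.1)
  have tz : IsConj (j t) (Θ (t * z)) := cT h c e (h.tT.imp fun v a => ⟨a.1, Eqv.trans xs.z_sq (.inr rfl) a.2⟩)
  obtain ⟨u, hu⟩ := isConj_iff.1 k
  have k2 : ∀ a, Ov z φ TyB a → Ov z φ TyB (x * a) → u⁻¹ * Θ a * u⁻¹⁻¹ * j t = j t * (u⁻¹ * Θ a * u⁻¹⁻¹) ∧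
      u⁻¹ * Θ a * u⁻¹⁻¹ ∉ c.img M := fun a a1 a2 => by
    have aQ := ov_ne h.d (.inr rfl) a1
    have a3 : j t = u⁻¹ * Θ x * u⁻¹⁻¹ := by rw [← hu]; group
    refine ⟨a3 ▸ nrm_comm _ ((e.comm_iff (le aQ.1) (le hx.1)).2
      (nrm_comm3 hx.2.1 aQ.2.1 (ov_ne h.d (.inr rfl) a2).2.1).symm), fun b => ?_⟩
    obtain ⟨y, hy, ey⟩ := (c.mem_img le_rfl).1 b
    have b1 : IsConj (j z) (j y) := (cB h c e a1).trans (isConj_iff.2 ⟨_, ey.symm⟩)
    have b2 : IsConj (j z) (j (t * y)) := (cB h c e a2).trans (isConj_iff.2 ⟨u⁻¹, by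
      rw [c.mul _ h.tD.1 _ hy, ey, a3, conj_mul, e.mul _ (le hx.1) _ (le aQ.1)]⟩)
    obtain ⟨m, hm, mQ⟩ := h.clsA y hy ((c.sq_iff hy).1 (sq_conj b1 zz))
    have yM := mul_mem (mul_mem hm hy) (inv_mem hm)
    have yD := h.R_le mQ (h.le _ yM)
    have b3 := b1.trans (c.isConj hy yM hm rfl)
    have b4 := b2.trans (c.isConj (mul_mem h.tD.1 hy) (mul_mem h.tD.1 yM) hm
      (by rw [← conj_mul, conj_eq_of_comm (h.le m hm)]))
    rw [← e.eq _ yD] at b3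
    rw [← e.eq _ (mul_mem h.tD yD)] at b4
    generalize m * y * m⁻¹ = s at *
    rcases k1 _ mQ b3 with rfl | s1
    · exact nc (tz.trans b4.symm)
    rcases k1 _ (mul_mem h.tQ mQ) b4 with s2 | s2
    · exact nc (tz.trans (by rw [show t * z = s by rw [← s2, ← mul_assoc, h.tt, one_mul]]; exact b3.symm))
    · exact notBB h.d s2 s1 (by rw [mul_assoc, (ov_ne h.d (.inr rfl) s1).2.1, mul_one]; exact h.tT)
  obtain ⟨a, b, a1, b1, ab1, a2, b2, ab2⟩ := cfgD h.d hx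
  refine (k2 _ ab1 ab2).2 ?_
  rw [e.mul _ (le (ov_ne h.d (.inr rfl) a1).1) _ (le (ov_ne h.d (.inr rfl) b1).1), ← conj_mul]
  exact idx h c (k2 a a1 a2).1 (k2 b b1 b2).1 (k2 a a1 a2).2 (k2 b b1 b2).2

theorem ovT (hx : x ∈ Q) (k : IsConj (j t) (Θ x)) : Ov z φ TyT x := by_contra fun a =>
  cD h c e nc ⟨hx, sq_of h e hx ((c.sq_iff h.tD.1).2 h.tt) k, by
    rintro (rfl | rfl)
    · exact h.t_ne (c.inj t h.tD.1 (by simpa [e.one] using k))
    · exact nc (by rwa [one_mul, e.eq _ h.zD] at k), a, fun b => nc (k.trans (cB h c e b).symm)⟩ k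

theorem rts_of (hx : x ∈ M) (xx : x * x = 1) (k : IsConj (j t) (j (t * x))) : x = 1 ∨ x ∈ Rts M z := by
  obtain ⟨m, hm, mQ⟩ := h.clsA x hx xx
  have yM := mul_mem (mul_mem hm hx) (inv_mem hm)
  have b := k.trans (c.isConj (mul_mem h.tD.1 hx) (mul_mem h.tD.1 yM) hm
    (by rw [← conj_mul, conj_eq_of_comm (h.le m hm)]))
  rw [← e.eq _ (mul_mem h.tD (h.R_le mQ (h.le _ yM)))] at b
  have r : m * x * m⁻¹ ∈ Rts M z → x ∈ Rts M z := fun a => by simpa [mul_assoc] using Rts.conj a (inv_mem hm)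
  rcases T_cases h.d h.tφ (ovT h c e nc (mul_mem h.tQ mQ) b) (comm_mul_left rfl (h.le _ yM)) with (a | a) | a
  · exact .inl (by simpa using a)
  · exact .inr (r (mul_left_cancel a ▸ self_mem_Rts M z))
  · rw [← mul_assoc, h.tt, one_mul] at a
    exact .inr (r (by_contra fun s => s ((h.root _ mQ fun u => s (u ▸ self_mem_Rts M z)).2 a)))

theorem card_le {E : Subgroup G} (hz : j z ∈ E) (hE : ∀ g ∈ E, g * g = 1 ∧ g * j t = j t * g ∧
    IsConj (j t) (j t * g)) : Nat.card E ≤ 16 := by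
  let F : Subgroup B :=
    { carrier := {x | x ∈ M ∧ j x ∈ E}
      one_mem' := ⟨one_mem _, c.one ▸ one_mem _⟩
      mul_mem' := fun a b => ⟨mul_mem a.1 b.1, c.mul _ a.1 _ b.1 ▸ mul_mem a.2 b.2⟩
      inv_mem' := fun a => ⟨inv_mem a.1, c.inv a.1 ▸ inv_mem a.2⟩ }
  have le : F ≤ M := fun _ a => a.1
  have zF : z ∈ F := ⟨h.zD.1, hz⟩
  have k1 : ∀ x ∈ F, x * x = 1 ∧ (x = 1 ∨ x ∈ Rts M z) := fun x a =>
    have xx := (c.sq_iff a.1).1 (hE _ a.2).1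
    ⟨xx, rts_of h c e nc a.1 xx (c.mul _ h.tD.1 _ a.1 ▸ (hE _ a.2).2.2)⟩
  have k2 := rk8 h.d zF fun x a => by
    by_cases xz : x = z
    · exact .inl (.inr (by simp [xz]))
    refine (k1 x a).2.imp .inl fun r => (h.root x (h.nz x r (nrm_comm3 (k1 x a).1 h.xs.z_sq (k1 _ (mul_mem a zF)).1)
      ((k1 _ (mul_mem a zF)).2.resolve_left fun s => xz ?_)) xz).1 r
    rw [← mul_one x, ← h.xs.z_sq, ← mul_assoc, s, one_mul]
  have m : ∀ g ∈ E, g ∈ c.img M ↔ g ∈ c.img F := fun g hg => by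
    rw [c.mem_img le_rfl, c.mem_img le]
    exact ⟨fun ⟨x, a, b⟩ => ⟨x, ⟨a, b ▸ hg⟩, b⟩, fun ⟨x, a, b⟩ => ⟨x, a.1, b⟩⟩
  have k3 := card_le_two (E := E) (H := c.img F) (fun g hg => by
      obtain ⟨x, a, rfl⟩ := (c.mem_img le).1 hg
      exact a.2) fun a ha b hb a1 b1 =>
    (m _ (mul_mem ha hb)).1 (idx h c (hE a ha).2.1 (hE b hb).2.1 (mt (m a ha).1 a1) (mt (m b hb).1 b1))
  rw [c.card_img le] at k3
  omega

end

theorem babyType (h : BM z t Q M γ φ) (c : Cht t M j) {g : G} (h1 : g * j t * g⁻¹ ≠ j t)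
    (h2 : g * j t * g⁻¹ * j t = j t * (g * j t * g⁻¹)) : IsOfBabyMonsterType G := by
  obtain ⟨n, n1, n2⟩ := fusion h c h1 h2
  have nc := not_isConj h c n1 n2
  obtain ⟨Θ, e⟩ := exists_xt h c n1 n2
  have d := h.d
  have le : Q ≤ DD M z ⊔ Q := le_sup_right
  have p := pre h c e
  have zz := p.xs.z_sq
  have k3 := e.eq t h.tD ▸ (e.ev h h.tQ (d.mem _)).2 h.tφ
  have k4 := cT h c e ⟨xP, ⟨by decide, dot_U_x16⟩, .inl rfl⟩
  let K : Subgroup (centralizer ({j z} : Set G)) :=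
    { carrier := {n | ∃ g, Act (j z) (fun v => Θ (φ v)) n g}
      one_mem' := ⟨1, act_one⟩
      mul_mem' := fun ⟨_, a⟩ ⟨_, b⟩ => ⟨_, a.mul zz b⟩
      inv_mem' := fun ⟨_, a⟩ => ⟨_, a.inv zz⟩ }
  obtain ⟨y, χ, y1, y2, p', ac⟩ := p.comap (f := (Subgroup.subtype _).comp K.subtype)
    (Subtype.val_injective.comp Subtype.val_injective) fun n g hn =>
      ⟨⟨⟨n, mem_centralizer_singleton_iff.2 hn.1⟩, g, hn⟩, rfl⟩
  obtain ⟨γ', d'⟩ := p'.babyData fun n _ => n.2.imp fun g => (ac n g).2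
  have y3 : (((y : K) : centralizer ({j z} : Set G)) : G) = j z := y1
  have y4 : ∀ v, (((χ v : K) : centralizer ({j z} : Set G)) : G) = Θ (φ v) := y2
  have hz : ∀ g : centralizer ({j z} : Set G), g * y = y * g := fun g => Subtype.ext (by
    rw [coe_mul, coe_mul, y3]; exact MonData.comm_z g)
  have ic : ∀ {x : centralizer ({j z} : Set G)}, IsConj (χ xP : centralizer ({j z} : Set G)) x →
      IsConj (j t) x := fun t => by
    have := (Subgroup.subtype _).map_isConj t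
    rw [subtype_apply, y4] at this
    exact k4.trans this
  have top := eq_top_of_uniq d' hz fun g => uniq d' hz (fun g hg => ?_) (fun x hx t => ?_) fun E E1 E2 => ?_
  · obtain ⟨γ'', d''⟩ := p.babyData fun n hn => (top.ge (mem_top ⟨n, mem_centralizer_singleton_iff.2 hn⟩) :)
    obtain ⟨w, ⟨m, hm, rfl⟩, -, -, -, wQ, -, wz, -⟩ := h.exists_line
    have wM := mul_mem (mul_mem hm h.zD.1) (inv_mem hm)
    have k5 := c.conj hm h.zD.1
    exact isOfBabyMonsterType_of d''.lx d''.card (g := j m)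
      (k5 ▸ e.eq _ (h.R_le wQ (h.le _ wM)) ▸ (e.mem_img_iff (le wQ)).2 wQ)
      (fun s => wz ((c.eq_iff wM h.zD.1).1 (k5.trans s))) γ'' d''.surj d''.ker _ d''.mem d''.add d''.onto d''.triv d''.conj
  · have gz := MonData.comm_z g
    have k5 : Eqv (j z) (g * Θ (φ xP) * (g : G)⁻¹) (Θ (φ xP)) := by
      rw [← y4]
      exact hg.imp (congrArg Subtype.val) fun t => (congrArg Subtype.val t).trans (by rw [coe_mul, y3])
    obtain ⟨k, hk, r⟩ := exRel h c ((mem_NS zz).2 ⟨gz, ((k3.conj gz).trans zz k5).trans zz (k3.symm zz)⟩)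
    exact ⟨_, e.act' h r hk gz⟩
  · obtain ⟨q, q1, q2⟩ := (e.mem_img le).1 hx
    obtain ⟨v, v1, v2⟩ := ovT h c e nc q1 (q2.symm ▸ ic t)
    have := (e.ev h q1 (d.mem v)).2 v2
    rw [q2, ← y4] at this
    exact ⟨v, v1, this.imp (fun t => Subtype.ext (Subtype.ext t)) fun t => Subtype.ext (Subtype.ext
      (t.trans (by rw [coe_mul, coe_mul, y3])))⟩
  · rw [← card_map_subtype]
    refine card_le h c e nc ⟨y, E1, y3⟩ ?_
    rintro _ ⟨s, hs, rfl⟩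
    have k5 : ∀ s ∈ E, (s : G) * Θ (φ xP) = Θ (φ xP) * s ∧ IsConj (j t) (Θ (φ xP) * s) := fun s hs =>
      ⟨y4 xP ▸ congrArg Subtype.val (E2 s hs).2.1, y4 xP ▸ ic (E2 s hs).2.2⟩
    refine ⟨congrArg Subtype.val (E2 s hs).1, ?_⟩
    have k6 := k5 _ (mul_mem E1 hs)
    rw [coe_mul, y3, ← mul_assoc] at k6
    rcases k3 with a | a
    · exact ⟨a ▸ (k5 s hs).1, by simpa [← a] using (k5 s hs).2⟩
    · exact ⟨a ▸ (comm_mul_left (k5 s hs).1.symm (MonData.comm_z s).symm).symm, by simpa [← a] using k6.2⟩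

end Cfsg.Agent.Std2E
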