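import Cfsg.Agent.Std2E.Defs
import Cfsg.Agent.E6S.Cls
import Cfsg.Agent.Mon.BGen

/-! The coordinates of the Baby Monster `C(a)/⟨a⟩`; generation of `C(a,b)`. -/

set_option autoImplicit false

namespace Cfsg.Agent.Std2E.Md

open Cfsg Cfsg.Spor Cfsg.Agent.Spor Cfsg.Agent.Spor.Leech Cfsg.Agent.TT Cfsg.Agent.LES Cfsg.Agent.Mon
  Cfsg.Agent.Mon.LC Cfsg.Agent.LES.Co Subgroup
open Cfsg.Agent.MonY.E0 (mem_c2)

theorem exists_babyData {G H : Type*} [Group G] [Group H] [Finite G] {z : G} {Q : Subgroup G}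
    {π : centralizer ({z} : Set G) →* Co1} {φ : leechLattice → G} (d : MonData z Q π φ) {t : G}
    (ht : Eqv z t (φ leechU)) {m : centralizer ({t} : Set G) →* H} (q : InvQuot Q z t m) :
    ∃ γ : centralizer ({m ⟨z, q.z_mem⟩} : Set H) →* Co2,
      BabyData (m ⟨z, q.z_mem⟩) ((Q.subgroupOf (centralizer ({t} : Set G))).map m) γ
        (fun x => m ⟨φ x, d.invQuot_comm ht x⟩) ∧
      ∀ c : centralizer ({m ⟨z, q.z_mem⟩} : Set H), ∃ (h : centralizer ({z} : Set G))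
        (hh : (h : G) ∈ centralizer ({t} : Set G)), m ⟨h, hh⟩ = c ∧ (co2Incl (γ c) : Co1) = π h := by
  have : Finite H := Finite.of_surjective m q.surj
  have xs := q.xs (by rw [d.card]; norm_num)
  let Rel : H → Co2 → Prop := fun c g => ∃ (h : centralizer ({z} : Set G))
    (hh : (h : G) ∈ centralizer ({t} : Set G)), m ⟨h, hh⟩ = c ∧ (co2Incl g : Co1) = π h
  have ex : ∀ c : H, c * m ⟨z, q.z_mem⟩ = m ⟨z, q.z_mem⟩ * c → ∃ g, Rel c g := fun c hc => by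
    obtain ⟨h, rfl⟩ := q.surj c
    have hz := mem_centralizer_singleton_iff.mpr (q.comm_iff.mp hc)
    obtain ⟨g, hg⟩ := QuotientGroup.mk_surjective (π ⟨h, hz⟩)
    obtain ⟨y, hy⟩ := d.congr_of_comm hg ht (InvQuot.comm_t h)
    rcases eq_or_neg_of_congr (by rw [sqNorm_smul, sqNorm_leechU]; norm_num)
      (by rw [sqNorm_leechU]; norm_num) hy with e | e
    · obtain ⟨a, rfl⟩ := exists_co2Incl e
      exact ⟨a, ⟨h, hz⟩, h.2, rfl, hg⟩
    · obtain ⟨a, ha⟩ := exists_co2Incl (g := negOne * g) (by rw [mul_smul, e]; simp)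
      exact ⟨a, ⟨h, hz⟩, h.2, rfl, (mk_eq_mk_Co1.mpr (Or.inr ha)).trans hg⟩
  have uniq : ∀ c g g', Rel c g → Rel c g' → g = g' := by
    rintro c g g' ⟨h, hh, rfl, e⟩ ⟨h', hh', e1, e'⟩
    refine co2_mk_injective ?_
    rw [e, e', eq_comm, ← inv_mul_eq_one, ← map_inv, ← map_mul, d.ker]
    rcases q.eq_iff.mp e1 with a | a <;> simp only at a
    · simp [a]
    · simp [a, q.t_mem]
  have mul : ∀ a b g g', Rel a g → Rel b g' → Rel (a * b) (g * g') := by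
    rintro _ _ g g' ⟨h, hh, rfl, e⟩ ⟨h', hh', rfl, e'⟩
    exact ⟨h * h', mul_mem hh hh', map_mul m ⟨h, hh⟩ ⟨h', hh'⟩, by
      rw [map_mul, QuotientGroup.mk_mul, e, e', map_mul]⟩
  choose γ₀ hγ₀ using ex
  let γ : centralizer ({m ⟨z, q.z_mem⟩} : Set H) →* Co2 :=
    MonoidHom.mk' (fun c => γ₀ c (MonData.comm_z c)) fun a b =>
      uniq _ _ _ (hγ₀ _ _) (mul _ _ _ _ (hγ₀ _ _) (hγ₀ _ _))
  have hγ : ∀ c : centralizer ({m ⟨z, q.z_mem⟩} : Set H), Rel c (γ c) := fun c => hγ₀ _ _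
  have relQ : ∀ c, Rel c 1 ↔ c ∈ (Q.subgroupOf (centralizer ({t} : Set G))).map m := fun c => by
    constructor
    · rintro ⟨h, hh, rfl, e⟩
      exact q.mem_iff.mpr ((d.ker h).mp (by rw [← e, map_one]; rfl))
    · rintro ⟨a, ha, rfl⟩
      exact ⟨⟨a, LX_le_centralizer d.lx ha⟩, a.2, rfl, by
        rw [(d.ker ⟨a, _⟩).mpr ha, map_one]; rfl⟩
  have lx : LX ((Q.subgroupOf (centralizer ({t} : Set G))).map m) (m ⟨z, q.z_mem⟩) := by
    refine ⟨xs, fun c hc => ?_, q.norm⟩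
    have h1 := hγ₀ c (hc _ xs.z_mem).symm
    rw [← relQ]
    suffices 1 = γ₀ c (hc _ xs.z_mem).symm from this ▸ h1
    obtain ⟨h, hh, rfl, e⟩ := h1
    refine co2Incl_injective (((map_one _).trans (eq_one_of_pm (co2Incl_u _) fun w hw hw0 => ?_).symm))
    have hw1 : w ∈ leechPerpU := by
      change (16 : ℤ) ∣ dotInt (w : GolayPt → ℤ) (leechU : GolayPt → ℤ)
      rw [dotInt_comm, hw0]; exact dvd_zero _
    have h2 := hc _ ((q.mem_iff (a := ⟨φ w, d.invQuot_comm ht ⟨w, hw1⟩⟩)).mpr (d.mem w))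
    rw [← map_mul, ← map_mul, eq_comm, q.eq_iff] at h2
    have h3 := d.conj h _ e w
    rcases h2 with a | a <;> simp only [coe_mul] at a
    · rw [a, mul_inv_cancel_right] at h3
      obtain ⟨y, hy⟩ := d.eqv_iff.mp h3
      exact eq_or_neg_of_congr (by rw [sqNorm_smul]; omega) (by omega) hy
    · rw [a, mul_assoc (φ w), mem_centralizer_singleton_iff.mp hh, ← mul_assoc,
        mul_inv_cancel_right] at h3
      obtain ⟨y, hy⟩ := (d.eqv_mul_t ht).mp h3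
      have h4 : sqNorm ((w + leechU : leechLattice) : GolayPt → ℤ) = 64 := by
        rw [AddSubgroup.coe_add, sqNorm_add, hw, sqNorm_leechU, dotInt_comm, hw0]; rfl
      have h5 := sqNorm_smul (co2Incl (γ₀ _ (hc _ xs.z_mem).symm)) w
      rcases eq_or_neg_of_congr (by omega) h4.le hy with b | b <;> rw [b] at h5
      · omega
      · rw [AddSubgroup.coe_neg, sqNorm_neg] at h5; omega
  have surj : Function.Surjective γ := fun g => by
    obtain ⟨h, h1, h2⟩ := d.exists_comm_of_congr (g := co2Incl g) ht q.t_ne q.t_ne_z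
      ⟨0, by rw [co2Incl_u]; simp⟩
    have h3 := mem_centralizer_singleton_iff.mpr h2
    exact ⟨⟨m ⟨h, h3⟩, mem_centralizer_singleton_iff.mpr (q.comm_iff.mpr (MonData.comm_z h))⟩,
      uniq _ _ _ (hγ _) ⟨h, h3, rfl, h1⟩⟩
  have ker : ∀ c, γ c = 1 ↔ (c : H) ∈ (Q.subgroupOf (centralizer ({t} : Set G))).map m := fun c => by
    rw [← relQ]
    exact ⟨fun e => e ▸ hγ c, fun e => uniq _ _ _ (hγ c) e⟩
  refine ⟨γ, ⟨lx, ?_, ?_, surj, ker, fun x => q.mem_iff.mpr (d.mem _), fun v w => ?_, ?_, fun x => ?_,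
    fun c x y hxy => ?_⟩, hγ⟩
  · rintro _ ⟨a, ha, rfl⟩
    have := (pCore_normal 2 (centralizer ({m ⟨z, q.z_mem⟩} : Set H))).map γ surj
    have := Co2_normal_two_eq_bot _
      ((Grp.pCore_isPGroup 2 (centralizer ({m ⟨z, q.z_mem⟩} : Set H))).map γ)
    exact (ker a).mp (mem_bot.mp (this ▸ mem_map_of_mem γ ha))
  · have := q.card
    rw [d.card] at this; omega
  · rw [← map_mul]
    exact q.eqv_of (d.add v w)
  · rintro _ ⟨a, ha, rfl⟩
    obtain ⟨v, hv⟩ := d.onto _ ha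
    exact ⟨⟨v, Int.dvd_of_emod_eq_zero ((d.comm_iff hv ht).mp (InvQuot.comm_t a))⟩, q.eqv_of hv⟩
  · rw [← map_one m, q.eqv_iff]
    refine or_congr (d.triv _) ?_
    simp only [coe_one, one_mul]
    exact ⟨fun h => (d.eqv_iff.mp (h.trans d.z_sq ht)).imp fun _ e => sub_eq_iff_eq_add'.mp e,
      fun h => (d.eqv_iff.mpr (h.imp fun _ e => sub_eq_iff_eq_add'.mpr e)).trans d.z_sq
        (ht.symm d.z_sq)⟩
  · obtain ⟨h, hh, e1, e2⟩ := hγ c
    rw [← e1, ← map_inv, ← map_mul, ← map_mul]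
    refine q.eqv_of ?_
    have := d.conj h _ e2 x
    rwa [co2Incl_smul, hxy] at this

theorem exists_std3 {r s u : leechLattice} (hr : nm r = 32) (hs : nm s = 32) (hrs : dt r s = -16)
    (hu : nm u = 32) (hru : dt r u = 0) (hsu : dt s u = -16) :
    ∃ k : Co0, k • r = leechU ∧ k • u = leechU' ∧ k • s = -x16 := by
  obtain ⟨k, a, b⟩ := exists_std_pair hr hu hru
  have h1 := dt_smul k r s
  have h2 := dt_smul k s u
  rw [a, hrs, dt, dot_U] at h1
  rw [b, hsu, dt, dot_leechU'] at h2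
  obtain ⟨j, j1, j2, j3⟩ := exists_shape ((nm_smul k s).trans hs) (p := none) (by omega)
  have j4 : j ≠ some 0 := by rintro rfl; omega
  obtain ⟨σ, hσ⟩ := M24C.exists_map_tuple (k := 3) (by norm_num) ![none, some 0, j] ![none, some 0, some 1]
    (by intro x y; fin_cases x <;> fin_cases y <;> simp [j1, j4, j1.symm, j4.symm]) (by decide)
  have s0 : (σ : Equiv.Perm GolayPt) none = none := hσ 0
  have s1 : (σ : Equiv.Perm GolayPt) (some 0) = some 0 := hσ 1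
  have s2 : (σ : Equiv.Perm GolayPt) j = some 1 := hσ 2
  obtain ⟨a', b'⟩ := fix_U_iff.2 (show permHom σ • e8 none = e8 none ∧
    permHom σ • e8 (some 0) = e8 (some 0) from ⟨by rw [permHom_e8, s0], by rw [permHom_e8, s1]⟩)
  have hx : ∀ i, ((permHom σ • k • s : leechLattice) : GolayPt → ℤ) i =
      if i = none then -4 else if i = some 1 then ((k • s : leechLattice) : GolayPt → ℤ) j else 0 := by
    intro i
    obtain ⟨i, rfl⟩ := (σ : Equiv.Perm GolayPt).surjective i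
    have k0 : (σ : Equiv.Perm GolayPt) i = none ↔ i = none :=
      ⟨fun e => (σ : Equiv.Perm GolayPt).injective (e.trans s0.symm), fun e => e ▸ s0⟩
    have k2 : (σ : Equiv.Perm GolayPt) i = some 1 ↔ i = j :=
      s2 ▸ (σ : Equiv.Perm GolayPt).apply_eq_iff_eq
    rw [permHom_smul']
    simp only [k0, k2]
    split_ifs with e1 e2
    · rw [e1]; omega
    · rw [e2]
    · exact j3 i e1 e2
  rcases j2 with j2 | j2
  · have hc : setOf' 4845570 ∈ GC := setOf'_mem_codeSets (by decide +kernel)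
    refine ⟨sgn _ hc * (permHom σ * k), ?_, ?_, ?_⟩
    · rw [mul_smul, mul_smul, a, a', sgn_leechU hc (by decide) (by decide)]
    · rw [mul_smul, mul_smul, b, b', sgn_leechU' hc (by decide) (by decide)]
    · rw [mul_smul, mul_smul]
      refine Subtype.ext (funext fun i => ?_)
      rw [sgn_smul, hx, j2]; revert i; decide
  · refine ⟨permHom σ * k, by rw [mul_smul, a, a'], by rw [mul_smul, b, b'], ?_⟩
    rw [mul_smul]
    refine Subtype.ext (funext fun i => ?_)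
    rw [hx, j2]; revert i; decide

variable {G : Type} [Group G] [Finite G] {z : G} {Q : Subgroup G}
  {π : centralizer ({z} : Set G) →* Co1} {ψ : leechLattice → G} {lam : G → G → ℝ} {a b : G}

/-- `C(a, b, z)` is transitive on the points collinear with `z`. -/
theorem trans_coll (h : If0 z Q π ψ) (ha : a ∈ cA ψ) (hb : b ∈ Dt ψ a) (hz : z ∈ Rt z Q a b) {s w : G}
    (hs : s ∈ Rt z Q a b ∧ s ∈ Q ∧ s ≠ z) (hw : w ∈ Rt z Q a b ∧ w ∈ Q ∧ w ≠ z) :
    ∃ c ∈ centralizer ({a, b} : Set G), c * z = z * c ∧ c * s * c⁻¹ = w := by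
  obtain ⟨r, x, hr, hx, hd, ea, eb⟩ := CE.J0.exists_std h ha hb hz
  obtain ⟨t, ⟨t1, t2, t3⟩, t4⟩ := (CE.J0.coll_iff h hr hx hd ea eb).1 hs
  obtain ⟨u, ⟨u1, u2, u3⟩, u4⟩ := (CE.J0.coll_iff h hr hx hd ea eb).1 hw
  obtain ⟨k, k1, k2, k3⟩ := exists_std3 hr hx hd t1 t2 t3
  obtain ⟨l, l1, l2, l3⟩ := exists_std3 hr hx hd u1 u2 u3
  have e : ∀ {v v' y : leechLattice}, k • v = y → l • v' = y → (l⁻¹ * k) • v = v' := fun e1 e2 => by
    rw [mul_smul, e1, ← e2, inv_smul_smul]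
  obtain ⟨c, c1, c2⟩ := MonY.E0.exists_lift h ha hb.1 hb.2 ea eb (e k1 l1) (e k3 l3)
  have := h.mon.conj_eqv c1 t4
  rw [smul_add, e k1 l1, e k2 l2] at this
  rcases this.trans h.mon.z_sq (u4.symm h.mon.z_sq) with e' | e'
  · exact ⟨c, c2, MonData.comm_z c, e'⟩
  obtain ⟨q, q1, q2, q3, q4⟩ := BG.flip h ha hb hz (CE.Rt_mem_cB hw.1) (h.inQ_z.2 hw.2.1) hw.2.2
  refine ⟨q * c, mul_mem (mem_c2.2 ⟨q1, q2⟩) c2, comm_mul_left q3 (MonData.comm_z c), ?_⟩
  calc _ = q * (c * s * (c : G)⁻¹) * q⁻¹ := by group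
    _ = _ := by rw [e', ← conj_mul, q4, conj_eq_of_comm q3, h.xs.mul_z_z]

theorem gen (h : If1 z Q π ψ lam) (ha : a ∈ cA ψ) (hb : b ∈ Dt ψ a) (hzR : z ∈ Rt z Q a b) {s : G}
    (hs : s ∈ Rt z Q a b ∧ s ∈ Q ∧ s ≠ z) {F : Subgroup G}
    (hz : ∀ c ∈ centralizer ({a, b} : Set G), c * z = z * c → c ∈ F)
    (hsF : ∀ c ∈ centralizer ({a, b} : Set G), c * s = s * c → c ∈ F) : centralizer {a, b} ≤ F := by
  classical
  have h' := h.toIf0
  have s0 : ∀ w ∈ Rt z Q a b, InQ z Q z w → w ≠ z →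
      ∃ f ∈ F ⊓ centralizer {a, b}, f * z * f⁻¹ = w := fun w hw h1 h2 => by
    obtain ⟨c, c1, c2, rfl⟩ := trans_coll h' ha hb hzR hs ⟨hw, h'.inQ_z.1 h1, h2⟩
    obtain ⟨q, q1, q2, q3, q4⟩ := BG.flip h' ha hb hzR (CE.Rt_mem_cB hw) h1 h2
    obtain ⟨p, p1, p2, p3, p4⟩ := BG.flip h' ha hb hw z_mem_cB (h'.inQ_symm (CE.Rt_mem_cB hw) h1) h2.symm
    have hp := mem_c2.2 ⟨p1, p2⟩
    have hq := mem_c2.2 ⟨q1, q2⟩
    have := hsF (c⁻¹ * p * c) (mul_mem (mul_mem (inv_mem c1) hp) c1) (by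
      calc _ = c⁻¹ * (p * (c * s * c⁻¹)) * c := by group
        _ = _ := by rw [p3]; group)
    rw [F.mul_mem_cancel_right (hz c c1 c2), F.mul_mem_cancel_left (inv_mem (hz c c1 c2))] at this
    refine ⟨q⁻¹ * p, mul_mem (inv_mem ⟨hz q hq q3, hq⟩) ⟨this, hp⟩, ?_⟩
    calc _ = q⁻¹ * (p * z * p⁻¹) * q := by group
      _ = _ := by rw [p4, ← h'.xs.z_comm _ (h'.inQ_z.1 h1), ← q4]; group
  have s1 : ∀ y, (∃ f ∈ F ⊓ centralizer {a, b}, f * z * f⁻¹ = y) → ∀ w ∈ Rt z Q a b, InQ z Q y w →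
      w ≠ y → ∃ f ∈ F ⊓ centralizer {a, b}, f * z * f⁻¹ = w := by
    rintro _ ⟨f, hf, rfl⟩ w hw h1 h2
    obtain ⟨f1, f2⟩ := mem_c2.1 (inv_mem hf.2)
    obtain ⟨g, hg, e⟩ := s0 (f⁻¹ * w * f⁻¹⁻¹) ((CE.Rt_conj' f1 f2).2 hw)
      (by simpa using h'.inQ_z.2 (h'.inQ_iff.1 h1)) fun e => h2 (by rw [← e]; group)
    refine ⟨f * g, mul_mem hf hg, ?_⟩
    calc _ = f * (g * z * g⁻¹) * f⁻¹ := by group
      _ = _ := by rw [e]; group
  exact BG.le_of_orbit (x := z) (T := Rt z Q a b) (S := {w | w ∈ Rt z Q a b ∧ orderOf (z * w) = 4})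
    (fun t => ⟨fun ht => (h'.trans_R ha hb hzR ht).imp fun g e =>
      ⟨mem_c2.2 ⟨comm_of_conj_eq e.1, comm_of_conj_eq e.2.1⟩, e.2.2⟩,
      fun ⟨g, hg, e⟩ => e ▸ (CE.Rt_conj' (mem_c2.1 hg).1 (mem_c2.1 hg).2).2 hzR⟩)
    (fun c hc => hz c hc.1 (mem_centralizer_singleton_iff.1 hc.2))
    (fun w hw => by
      obtain ⟨p1, p2, p3⟩ := CE.J0.four h' ha hb hzR hw.1 hw.2
      have k : ∀ {x}, InQ z Q x z → InQ z Q x w → x ≠ z ∧ w ≠ x := fun {x} e1 e2 => by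
        have : z * w ≠ w * z := fun e => by
          have := orderOf_dvd_of_pow_eq_one (show (z * w) ^ 2 = 1 by
            rw [(show Commute z w from e).mul_pow, sq, sq, h'.mon.z_sq,
              h'.mul_self_B (CE.Rt_mem_cB hw.1), mul_one])
          rw [hw.2] at this; omega
        exact ⟨fun e => this (CE.J0.inQ_comm h' (e ▸ e2)).symm,
          fun e => this (CE.J0.inQ_comm h' (e ▸ e1))⟩
      exact s1 _ (s0 _ p1 (h'.inQ_symm z_mem_cB p2) (k p2 p3).1) w hw.1 p3 (k p2 p3).2)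
    fun m n h1 h2 => by
      rw [CE.J0.ncard_four h' ha hb hzR] at h1
      rw [h.ncard_R ha hb] at h2
      rcases n with _ | _ | _ | n
      · omega
      · rfl
      · omega
      · nlinarith

end Cfsg.Agent.Std2E.Md
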