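import Cfsg.Agent.Std2E.ModelA

/-! The involutions of `C(a,b)/⟨a,b⟩` and their lifts. -/

set_option autoImplicit false

namespace Cfsg.Agent.Std2E.Md

open Cfsg Cfsg.Spor Cfsg.Agent.Spor Cfsg.Agent.Spor.Leech Subgroup Cfsg.Agent.TT Cfsg.Agent.LES
  Cfsg.Agent.Mon Cfsg.Agent.MonU Cfsg.Agent.MonU.E6
open Cfsg.Agent.MonY.E0 (mem_c2)

theorem mc_smul {c : ℕ} (h : M24C.okM c = true) {v w : leechLattice}
    (e : ∀ i < 24, (w : GolayPt → ℤ) (pt (M24C.dg c i)) = (v : GolayPt → ℤ) (pt i)) :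
    permHom (M24C.mc c) • v = w := by
  refine Subtype.ext (funext fun p => ?_)
  obtain ⟨p, rfl⟩ := (M24C.mc c : Equiv.Perm GolayPt).surjective p
  rw [permHom_smul']
  revert p
  refine forall_pt.2 fun i hi => ?_
  rw [← e i hi]
  exact congrArg _ (M24C.mc_smul_pt h hi).symm

theorem exists_tw : ∃ g : Co0, g • leechU = leechU ∧ g • x16 = x16 ∧ ∃ y : leechLattice,
    g • (Br.v4 none (some 12) true + Br.v4 (some 14) (some 16) true) -
      (-x16 + (Br.v4 none (some 12) true + Br.v4 (some 14) (some 16) true)) = y + y := by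
  have k : M24C.okM 958718352031623821464401667674227744 = true := by decide +kernel
  refine ⟨sgn _ oc * permHom (M24C.mc 958718352031623821464401667674227744), ?_, ?_,
    ⟨fun i => if i = none ∨ i = some 1 ∨ i = some 4 ∨ i = some 8 then 2 else
      if i ∈ setOf' 8474906 then -2 else 0,
      mem_leech_of_even (setOf'_mem_codeSets (m := 8474906) (by decide +kernel)) (by decide)
        (by decide)⟩, ?_⟩
  · rw [mul_smul, mc_smul k (w := leechU) (by decide +kernel)]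
    exact Subtype.ext (funext fun i => by rw [sgn_smul]; revert i; decide)
  · rw [mul_smul, mc_smul k (w := x16) (by decide +kernel)]
    exact Subtype.ext (funext fun i => by rw [sgn_smul]; revert i; decide)
  · rw [mul_smul, mc_smul k (w := Br.v4 none (some 3) true + Br.v4 (some 4) (some 8) true)
      (by decide +kernel)]
    exact Subtype.ext (funext fun i => by
      rw [AddSubgroup.coe_sub, Pi.sub_apply, sgn_smul]; revert i; decide)

variable {G : Type} [Group G] [Finite G] {z : G} {Q : Subgroup G}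
  {π : centralizer ({z} : Set G) →* Co1} {ψ : leechLattice → G} {a b : G}

theorem exists_twist (h : If0 z Q π ψ) (ea : Eqv z a (ψ leechU)) (eb : Eqv z b (ψ x16)) :
    ∃ k ∈ centralizer ({a, b} : Set G),
      k * ψ (Br.v4 none (some 12) true + Br.v4 (some 14) (some 16) true) * k⁻¹ =
        b * ψ (Br.v4 none (some 12) true + Br.v4 (some 14) (some 16) true) := by
  have ha := A_a h ea
  have hb := D_b h ea eb
  obtain ⟨g, g1, g2, y, g3⟩ := exists_tw
  obtain ⟨u, u1, u2⟩ := MonY.E0.exists_lift h ha hb.1 hb.2 ea eb g1 g2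
  have e1 := h.eqv_mul' (h.eqv_neg eb)
    (Eqv.refl z (ψ (Br.v4 none (some 12) true + Br.v4 (some 14) (some 16) true)))
  rcases (h.eqv_congr (h.mon.conj_eqv u1 (.refl _ _)) g3).trans h.mon.z_sq (e1.symm h.mon.z_sq) with e | e
  · exact ⟨u, u2, e⟩
  obtain ⟨a1, a2⟩ := CE.J0.mem_B_of_eqv h e1 (by decide)
  have hQ := h.mon.mem_of_eqv e1
  have := mt (h.cent_two ha hb.1 hb.2 (h.mon.mem_of_eqv ea) (h.mon.mem_of_eqv eb) _ hQ a1) a2
  push Not at this
  obtain ⟨q, hq, b1, b2, b3⟩ := this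
  refine ⟨q * u, mul_mem (mem_c2.2 ⟨b1, b2⟩) u2, ?_⟩
  rw [show ∀ x : G, q * u * x * (q * u)⁻¹ = q * (u * x * (u : G)⁻¹) * q⁻¹ from fun x => by group, e,
    ← conj_mul, h.xs.conj_of_ne hq hQ b3, conj_eq_of_comm (h.xs.z_comm q hq), h.xs.mul_z_z]

theorem cls (h : If0 z Q π ψ) (ea : Eqv z a (ψ leechU)) (eb : Eqv z b (ψ x16)) :
    ∃ y ∈ centralizer ({a, b} : Set G), ∀ l ∈ centralizer ({a, b} : Set G),
      l * l ∈ closure ({a, b} : Set G) → l ∈ closure ({a, b} : Set G) ∨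
        (∃ e ∈ closure ({a, b} : Set G), e * l ∈ Rt z Q a b) ∨ ∃ k ∈ centralizer ({a, b} : Set G),
          (∃ e ∈ closure ({a, b} : Set G), k * l * k⁻¹ = e * y) ∨ k * l * k⁻¹ = b * l := by
  have ha := A_a h ea
  have hb := D_b h ea eb
  have cm : ∀ e ∈ closure ({a, b} : Set G), ∀ k ∈ centralizer ({a, b} : Set G), e * k = k * e :=
    fun e he k hk => mem_centralizer_closure_pair.2 (mem_c2.1 hk) e he
  let N := (closure ({a, b} : Set G)).subgroupOf (centralizer {a, b})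
  have : N.Normal := ⟨fun n hn g => by
    have : g * n * g⁻¹ = n := Subtype.ext (conj_eq_of_comm (cm _ hn _ g.2).symm)
    rwa [this]⟩
  have q : Quo z Q π ψ a b (QuotientGroup.mk' N) :=
    ⟨h, ea, eb, QuotientGroup.mk'_surjective N, fun x => QuotientGroup.eq_one_iff x⟩
  generalize QuotientGroup.mk' N = m at q
  refine ⟨ψ (Br.v4 (some 2) (some 3) true), mem_c2.2 ⟨(h.mon.comm_iff (.refl _ _) ea).2 (by decide),
    (h.mon.comm_iff (.refl _ _) eb).2 (by decide)⟩, fun l hl h2 => ?_⟩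
  by_cases h1 : l ∈ closure ({a, b} : Set G)
  · exact .inl h1
  have : Fintype (GaloisField 2 2) := Fintype.ofFinite _
  have hF : Fintype.card (GaloisField 2 2) = 4 := by
    rw [← Nat.card_eq_fintype_card, GaloisField.card 2 2 (by norm_num)]; norm_num
  obtain ⟨e⟩ := q.iso _ hF
  have r := fun v => Eqv.refl z (ψ v)
  have mE := fun {x} => (mem_E h ha hb (x := x)).1
  have cK : ∀ {v : leechLattice}, dotInt (v : GolayPt → ℤ) (leechU : GolayPt → ℤ) % 16 = 0 →
      dotInt (v : GolayPt → ℤ) (x16 : GolayPt → ℤ) % 16 = 0 → ψ v ∈ centralizer ({a, b} : Set G) :=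
    fun h1 h2 => mem_c2.2 ⟨(h.mon.comm_iff (r _) ea).2 h1, (h.mon.comm_iff (r _) eb).2 h2⟩
  have o2 : ∀ x : centralizer ({a, b} : Set G), (x : G) * x ∈ closure ({a, b} : Set G) →
      (x : G) ∉ closure ({a, b} : Set G) → orderOf (m x) = 2 := fun x h1 h2 =>
    orderOf_eq_prime (by rw [pow_two, ← map_mul, q.ker]; exact h1) (mt (q.ker x).1 h2)
  have oB : ∀ x : centralizer ({a, b} : Set G), ∀ f ∈ closure ({a, b} : Set G), f * x ∈ cB z →
      (x : G) * x = 1 → orderOf (m x) = 2 := fun x f hf h1 h2 => o2 x (h2 ▸ one_mem _) fun c =>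
    (E_A h ha hb (mul_mem hf c)).elim (h.ne_one_B h1) fun c => h.disj c h1
  have cj : ∀ {x y : centralizer ({a, b} : Set G)}, IsConj (m x) (m y) →
      ∃ k ∈ centralizer ({a, b} : Set G), ∃ f ∈ closure ({a, b} : Set G),
        (y : G) = k * (f * x) * k⁻¹ := fun {x y} c => by
    obtain ⟨g, hg⟩ := isConj_iff.1 c
    obtain ⟨k, rfl⟩ := q.surj g
    rw [← map_inv, ← map_mul, ← map_mul, eq_comm, q.eq_iff] at hg
    refine ⟨k, k.2, _, hg, ?_⟩
    rw [← mul_assoc, ← cm _ hg _ k.2]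
    simp [mul_assoc]
  have tA : ∀ {k f x f' : G}, k ∈ centralizer ({a, b} : Set G) → f' ∈ closure ({a, b} : Set G) →
      (f' * (k * (f * x) * k⁻¹) ∈ cA ψ ↔ f' * f * x ∈ cA ψ) := fun {k f x f'} hk hf => by
    rw [← conj_mem_cA_iff (a := f' * f * x) k, ← mul_assoc, ← mul_assoc, cm _ hf _ hk]
    simp [mul_assoc]
  let v := Br.v4 (some 2) (some 3) true
  let w := Br.v4 none (some 12) true + Br.v4 (some 14) (some 16) true
  have b1 : a * ψ v ∈ cB z := h.mem_B_of_eqv (h.eqv_mul' ea (r _)) (by decide)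
  have b2 : ∀ f ∈ closure ({a, b} : Set G), f * ψ v ∈ cA ψ → f = 1 := fun f hf c => by
    rcases mE hf with rfl | rfl | rfl | rfl
    · rfl
    · exact absurd b1 (h.disj c)
    · exact absurd (h.mem_B_of_eqv (h.eqv_mul' eb (r _)) (by decide)) (h.disj c)
    · exact absurd (h.mem_B_of_eqv (h.eqv_mul' (h.eqv_mul' (h.eqv_neg ea) eb) (r _)) (by decide))
        (h.disj c)
  have b3 : ∀ f ∈ closure ({a, b} : Set G), f * ψ w ∈ cB z := fun f hf => by
    rcases mE hf with rfl | rfl | rfl | rfl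
    · exact h.mem_B_of_eqv (by rw [one_mul]; exact r w) (by decide)
    · exact h.mem_B_of_eqv (h.eqv_mul' (h.eqv_neg ea) (r _)) (by decide)
    · exact h.mem_B_of_eqv (h.eqv_mul' (h.eqv_neg eb) (r _)) (by decide)
    · exact h.mem_B_of_eqv (h.eqv_congr (h.eqv_mul' (h.eqv_mul' (h.eqv_neg ea) (h.eqv_neg eb)) (r w))
        (w := -(Br.v4 (some 1) (some 17) true + Br.v4 (some 18) (some 22) true))
        (y := ⟨fun i => if i = none ∨ i = some 0 then -2 else if i ∈ setOf' 13062145 then 2 else 0,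
          mem_leech_of_even (setOf'_mem_codeSets (m := 13062145) (by decide +kernel)) (by decide)
            (by decide)⟩) (Subtype.ext (by decide))) (by decide)
  have vA : ψ v ∈ cA ψ := h.mem_A_of_eqv (r _) (by decide)
  have zA : ∀ f ∈ closure ({a, b} : Set G), f ≠ 1 → f * z ∈ cA ψ := fun f hf c =>
    h.mul_z_mem_A ((E_A h ha hb hf).resolve_left c) (q.E_Q hf)
  have aE : a ∈ closure ({a, b} : Set G) := subset_closure (by simp)
  have bE : b ∈ closure ({a, b} : Set G) := subset_closure (by simp)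
  rcases E6S.three_of_equiv e (S2182.result 2 hF) (x := m ⟨ψ v, cK (by decide) (by decide)⟩)
    (y := m ⟨ψ w, cK (by decide) (by decide)⟩) (w := m ⟨z, q.z_mem⟩)
    (oB _ a aE b1 (h.mul_self_A vA)) (oB _ 1 (one_mem _) (b3 1 (one_mem _))
      (h.mul_self_B (by simpa using b3 1 (one_mem _))))
    (oB _ 1 (one_mem _) (by simpa using z_mem_cB) h.mon.z_sq) (o2 ⟨l, hl⟩ h2 h1)
    (fun c => by
      obtain ⟨k, hk, f, hf, e⟩ := cj c
      exact h.disj ((show ψ w = _ from e) ▸ (tA hk (inv_mem hf)).2 (by simpa using vA))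
        (b3 _ (inv_mem hf)))
    (fun c => by
      obtain ⟨k, hk, f, hf, e⟩ := cj c
      have k1 : ∀ f' ∈ closure ({a, b} : Set G), f' ≠ 1 → f' * f = 1 := fun f' h1 h2 =>
        b2 _ (mul_mem h1 hf) ((tA hk h1).1 (e ▸ zA f' h1 h2))
      exact ne_ab h ha hb (mul_right_cancel ((k1 a aE (h.ne_one_A ha)).trans
        (k1 b bE (h.ne_one_A hb.1)).symm)))
    (fun c => by
      obtain ⟨k, hk, f, hf, e⟩ := cj c
      exact h.disj ((tA hk aE).1 (e ▸ zA a aE (h.ne_one_A ha))) (b3 _ (mul_mem aE hf)))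
    with c | c | c
  all_goals obtain ⟨k, hk, f, hf, e⟩ := cj c
  all_goals simp only at e
  · exact .inr (.inr ⟨k⁻¹, inv_mem hk, .inl ⟨f, hf, by rw [e]; simp [mul_assoc, v]⟩⟩)
  · obtain ⟨p, hp, e' : p * ψ w * p⁻¹ = b * ψ w⟩ := exists_twist h ea eb
    refine .inr (.inr ⟨k * p * k⁻¹, mul_mem (mul_mem hk hp) (inv_mem hk), .inr ?_⟩)
    calc _ = k * ((p * f) * ψ w * p⁻¹) * k⁻¹ := by rw [e]; group
      _ = k * (f * (b * ψ w)) * k⁻¹ := by rw [← cm f hf p hp, ← e']; group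
      _ = (k * b) * (f * ψ w) * k⁻¹ := by
        rw [← mul_assoc f, ← cm b bE f (E_le h ha hb hf)]; group
      _ = _ := by rw [← cm b bE k hk, e]; group
  · refine .inr (.inl ⟨f⁻¹, inv_mem hf, ?_⟩)
    rw [e, ← mul_assoc k, ← cm f hf k hk, show f⁻¹ * (f * k * z * k⁻¹) = k * z * k⁻¹ by group]
    exact (CE.Rt_conj' (mem_c2.1 hk).1 (mem_c2.1 hk).2).2 (z_R h ea eb)

end Cfsg.Agent.Std2E.Md
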