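import Cfsg.Agent.Std2E.Defs
import Cfsg.Agent.E6S.Cls
import Cfsg.Agent.Mon.Baby
import Cfsg.Agent.Std2E.ModelB

/-! The model exists. -/

set_option autoImplicit false

namespace Cfsg.Agent.Std2E

open Cfsg Cfsg.Spor Cfsg.Agent.Spor Cfsg.Agent.Spor.Leech Cfsg.Agent.TT Cfsg.Agent.LES Cfsg.Agent.Mon
  Cfsg.Agent.Mon.LC Cfsg.Agent.Std2B Subgroup

variable {G : Type} [Group G] [Finite G] {z : G} {Q : Subgroup G}
  {π : centralizer ({z} : Set G) →* Co1} {ψ : leechLattice → G} {lam : G → G → ℝ}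

namespace Md

open Cfsg.Agent.MonU.E6
open Cfsg.Agent.MonY.E0 (mem_c2)

omit [Finite G] in
theorem K_le (a b : G) : centralizer ({a, b} : Set G) ≤ centralizer {a} := fun _ hx =>
  mem_centralizer_singleton_iff.2 (mem_c2.1 hx).1

variable {B : Type} [Group B] {a b : G} {m : centralizer ({a} : Set G) →* B}

omit [Finite G] in
theorem mem_M (q : InvQuot Q z a m) (hab : a * b = b * a) {x : centralizer ({a} : Set G)} :
    m x ∈ (m.comp (inclusion (K_le a b))).range ↔ (x : G) ∈ centralizer ({a, b} : Set G) := by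
  refine ⟨fun ⟨k, e⟩ => ?_, fun hx => ⟨⟨x, hx⟩, rfl⟩⟩
  rcases q.eq_iff.1 (Eq.symm e) with e | e <;> rw [e]
  · exact k.2
  · exact mul_mem k.2 (mem_c2.2 ⟨rfl, hab⟩)

theorem mem_Rts (h : If0 z Q π ψ) (ea : Eqv z a (ψ leechU)) (eb : Eqv z b (ψ x16))
    (q : InvQuot Q z a m) {w : B} :
    w ∈ Rts (m.comp (inclusion (K_le a b))).range (m ⟨z, q.z_mem⟩) ↔
      ∃ x : centralizer ({a} : Set G), (x : G) ∈ Rt z Q a b ∧ m x = w := by
  constructor
  · rintro ⟨_, ⟨k, rfl⟩, rfl⟩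
    refine ⟨inclusion (K_le a b) k * ⟨z, q.z_mem⟩ * (inclusion (K_le a b) k)⁻¹,
      (CE.Rt_conj' (mem_c2.1 k.2).1 (mem_c2.1 k.2).2).2 (z_R h ea eb), by simp⟩
  · rintro ⟨x, hx, rfl⟩
    obtain ⟨g, g1, g2, g3⟩ := h.trans_R (A_a h ea) (D_b h ea eb) (z_R h ea eb) hx
    refine ⟨_, ⟨⟨g, mem_c2.2 ⟨comm_of_conj_eq g1, comm_of_conj_eq g2⟩⟩, rfl⟩, ?_⟩
    rw [MonoidHom.comp_apply, ← map_inv, ← map_mul, ← map_mul]
    exact congrArg m (Subtype.ext g3)

theorem bm (h : If1 z Q π ψ lam) {m : centralizer ({ψ leechU} : Set G) →* B}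
    (q : InvQuot Q z (ψ leechU) m) (hb0 : ψ x16 ∈ centralizer ({ψ leechU} : Set G)) :
    ∃ γ φ, BM (m ⟨z, q.z_mem⟩) (m ⟨ψ x16, hb0⟩)
      ((Q.subgroupOf (centralizer ({ψ leechU} : Set G))).map m)
      (m.comp (inclusion (K_le (ψ leechU) (ψ x16)))).range γ φ := by
  have h' := h.toIf0
  have ea := Eqv.refl z (ψ leechU)
  have eb := Eqv.refl z (ψ x16)
  obtain ⟨γ, d, hγ⟩ := exists_babyData h'.mon ea q
  have ha := A_a h' ea
  have hb := D_b h' ea eb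
  have hz := z_R h' ea eb
  have hab : ψ leechU * ψ x16 = ψ x16 * ψ leechU := CD.commD h' ha hb
  have mM := fun {x} => mem_M q hab (x := x)
  have mR := fun {w} => mem_Rts h' ea eb q (w := w)
  have a0 : ψ leechU ∈ centralizer ({ψ leechU} : Set G) := mem_centralizer_singleton_iff.2 rfl
  have ma : ∀ x, m (x * ⟨_, a0⟩) = m x := fun x => q.eq_iff.2 (.inr rfl)
  have ct := fun x : centralizer ({ψ leechU} : Set G) => InvQuot.comm_t x
  have inj : ∀ x x' : centralizer ({ψ leechU} : Set G), (x : G) ∈ cB z →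
      (x' : G) ∈ Rt z Q (ψ leechU) (ψ x16) → m x = m x' → x = x' := fun x x' hx hx' e => by
    refine Subtype.ext ((q.eq_iff.1 e).resolve_right fun e => h'.disj ?_ hx)
    rw [e, ct]
    exact ((CE.J0.mem_Rt_iff h' ha hb.1).1 hx').2.1
  have coll := fun {w} => CE.J0.coll_iff h' (w := w) (r := leechU) (s := -x16) sqNorm_leechU
    ((nm_neg _).trans sqNorm_x16) (by rw [dt_neg_right, dt, dot_U_x16]) ea (h'.eqv_neg eb)
  have sqE : ∀ l : centralizer ({ψ leechU, ψ x16} : Set G),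
      m.comp (inclusion (K_le _ _)) l * m.comp (inclusion (K_le _ _)) l = 1 →
      (l : G) * l ∈ closure ({ψ leechU, ψ x16} : Set G) := fun l e => by
    rw [← map_mul, MonoidHom.comp_apply, q.ker] at e
    exact (mem_E h' ha hb).2 (e.imp_right .inl)
  refine ⟨γ, _, d, .refl _ _, ?_, fun k hk => ?_, ?_, ?_, fun w hw e1 e2 => ?_, fun w hw e1 e2 => ?_,
    ?_, ?_⟩
  · rintro _ ⟨k, rfl⟩
    rw [MonoidHom.comp_apply, ← map_mul, ← map_mul]
    exact congrArg m (Subtype.ext (mem_c2.1 k.2).2)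
  · obtain ⟨c, hc, e1, e2⟩ := hγ k
    rw [← e1, ← map_mul, ← map_mul, q.eq_iff] at hk
    rw [← e1, mM, mem_c2]
    have e3 := h'.mon.conj_eqv e2 eb
    have c1 := mem_centralizer_singleton_iff.1 hc
    refine ⟨fun e => MonU.Br.fix_of_dot (co2Incl_u _) (h'.pm_of_comm e2 eb sqNorm_x16 e.2) (by decide),
      fun e => ⟨c1, hk.resolve_right fun e' => ?_⟩⟩
    simp only [coe_mul] at e'
    rw [e, e', mul_assoc (ψ x16), c1, ← mul_assoc, mul_inv_cancel_right] at e3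
    rcases e3 with e3 | e3
    · exact q.t_ne (mul_eq_left.1 e3)
    · exact q.t_ne_z (mul_left_cancel e3)
  · have : Rts (m.comp (inclusion (K_le (ψ leechU) (ψ x16)))).range (m ⟨z, q.z_mem⟩) =
        m '' {x | (x : G) ∈ Rt z Q (ψ leechU) (ψ x16)} := Set.ext fun w => mR
    rw [this, Set.InjOn.ncard_image (f := m)
      (s := {x : centralizer ({ψ leechU} : Set G) | (x : G) ∈ Rt z Q (ψ leechU) (ψ x16)}) fun x hx x' hx' => inj x x' (CE.Rt_mem_cB hx) hx',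
      ← Set.ncard_image_of_injective _ Subtype.val_injective,
      show Subtype.val '' {x : centralizer ({ψ leechU} : Set G) | (x : G) ∈ Rt z Q (ψ leechU) (ψ x16)} =
        Rt z Q (ψ leechU) (ψ x16) from Set.ext fun x => ⟨by rintro ⟨y, hy, rfl⟩; exact hy, fun hx =>
          ⟨⟨x, mem_centralizer_singleton_iff.2 (CE.J0.inQ_comm h' hx.1).symm⟩, hx, rfl⟩⟩,
      h.ncard_R ha hb]
    decide
  · rintro _ ⟨x, hx, rfl⟩ hne
    rw [mR]
    constructor
    · rintro ⟨x', h1, e⟩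
      obtain ⟨τ, ⟨t1, t2, t3⟩, t4⟩ := coll.1 ⟨h1, q.mem_iff.1 ⟨x, hx, e.symm⟩, fun e' =>
        hne (e.symm.trans (congrArg m (Subtype.ext e')))⟩
      rw [dt_neg_left] at t3
      refine ⟨⟨τ, BabyData.mem_perp.2 (by rw [dotInt_comm]; exact ⟨0, t2⟩)⟩,
        ⟨t1, t2, neg_injective t3⟩, ?_⟩
      rw [add_comm] at t4
      rw [← e]
      exact q.eqv_iff.2 (.inr (t4.trans h'.mon.z_sq (h'.mon.add _ _)))
    · rintro ⟨v, ⟨t1, t2, t3⟩, e⟩
      have k : ∀ {w}, Eqv z w (ψ (leechU + v)) → w ∈ Rt z Q (ψ leechU) (ψ x16) := fun e =>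
        (coll.2 ⟨v, ⟨t1, t2, by rw [dt_neg_left, t3]⟩, e⟩).1
      rcases q.eqv_iff.1 e with e | e
      · exact ⟨x * ⟨_, a0⟩, k (by rw [add_comm]; exact h'.eqv_mul' e ea), ma x⟩
      · exact ⟨x, k (by rw [add_comm]; exact e.trans h'.mon.z_sq ((h'.mon.add _ _).symm h'.mon.z_sq)), rfl⟩
  · obtain ⟨x, hx, rfl⟩ := mR.1 hw
    obtain ⟨x', hx', e⟩ := mR.1 e2
    have c1 := q.comm_iff.1 e1
    refine q.mem_iff.2 (h'.inQ_z.1 ((CE.J0.comm_cases h' ha hb hz hx c1.symm).resolve_right fun c => ?_))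
    rw [← map_mul, q.eq_iff] at e
    rcases e with e | e <;> simp only [coe_mul] at e <;> rw [e, c1] at hx'
    · exact h'.disj c (CE.Rt_mem_cB hx')
    · refine h'.disj ((CE.J0.mem_Rt_iff h' ha hb.1).1 hx').2.2 ?_
      have := CE.J0.polar_mem_B h' hb.2 (h'.inQ_mul hz.1 hz.2) (h'.inQ_mul hx.1 hx.2) c
      rwa [mul_assoc, CE.cB_comm, mul_assoc] at this
  · obtain ⟨s, hs, rfl⟩ := mR.1 hw
    rintro _ ⟨k, rfl⟩
    have key : ∀ x : centralizer ({ψ leechU} : Set G), ∀ c ∈ centralizer ({ψ leechU, ψ x16} : Set G),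
        c * x = x * c → ∃ hc, m ⟨c, hc⟩ ∈ DD (m.comp (inclusion (K_le (ψ leechU) (ψ x16)))).range (m x) :=
      fun x c hc e => ⟨K_le _ _ hc, mem_DD.2 ⟨mM.2 hc, by
        rw [← map_mul, ← map_mul]; exact congrArg m (Subtype.ext e)⟩⟩
    obtain ⟨k', hk', e⟩ := gen h ha hb hz ⟨hs, q.mem_iff.1 e1, fun e => e2 (congrArg m (Subtype.ext e))⟩
      (F := ((DD (m.comp (inclusion (K_le (ψ leechU) (ψ x16)))).range (m ⟨z, q.z_mem⟩) ⊔
        DD (m.comp (inclusion (K_le (ψ leechU) (ψ x16)))).range (m s)).comap m).map (Subgroup.subtype _))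
      (fun c hc e => (key ⟨z, q.z_mem⟩ c hc e).elim fun hc e => ⟨⟨c, hc⟩, mem_sup_left e, rfl⟩)
      (fun c hc e => (key s c hc e).elim fun hc e => ⟨⟨c, hc⟩, mem_sup_right e, rfl⟩) k.2
    obtain rfl : k' = inclusion (K_le _ _) k := Subtype.ext e
    exact hk'
  · rintro _ ⟨l, rfl⟩ e
    obtain ⟨k, hk, e'⟩ := E6S.exists_conj_Q h' ha hb (h'.mon.mem _) (h'.mon.mem _) l.2 (sqE l e)
    refine ⟨_, ⟨⟨k, hk⟩⁻¹, rfl⟩, ?_⟩
    rw [MonoidHom.comp_apply, MonoidHom.comp_apply, ← map_inv, ← map_mul, ← map_mul, q.mem_iff]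
    simpa using e'
  · obtain ⟨y, hy, k⟩ := cls h' ea eb
    have mE : ∀ e ∈ closure ({ψ leechU, ψ x16} : Set G), ∀ x x' : centralizer ({ψ leechU} : Set G),
        (x' : G) = e * x → m x' = m x ∨ m x' = m ⟨ψ x16, hb0⟩ * m x := fun e he x x' e' => by
      rw [← map_mul, q.eq_iff, q.eq_iff]
      rcases (mem_E h' ha hb).1 he with rfl | rfl | rfl | rfl
      · exact .inl (.inl (e'.trans (one_mul _)))
      · exact .inl (.inr (e'.trans (ct x).symm))
      · exact .inr (.inl e')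
      · exact .inr (.inr (e'.trans ((mul_assoc _ _ _).trans (ct (⟨_, hb0⟩ * x)).symm)))
    refine ⟨m ⟨y, K_le _ _ hy⟩, ?_⟩
    rintro _ ⟨l, rfl⟩ e
    rw [MonoidHom.comp_apply]
    rcases k l l.2 (sqE l e) with c | ⟨e, he, c⟩ | ⟨k, hk, c⟩
    · rcases mE l c 1 (inclusion (K_le _ _) l) (mul_one _).symm with c | c
      · exact .inl (c.trans (map_one m))
      · exact .inr (.inl (by simpa using c))
    · have := mR.2 ⟨⟨e * l, K_le _ _ (mul_mem (E_le h' ha hb he) l.2)⟩, c, rfl⟩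
      rcases mE e he (inclusion (K_le _ _) l) ⟨e * l, K_le _ _ (mul_mem (E_le h' ha hb he) l.2)⟩ rfl
        with c | c <;> rw [c] at this
      exacts [.inr (.inr (.inl this)), .inr (.inr (.inr (.inl this)))]
    · refine .inr (.inr (.inr (.inr ⟨m ⟨k, K_le _ _ hk⟩, mM.2 hk, ?_⟩)))
      rw [← map_inv, ← map_mul, ← map_mul]
      rcases c with ⟨e, he, c⟩ | c
      · exact (mE e he _ _ c).imp_right .inl
      · exact .inr (.inr ((congrArg m (Subtype.ext c)).trans (map_mul m ⟨_, hb0⟩ _)))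

end Md

theorem exists_bm (h : If1 z Q π ψ lam) : ∃ (B : Type) (_ : Group B) (_ : Finite B) (y t : B)
    (R M : Subgroup B) (γ : centralizer ({y} : Set B) →* Co2) (φ : leechPerpU → B)
    (f : centralizer ({ψ leechU, ψ x16} : Set G) →* B), BM y t R M γ φ ∧ f.range = M ∧
      (∀ x, f x = 1 ↔ (x : G) = 1 ∨ (x : G) = ψ leechU) ∧ ∀ x, Subtype.val x = ψ x16 → f x = t := by
  have h0 : ψ leechU ∈ cA ψ := IsConj.refl _
  have q : InvQuot Q z (ψ leechU) (QuotientGroup.mk' (center (centralizer ({ψ leechU} : Set G)))) :=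
    ⟨h.mon.lx, h.mon.mem _, CD.sqA h.toIf0 h0, CD.neA h.toIf0 h0, h.disj h0,
      QuotientGroup.mk'_surjective _, fun _ => h.mk_eq_one h0⟩
  obtain ⟨γ, φ, d⟩ := Md.bm h q (h.mon.invQuot_comm (.refl _ _) xP)
  exact ⟨_, _, inferInstance, _, _, _, _, γ, φ, _, d, rfl, fun x => q.ker _,
    fun x e => congrArg (QuotientGroup.mk' _) (Subtype.ext e)⟩

end Cfsg.Agent.Std2E
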