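import Cfsg.Agent.Std2E.Ident
import Cfsg.Agent.Std2E.Model
import Cfsg.Agent.Std2E.Main
import Cfsg.Agent.MonU.IsoB

/-! Reduction to the chart. -/

set_option autoImplicit false

namespace Cfsg.Agent.Std2E

open Cfsg Subgroup

/-- The local form: no simplicity, only a conjugate of `t` in `C(t)`. -/
theorem babyType_of {G : Type*} [Group G] [Finite G] {t : G} (ht : orderOf t = 2)
    (M : Subgroup (centralizer ({t} : Set G))) [M.Normal] (K : Type) [Field K] [Fintype K]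
    (hK : Fintype.card K = 4) (hout : centralizer (M : Set (centralizer ({t} : Set G))) ≤ M)
    (hcov : IsNonsplitDoubleCover M (Lie.twistedE6 K 2)) {g : G} (h1 : g * t * g⁻¹ ≠ t)
    (h2 : g * t * g⁻¹ * t = t * (g * t * g⁻¹)) : IsOfBabyMonsterType G := by
  classical
  obtain ⟨B, _, _, y, s, R, N, γ, φ, f, h, rfl, kf, ft⟩ := exists_bm Mon.if1
  obtain ⟨p, ps, kp⟩ := exists_onto Mon.if1.toIf0 K hK hcov
  let j : B → G := fun x => if e : ∃ k, f k = x then ((p e.choose : centralizer ({t} : Set G)) : G) else 1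
  have hj : ∀ k, j (f k) = ((p k : centralizer ({t} : Set G)) : G) := fun k => by
    have e : ∃ k', f k' = f k := ⟨k, rfl⟩
    have e1 : p (e.choose⁻¹ * k) = 1 :=
      (kp _).2 ((kf _).1 (by rw [map_mul, map_inv, e.choose_spec, inv_mul_cancel]))
    rw [map_mul, map_inv, inv_mul_eq_one] at e1
    simp only [j, dif_pos e, e1]
  have inj : ∀ k, ((p k : centralizer ({t} : Set G)) : G) = 1 → f k = 1 := fun k e =>
    (kf k).2 ((kp k).1 (Subtype.ext (Subtype.ext e)))
  let t0 : centralizer ({t} : Set G) := ⟨t, mem_centralizer_singleton_iff.2 rfl⟩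
  have ct : ∀ x : centralizer ({t} : Set G), x * t0 = t0 * x := fun x =>
    Subtype.ext (mem_centralizer_singleton_iff.1 x.2)
  have tM : t0 ∈ M := hout (mem_centralizer_iff.2 fun x _ => ct x)
  have ph : Std2B.PH f.range j :=
    ⟨by rintro _ ⟨a, rfl⟩ _ ⟨b, rfl⟩; rw [← map_mul, hj, hj, hj, map_mul]; rfl,
      by rintro _ ⟨a, rfl⟩ e; exact inj a (hj a ▸ e)⟩
  have jt : j s = t := by
    obtain ⟨b, rfl⟩ := h.tD.1
    have c1 : p b ∈ center M := mem_center_iff.2 fun x => by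
      obtain ⟨x, rfl⟩ := ps x
      refine Subtype.ext (Subtype.ext ?_)
      have := (ph.comm_iff ⟨x, rfl⟩ ⟨b, rfl⟩).2 (h.le _ ⟨x, rfl⟩)
      rwa [hj, hj] at this
    have c2 : (⟨t0, tM⟩ : M) ∈ center M := mem_center_iff.2 fun x => Subtype.ext (ct x)
    obtain ⟨u, -, hu⟩ := (Nat.card_eq_two_iff' (1 : center M)).1 hcov.1
    have e1 := hu ⟨_, c1⟩ fun e => h.t_ne (inj b (by rw [show p b = 1 from congrArg Subtype.val e]; rfl))
    have e2 := hu ⟨_, c2⟩ fun e => by
      have : t = 1 := congrArg (fun x : center M => ((x : M) : centralizer ({t} : Set G)).1) e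
      simp [this] at ht
    rw [hj]
    exact congrArg (fun x : center M => ((x : M) : centralizer ({t} : Set G)).1) (e1.trans e2.symm)
  refine babyType h (j := j) ⟨ph, fun x hx => ?_, fun x hx => ?_⟩ (g := g) (jt ▸ h1) (jt ▸ h2)
  · rintro _ ⟨a, rfl⟩
    rw [jt] at hx
    obtain ⟨b, e⟩ := ps ⟨_, ‹M.Normal›.conj_mem _ (p a).2 ⟨x, mem_centralizer_singleton_iff.2 hx⟩⟩
    exact ⟨f b, ⟨b, rfl⟩, by rw [hj, hj, e]; rfl⟩
  · have xt : x ∈ centralizer ({t} : Set G) :=
      mem_centralizer_singleton_iff.2 (jt ▸ hx s h.tD.1)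
    obtain ⟨b, e⟩ := ps ⟨⟨x, xt⟩, hout (mem_centralizer_iff.2 fun m hm => by
      obtain ⟨a, ha⟩ := ps ⟨m, hm⟩
      have := hx _ ⟨a, rfl⟩
      rw [hj, ha] at this
      exact Subtype.ext this.symm)⟩
    exact ⟨f b, ⟨b, rfl⟩, by rw [hj, e]⟩

end Cfsg.Agent.Std2E
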