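import Cfsg.Agent.Std2E.FixA

/-! Elements of `C(z)` with a large fixed space on `Q / ⟨z⟩`. -/

set_option autoImplicit false

namespace Cfsg.Agent.Std2E

open Cfsg Cfsg.Spor Cfsg.Agent.Spor Cfsg.Agent.Spor.Leech Cfsg.Agent.TT Cfsg.Agent.LES Cfsg.Agent.Mon
  Cfsg.Agent.Mon.LC Cfsg.Agent.Std2B Subgroup
open scoped commutatorElement

variable {B : Type*} [Group B] [Finite B] {z t : B} {Q M : Subgroup B}
  {γ : centralizer ({z} : Set B) →* Co2} {φ : leechPerpU → B}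

theorem fixQ (d : BabyData z Q γ φ) {k : B} (hk : k * z = z * k) (h2 : k * k ∈ Q) {S : Subgroup B}
    (hS : S ≤ Q) (hc : Nat.card Q ≤ 16 * Nat.card S) (hf : ∀ x ∈ S, Eqv z (k * x * k⁻¹) x) :
    k ∈ Q := by
  have xs := d.lx.toXS
  let c : centralizer ({z} : Set B) := ⟨k, mem_centralizer_singleton_iff.2 hk⟩
  have hz : z ∈ FixS xs k := ⟨xs.z_mem, .inl (conj_eq_of_comm hk)⟩
  have h1 := idx_pre d (F := FixS xs k) (fun _ h => h.1) hz
    (hc.trans (Nat.mul_le_mul_left _ (card_le_of_le fun x hx => ⟨hS hx, hf x hx⟩)))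
  have h3 : ∀ v ∈ d.pre _ hz, v ∉ LL.fixSub (co2Incl (γ c)) →
      ∃ y, v - co2Incl (γ c) • v = leechU + (y + y) := fun v ⟨a, b⟩ e =>
    (d.eqv_iff.1 ((b.2.symm xs.z_sq).trans xs.z_sq (d.conj_eqv c (Eqv.refl _ _)))).resolve_left e
  have h4 : Two (d.pre _ hz) (d.pre _ hz ⊓ LL.fixSub (co2Incl (γ c))) :=
    ⟨inf_le_left, fun v hv w hw a b => ⟨add_mem hv hw, by
      obtain ⟨y, e⟩ := h3 v hv fun e => a ⟨hv, e⟩
      obtain ⟨y', e'⟩ := h3 w hw fun e => b ⟨hw, e⟩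
      exact ⟨leechU + y + y', by rw [smul_add, add_sub_add_comm, e, e']; abel⟩⟩⟩
  rcases pm_of_idx64 (by rw [← map_mul, ← map_mul, (d.ker (c * c)).2 h2, map_one]) inf_le_right
    (h4.idx h1) with e | e
  · exact (d.ker c).1 (co2Incl_injective (e.trans (map_one _).symm))
  · have := co2Incl_u (γ c)
    rw [e, negOne_smul] at this
    exact absurd this.symm (CF.ne_neg_of_short sqNorm_leechU)

theorem fix3 (d : BabyData z Q γ φ) {k a b c : B} (hk : k * z = z * k) (ha : a ∈ Q) (hb : b ∈ Q)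
    (hc : c ∈ Q) (ab : a * b = b * a) (ac : a * c = c * a) (bc : b * c = c * b)
    (hf : ∀ x ∈ Q, x * a = a * x → x * b = b * x → x * c = c * x → Eqv z (k * x * k⁻¹) x) :
    k ∈ Q := by
  have xs := d.lx.toXS
  let A : Subgroup B := zpowers z ⊔ zpowers a ⊔ zpowers b ⊔ zpowers c
  have hA : ∀ x, x ∈ centralizer (A : Set B) ↔
      ((x * z = z * x ∧ x * a = a * x) ∧ x * b = b * x) ∧ x * c = c * x := fun x => by
    simp only [A, XS.mem_centralizer_sup_zpowers, centralizer_zpowers_eq, mem_centralizer_singleton_iff]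
  have AQ : A ≤ Q := by simp only [A, sup_le_iff, zpowers_le]; exact ⟨⟨⟨xs.z_mem, ha⟩, hb⟩, hc⟩
  have AC : A ≤ centralizer (A : Set B) := by
    simp only [A, sup_le_iff, zpowers_le]
    simp only [A] at hA
    simp only [hA, xs.z_comm a ha, xs.z_comm b hb, xs.z_comm c hc, ab, ac, bc, and_self]
  have h1 : ∀ x ∈ Q ⊓ centralizer (A : Set B), Eqv z (k * x * k⁻¹) x := fun x hx =>
    have := (hA x).1 hx.2
    hf x hx.1 this.1.1.2 this.1.2 this.2
  have nk := d.lx.norm k hk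
  refine fixQ d hk (d.lx.mem_of_trivial fun x hx => ?_) inf_le_left ?_ h1
  · have hd := mul_mem (inv_mem hx) (nk x hx)
    have h2 := xs.mem_of_comm_centralizer AQ (mem_sup_left (mem_sup_left (mem_sup_left
      (mem_zpowers z)))) hd fun q hq e => comm_delta xs (β := fun x => k * x * k⁻¹)
        ⟨fun _ _ _ _ => conj_mul.symm, fun _ _ e => by simpa using e⟩ nk hx hq (h1 q ⟨hq, e⟩)
    have h3 := ((h1 _ ⟨hd, AC h2⟩).trans xs.z_sq (Eqv.symm xs.z_sq (xs.inv hd))).mul_left (k * x * k⁻¹)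
    convert h3 using 1 <;> group
  · have h0 : Q ⊓ centralizer (zpowers z : Set B) = Q :=
      inf_eq_left.2 fun x hx => by rw [centralizer_zpowers_eq]; exact LX_le_centralizer d.lx hx
    have h2 := xs.card_step (A := zpowers z) ha
    have h3 := xs.card_step (A := zpowers z ⊔ zpowers a) hb
    have h4 := xs.card_step (A := zpowers z ⊔ zpowers a ⊔ zpowers b) hc
    rw [h0] at h2
    simp only [A]
    omega

theorem out4 (d : BabyData z Q γ φ) (ht : t ∈ Q) {k : B} (kz : k * z = z * k) (kt : k * t = t * k)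
    (kQ : k ∉ Q) (k2 : k * k ∈ closure {z, t}) : ∃ e f, ∀ x, x = e ∨ x = f ∨ x = e * f →
      x ≠ 1 ∧ k * x = x * k ∧ ∃ r ∈ Q, r * t = t * r ∧ r * k * r⁻¹ * k⁻¹ = x := by
  have xs := d.lx.toXS
  have hA : Q ⊓ centralizer {t} ≤ Q := inf_le_left
  have h2 : ∀ r ∈ Q ⊓ centralizer {t}, k * k * r = r * (k * k) := fun r hr =>
    mem_centralizer_singleton_iff.1 ((closure_le (centralizer {r})).2 (by
      rintro _ (rfl | rfl)
      exacts [mem_centralizer_singleton_iff.2 (xs.z_comm r hr.1).symm,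
        mem_centralizer_singleton_iff.2 (mem_centralizer_singleton_iff.1 hr.2).symm]) k2)
  obtain ⟨E, EQ, zE, hE, mE⟩ := exists_sing d.lx kz hA h2
  have nk := d.lx.norm _ (comm_inv_left kz)
  simp only [inv_inv] at nk
  have h3 : 2 ^ 4 < Nat.card (CmS d.lx kz hA) := by
    by_contra hc
    have h4 := xs.card_mul_card_centralizer (CmS_le d.lx kz hA) (z_mem_CmS d.lx kz hA)
    have h5 : ∀ x ∈ Q ⊓ centralizer (CmS d.lx kz hA : Set B), x ∉ FixS xs k⁻¹ →
        Eqv z (k⁻¹ * x * k⁻¹⁻¹) (x * t) := fun x hx e => by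
      have := xs.eq_of_comm_centralizer ht (mul_mem (inv_mem hx.1) (nk x hx.1)) fun q hq a => by
        rw [eq_comm, ← cmv_eq_zero, ← cmv_comm_eq d.lx kz hq hx.1, cmv_eq_zero]
        exact (hx.2 _ ⟨q, ⟨hq, mem_centralizer_singleton_iff.2 a⟩, Eqv.refl _ _⟩).symm
      simp only [inv_mul_eq_iff_eq_mul, ← mul_assoc x, mul_one] at this
      rw [inv_inv]
      exact (or_assoc.2 this).resolve_left fun a => e ⟨hx.1, by rwa [inv_inv]⟩
    have h6 := card_le_two_mul_of_mul_mem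
      (inf_le_left (a := Q ⊓ centralizer (CmS d.lx kz hA : Set B)) (b := FixS xs k⁻¹))
      fun x hx y hy a b => ⟨mul_mem hx hy, mul_mem hx.1 hy.1, by
        rw [← conj_mul]
        refine (eqv_mul xs (mul_mem hy.1 ht) (h5 x hx fun c => a ⟨hx, c⟩)
          (h5 y hy fun c => b ⟨hy, c⟩)).trans xs.z_sq ?_
        have := (eqv_mul xs (mul_mem ht ht) (xs.conj ht hy.1) (Eqv.refl z (t * t))).mul_left x
        refine Eqv.trans xs.z_sq (by convert this using 1; group) ?_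
        simpa [mul_assoc] using (eqv_one_iff.2 (xs.sq ht)).mul_left (x * y)⟩
    refine kQ (inv_mem_iff.1 (fixQ d (comm_inv_left kz) ?_ (inf_le_left.trans inf_le_left) ?_
      fun x (hx : x ∈ Q ⊓ centralizer (CmS d.lx kz hA : Set B) ⊓ FixS xs k⁻¹) => hx.2.2))
    · rw [← mul_inv_rev]
      exact inv_mem ((closure_le _).2 (by rintro _ (rfl | rfl); exacts [xs.z_mem, ht]) k2)
    · nlinarith
  have h4 := two_mul_le xs (CmS_le d.lx kz hA) h3
  have nm : ∀ {S : Subgroup B} (X : Finset B), X.card < Nat.card S → ∃ x ∈ S, x ∉ X := fun {S} X h => by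
    by_contra hc
    push Not at hc
    exact h.not_ge ((Set.ncard_le_ncard hc).trans_eq (Set.ncard_coe_finset X))
  have ex : ∀ {x r}, x ∈ E → r ∈ Q → Eqv z x ⁅r, k⁆ → ⁅r, k⁆ ∈ E := fun a _ c => (c.symm xs.z_sq).mem zE a
  classical
  obtain ⟨x, hx, x1⟩ := nm (S := E) {1, z} (Finset.card_le_two.trans_lt (by omega))
  obtain ⟨-, r, hr, e⟩ := (mE x).1 hx
  have h5 := card_le_two_mul_of_mul_mem (inf_le_left (a := E) (b := centralizer {r}))
    fun x hx y hy a b => ⟨mul_mem hx hy, mem_centralizer_singleton_iff.2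
      (xs.mul_comm_of_not_comm hr.1 (EQ hx) (EQ hy) (fun c => a ⟨hx, mem_centralizer_singleton_iff.2 c⟩)
        fun c => b ⟨hy, mem_centralizer_singleton_iff.2 c⟩)⟩
  obtain ⟨y, hy, y1⟩ := nm (S := E ⊓ centralizer {r}) {1, z, ⁅r, k⁆, ⁅r, k⁆ * z}
    (Finset.card_le_four.trans_lt (by omega))
  obtain ⟨-, s, hs, f⟩ := (mE y).1 hy.1
  have m1 := ex hx hr.1 e
  have m2 := ex hy.1 hs.1 f
  have e3 : ⁅r * s, k⁆ = ⁅s, k⁆ * ⁅r, k⁆ := by
    rw [comm_mul, conj_eq_of_comm ((eqv_comm_iff xs hr.1 f).1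
      (mem_centralizer_singleton_iff.1 hy.2)).symm]
  have fin : ∀ r ∈ Q ⊓ centralizer {t}, ⁅r, k⁆ ∈ E → k * ⁅r, k⁆ = ⁅r, k⁆ * k ∧
      ∃ s ∈ Q, s * t = t * s ∧ s * k * s⁻¹ * k⁻¹ = ⁅r, k⁆ := fun r hr a =>
    ⟨comm_of_conj_eq ((conj_comm d.lx kz (h2 r hr)).trans (inv_eq_of_mul_self ((mE _).1 a).1)),
      r, hr.1, mem_centralizer_singleton_iff.1 hr.2, rfl⟩
  simp only [Finset.mem_insert, Finset.mem_singleton] at x1 y1
  refine ⟨⁅s, k⁆, ⁅r, k⁆, ?_⟩
  rintro _ (rfl | rfl | rfl)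
  · exact ⟨fun c => y1 (or_assoc.1 (.inl (eqv_one_iff.1 (c ▸ f)))), fin s hs m2⟩
  · exact ⟨fun c => x1 (eqv_one_iff.1 (c ▸ e)), fin r hr m1⟩
  · refine ⟨fun c => y1 (.inr (.inr ?_)), e3 ▸ fin _ (mul_mem hr hs) (e3 ▸ mul_mem m2 m1)⟩
    rwa [eq_inv_of_mul_eq_one_left c, inv_eq_of_mul_self ((mE _).1 m1).1] at f

/-- The singular part of `[Q, s]`. -/
theorem exists_E (d : BabyData z Q γ φ) {s : B} (sz : s * z = z * s) (ss : s * s = 1) (sQ : s ∉ Q) :
    ∃ E ≤ Q, z ∈ E ∧ 32 ≤ Nat.card E ∧ ∀ e ∈ E, e * e = 1 ∧ e * s = s * e ∧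
      ∃ q ∈ Q, Eqv z (s * e) (q * s * q⁻¹) := by
  have xs := d.lx.toXS
  have h2 : ∀ r ∈ Q, s * s * r = r * (s * s) := fun r _ => by rw [ss, one_mul, mul_one]
  obtain ⟨E, EQ, zE, hE, mE⟩ := exists_sing d.lx sz le_rfl h2
  have si := inv_eq_of_mul_self ss
  have h3 : 2 ^ 5 < Nat.card (CmS d.lx sz le_rfl) := by
    by_contra hc
    have h4 := xs.card_mul_card_centralizer (CmS_le d.lx sz le_rfl) (z_mem_CmS d.lx sz le_rfl)
    refine sQ (fixQ d sz (ss ▸ one_mem _) (S := Q ⊓ centralizer (CmS d.lx sz le_rfl : Set B))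
      inf_le_left (by nlinarith) fun x hx => ?_)
    have := xs.cent _ (mul_mem (inv_mem hx.1) (d.lx.norm _ sz x hx.1)) fun q hq => by
      have := cmv_comm_eq d.lx sz hq hx.1
      rw [cmv_eq_zero.2 (hx.2 _ ⟨q, hq, Eqv.refl _ _⟩).symm, eq_comm, cmv_eq_zero, si] at this
      rwa [si]
    simpa only [inv_mul_eq_iff_eq_mul, mul_one, Eqv] using this
  have h4 := two_mul_le xs (CmS_le d.lx sz le_rfl) h3
  refine ⟨E, EQ, zE, by omega, fun e he => ?_⟩
  obtain ⟨a, r, hr, b⟩ := (mE e).1 he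
  have c := comm_of_conj_eq ((conj_comm d.lx sz (h2 r hr)).trans (inv_eq_of_mul_self
    ((eqv_sq xs (comm_mem d.lx sz hr) b).symm.trans a)))
  refine ⟨a, ?_, r, hr, ?_⟩
  · rcases b with rfl | rfl
    exacts [c.symm, comm_mul_left c.symm sz.symm]
  · have := b.mul_left s
    rwa [c, commutatorElement_def, inv_mul_cancel_right] at this

end Cfsg.Agent.Std2E
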