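import Cfsg.Agent.Std2E.Lat
import Cfsg.Agent.Std2E.Fix
import Cfsg.Agent.S2603
import Cfsg.Agent.K.CopDef

/-! Automorphisms of `U₆(2)` are induced by the stabiliser of the triangle. -/

set_option autoImplicit false

namespace Cfsg.Agent.Std2E

open Cfsg Cfsg.Spor Cfsg.Agent.Spor Cfsg.Agent.Spor.Leech Cfsg.Agent.TT Cfsg.Agent.LES Cfsg.Agent.Mon
  Cfsg.Agent.Mon.LC Cfsg.Agent.MonU.BL Subgroup MulAction

/-- The stabiliser of the plane of the triangle. -/
def T3 : Subgroup Co0 :=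
  let S : Submonoid Co0 :=
    { carrier := {g | ∀ a b : ℤ, ∃ c d : ℤ, g • (a • leechU + b • x16) = c • leechU + d • x16}
      one_mem' := fun a b => ⟨a, b, one_smul _ _⟩
      mul_mem' := fun {g k} hg hk a b => by
        obtain ⟨c, d, e⟩ := hk a b
        rw [mul_smul, e]; exact hg c d }
  { S with
    inv_mem' := fun {g} hg => have := Co.finite_Co0
      (Submonoid.powers_le.2 hg : Submonoid.powers g ≤ S)
        ((isOfFinOrder_of_finite g).mem_powers_iff_mem_zpowers.2 (inv_mem (mem_zpowers g))) }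

variable {e v w : leechLattice} {g k n : Co0}

theorem fix_L (hk : k ∈ U6) (a b : ℤ) : k • (a • leechU + b • x16) = a • leechU + b • x16 := by
  rw [smul_add, smul_comm k a, smul_comm k b, hk.1, hk.2]

theorem conj_U6 (hn : n ∈ T3) (hk : k ∈ U6) : n * k * n⁻¹ ∈ U6 := by
  have key : ∀ a b : ℤ, (n * k * n⁻¹) • (a • leechU + b • x16) = a • leechU + b • x16 := fun a b => by
    obtain ⟨c, d, e⟩ := inv_mem hn a b
    rw [mul_smul, mul_smul, e, fix_L hk, ← e, smul_inv_smul]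
  exact ⟨by simpa using key 1 0, by simpa using key 0 1⟩

theorem smul_TE (hn : n ∈ T3) (hv : v ∈ TE) : n • v ∈ TE := by
  obtain ⟨a, b, y, rfl⟩ := hv
  obtain ⟨c, d, e⟩ := hn a b
  exact ⟨c, d, n • y, by rw [smul_add, e, smul_add]⟩

theorem smul_T1_iff (g : Co0) : g • v ∈ T1 (g • e) ↔ v ∈ T1 e :=
  ⟨fun h => by simpa using smul_T1 g⁻¹ h, smul_T1 g⟩

theorem le_normalizer_U6 : T3 ≤ normalizer (U6 : Set Co0) := fun n hn =>
  mem_normalizer_iff.2 fun k => ⟨conj_U6 hn, fun h => by simpa [mul_assoc] using conj_U6 (inv_mem hn) h⟩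

theorem card_T3 : 12 * Nat.card U6 ≤ Nat.card T3 := by
  have := Co.finite_Co0
  let p : Fin 12 → ℤ × ℤ × ℤ × ℤ := ![(1, 0, 0, 1), (0, 1, 1, 0), (1, 0, 1, -1), (1, -1, 1, 0), (0, -1, 1, -1),
    (1, -1, 0, -1), (-1, 0, 0, -1), (0, -1, -1, 0), (-1, 0, -1, 1), (-1, 1, -1, 0), (0, 1, -1, 1), (-1, 1, 0, 1)]
  let r : Fin 12 → leechLattice := fun i => (p i).1 • leechU + (p i).2.1 • x16
  let s : Fin 12 → leechLattice := fun i => (p i).2.2.1 • leechU + (p i).2.2.2 • x16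
  have h1 : ∀ i, nm (r i) = 32 ∧ nm (s i) = 32 ∧ dt (r i) (s i) = 16 := by decide
  have h2 : ∀ i j, r i = r j → s i = s j → i = j := by decide
  choose g g1 g2 using fun i => trans_of_std₂ (exists_std_16 sqNorm_leechU sqNorm_x16 dot_U_x16)
    (exists_std_16 (h1 i).1 (h1 i).2.1 (h1 i).2.2)
  have g3 : ∀ i, ∀ k ∈ U6, g i * k ∈ T3 := fun i k hk a b =>
    ⟨a * (p i).1 + b * (p i).2.2.1, a * (p i).2.1 + b * (p i).2.2.2, by
      rw [mul_smul, fix_L hk, smul_add, smul_comm (g i) a, smul_comm (g i) b, g1, g2]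
      simp only [r, s]; module⟩
  have := Nat.card_le_card_of_injective (fun x : Fin 12 × U6 => (⟨g x.1 * x.2, g3 _ _ x.2.2⟩ : T3)) (by
    rintro ⟨i, k⟩ ⟨j, l⟩ e
    have e' : g i * k = g j * l := congrArg Subtype.val e
    obtain rfl : i = j := h2 i j (by rw [← g1, ← g1 j, ← k.2.1, ← mul_smul, e', mul_smul, l.2.1, k.2.1])
      (by rw [← g2, ← g2 j, ← k.2.2, ← mul_smul, e', mul_smul, l.2.2, k.2.2])
    exact Prod.ext rfl (Subtype.ext (mul_left_cancel e')))
  simpa using this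

theorem card_aut_U6 : Nat.card (MulAut U6) ≤ 6 * Nat.card U6 := by
  obtain ⟨e⟩ := U62Leech.iso Class.GF4 Class.card_GF4
  have := Co.finite_Co0
  have : Finite (PSU 6 Class.GF4 2) := .of_equiv _ e.toEquiv
  have : Fact (Nat.Prime 2) := ⟨Nat.prime_two⟩
  obtain ⟨f, f1, -, f2⟩ := S2603.result (K := Class.GF4) (p := 2) (f := 1) (q := 2) (n := 6) le_rfl rfl
    Class.card_GF4 (by norm_num) (by norm_num)
  have h1 := K.card_mulAut_dvd (K := PSU 6 Class.GF4 2)
  have h2 : Nat.card (Out (PSU 6 Class.GF4 2)) = 6 := by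
    rw [← f.ker.card_mul_index, f2, index_ker, MonoidHom.range_eq_top.2 f1]
    simp
  rw [h2, ← Nat.card_congr (MulAut.congr e).toEquiv, ← Nat.card_congr e.toEquiv, mul_comm] at h1
  exact Nat.le_of_dvd (Nat.mul_pos (by norm_num) Nat.card_pos) h1

variable {B : Type*} [Group B] [Finite B] {z t : B} {Q : Subgroup B}
  {γ : centralizer ({z} : Set B) →* Co2} {φ : leechPerpU → B}

/-- A vector of `PP` in the sublattice. -/
def pv (hv : v ∈ PP) : leechPerpU := ⟨v, BabyData.mem_perp.2 (Int.dvd_of_emod_eq_zero hv.1)⟩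

omit [Finite B] in
theorem ev (d : BabyData z Q γ φ) {a b : leechPerpU} :
    Eqv z (φ a) (φ b) ↔ (a : leechLattice) - b ∈ T1 leechU :=
  d.eqv_iff'.trans (or_congr (by simp [Cg]) (by simp [Cg, sub_sub]))

theorem exists_pv (d : BabyData z Q γ φ) (ht : Eqv z t (φ xP)) {x : B} (hx : x ∈ Q) (hc : x * t = t * x) :
    ∃ v, ∃ hv : v ∈ PP, Eqv z x (φ (pv hv)) := by
  obtain ⟨v, hv⟩ := d.onto x hx
  exact ⟨v, ⟨Int.emod_eq_zero_of_dvd v.2, (d.comm_iff hv ht).1 hc⟩, hv⟩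

theorem pm_of_cg (h : Cg leechU (g • leechU)) : g • leechU = leechU ∨ (negOne * g) • leechU = leechU := by
  obtain ⟨y, h⟩ := h.symm
  refine (eq_or_neg_of_congr (by rw [sqNorm_smul, sqNorm_leechU]; norm_num)
    (by rw [sqNorm_leechU]; norm_num) h).imp_right fun a => by rw [mul_smul, a]; simp

theorem exists_T3 (d : BabyData z Q γ φ) (ht : Eqv z t (φ xP)) (θ : MulAut U6) :
    ∃ n ∈ T3, ∀ k : U6, (θ k : Co0) = n * k * n⁻¹ := by
  have := Co.finite_Co0
  have zz := d.lx.z_sq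
  have tQ := d.mem_of_eqv ht
  let c : T3 →* MulAut U6 := (normalizerMonoidHom U6).comp (inclusion le_normalizer_U6)
  have k1 : ∀ g : Co0, g • leechU = leechU → (∀ v ∈ PP, g • v - v ∈ T1 leechU) → g = 1 := fun g g1 g2 => by
    obtain ⟨k, k1, k2⟩ := d.exists_sm g1
    rw [← k1, (d.ker k).2 (fix3 d (MonData.comm_z k) tQ tQ tQ rfl rfl rfl fun x hx x1 _ _ => ?_), map_one]
    obtain ⟨v, hv, e⟩ := exists_pv d ht hx x1
    exact (((e.conj (MonData.comm_z k)).trans zz ((k2 _).symm zz)).trans zz ((ev d (b := pv hv)).2 (g2 v hv))).trans zz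
      (e.symm zz)
  have k2 : ∀ g ∈ c.ker, (g : Co0) = 1 ∨ (g : Co0) = negOne := fun g hg => by
    obtain ⟨h1, h2⟩ := mu (f := ((g : Co0) • ·)) (smul_TE g.2 u_mem_TE) (fun v _ w _ => by simp [smul_add])
      (fun v _ => smul_T1_iff _) (smul_TE g.2 x_mem_TE) fun k hk v _ => by
        have : (g : Co0) * k * (g : Co0)⁻¹ = k := congrArg (fun θ : MulAut U6 => (θ ⟨k, hk⟩ : Co0)) hg
        simp [← mul_smul, mul_inv_eq_iff_eq_mul.1 this]
    refine (pm_of_cg h1).imp (k1 _ · h2) fun a => ?_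
    have := k1 _ a fun v hv => by
      convert sub_mem (h2 v hv) (two_mem_T1 _ ((g : Co0) • v)) using 1
      rw [mul_smul, negOne_smul]; abel
    rw [← mul_left_cancel_iff (a := negOne), this, negOne_mul_self]
  have k3 : Nat.card c.ker ≤ 2 := by
    have := Nat.card_le_card_of_injective (β := ({1, negOne} : Set Co0))
      (fun g : c.ker => ⟨g.1, k2 g g.2⟩) fun a b e => Subtype.ext (Subtype.ext (Subtype.mk.inj e))
    exact this.trans (by rw [Nat.card_coe_set_eq]; exact Set.ncard_insert_le _ _ |>.trans (by simp))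
  have k4 := c.ker.card_mul_index
  rw [index_ker] at k4
  have k5 : c.range = ⊤ := eq_top_of_card_eq _ (le_antisymm (card_le_card_group _) (by
    have := card_T3
    have := card_aut_U6
    nlinarith))
  obtain ⟨n, rfl⟩ := k5.ge (mem_top θ)
  exact ⟨n, n.2, fun k => rfl⟩

end Cfsg.Agent.Std2E
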