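import Cfsg.Agent.Std2E.Loc
import Cfsg.Agent.Std2E.AutA

/-! Automorphisms of `D = C_M(z)` are induced in the model. -/

set_option autoImplicit false

namespace Cfsg.Agent.Std2E

open Cfsg Cfsg.Spor Cfsg.Agent.Spor Cfsg.Agent.Spor.Leech Cfsg.Agent.TT Cfsg.Agent.LES Cfsg.Agent.Mon
  Cfsg.Agent.Mon.LC Cfsg.Agent.Std2B Subgroup Cfsg.Agent.MonU.BL

variable {B : Type*} [Group B] [Finite B] {z t : B} {Q M : Subgroup B}
  {γ : centralizer ({z} : Set B) →* Co2} {φ : leechPerpU → B}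

namespace BM

variable (h : BM z t Q M γ φ)
include h

/-- The centraliser of `C_Q(t)` in `C(z)`. -/
theorem cenR {k : B} (hk : k * z = z * k) (hc : ∀ x ∈ Q, x * t = t * x → x * k = k * x) :
    Eqv z k 1 ∨ Eqv z k t := by
  have kQ := fix3 h.d hk h.tQ h.tQ h.tQ rfl rfl rfl fun x hx x1 _ _ => .inl (conj_eq_of_comm (hc x hx x1).symm)
  rcases h.xs.eq_of_comm_centralizer h.tQ kQ hc with e | e | e | e
  exacts [.inl (.inl e), .inl (.inr (by simpa using e)), .inr (.inl e), .inr (.inr e)]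

variable {α : B → B} (a : PH (DD M z) α) (aD : ∀ x ∈ DD M z, α x ∈ DD M z)
include a aD

omit h in
theorem onto {y : B} (hy : y ∈ DD M z) : ∃ x ∈ DD M z, α x = y := by
  have hs : Function.Surjective fun x : DD M z => (⟨α x, aD x x.2⟩ : DD M z) :=
    Finite.surjective_of_injective fun x y e => Subtype.ext ((a.eq_iff x.2 y.2).1 (Subtype.mk.inj e))
  obtain ⟨x, hx⟩ := hs ⟨y, hy⟩
  exact ⟨x, x.2, Subtype.mk.inj hx⟩

theorem map_Q {x : B} (hx : x ∈ DD M z) (hQ : x ∈ Q) : α x ∈ Q := by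
  refine h.o2 (N := a.img Q) (a.isPGroup_img h.xs.isPGroup) ?_ ?_ ((a.mem_img_iff hx).2 hQ)
  · rintro _ ⟨y, -, rfl⟩
    exact aD y y.2
  · rintro k hk _ ⟨y, hy, rfl⟩
    obtain ⟨k, hk', rfl⟩ := onto a aD hk
    rw [a.hom_apply, ← a.conj hk' y.2, a.mem_img_iff (mul_mem (mul_mem hk' y.2) (inv_mem hk'))]
    exact h.d.lx.norm _ (mem_DD.1 hk').2 _ hy

theorem exists_n : ∃ n ∈ T3, ∀ k l : centralizer ({z} : Set B), (k : B) ∈ DD M z → α k = l →
    co2Incl (γ l) = n * co2Incl (γ k) * n⁻¹ := by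
  have := Co.finite_Co0
  let ρ : DD M z →* U6 := (co2Incl.comp (γ.comp (inclusion inf_le_right))).codRestrict _ fun k =>
    ⟨co2Incl_u _, (h.memD _ (h.le _ k.2.1)).1 k.2.1⟩
  have r1 : Function.Surjective ρ := fun g => by
    obtain ⟨k, k1, k2⟩ := h.exists_lift g.2.1 g.2.2
    exact ⟨⟨k, k1⟩, Subtype.ext k2⟩
  have r2 : ∀ k, ρ k = 1 ↔ (k : B) ∈ Q := fun k => by
    rw [Subtype.ext_iff, ← h.d.ker ⟨k, k.2.2⟩, ← map_eq_one_iff _ co2Incl_injective]; rfl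
  let A : DD M z →* DD M z := a.hom.codRestrict _ fun x => aD x x.2
  let θ := ρ.liftOfRightInverse _ (Function.rightInverse_surjInv r1)
    ⟨ρ.comp A, fun x hx => (r2 _).2 (h.map_Q a aD x.2 ((r2 x).1 hx))⟩
  have t1 : ∀ x, θ (ρ x) = ρ (A x) := fun x => ρ.liftOfRightInverse_comp_apply _ _ _ x
  have t2 : Function.Surjective θ := fun g => by
    obtain ⟨y, rfl⟩ := r1 g
    obtain ⟨x, hx, e⟩ := onto a aD y.2
    exact ⟨ρ ⟨x, hx⟩, (t1 _).trans (congrArg ρ (Subtype.ext e))⟩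
  obtain ⟨n, n1, n2⟩ := exists_T3 h.d h.tφ (MulEquiv.ofBijective θ ⟨Finite.injective_iff_surjective.2 t2, t2⟩)
  refine ⟨n, n1, fun k l hk e => ?_⟩
  have : (θ (ρ ⟨k, hk⟩) : Co0) = _ := n2 (ρ ⟨k, hk⟩)
  rw [t1] at this
  obtain rfl : l = ⟨α k, (aD k hk).2⟩ := Subtype.ext e.symm
  exact this

theorem exists_k (az : α z = z) :
    ∃ k ∈ NS z t, ∀ x ∈ Q, x * t = t * x → Eqv z (α x) (k * x * k⁻¹) := by
  have d := h.d
  have zz := h.xs.z_sq
  obtain ⟨n, n1, n2⟩ := h.exists_n a aD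
  have pD : ∀ {v} (hv : v ∈ PP), φ (pv hv) ∈ DD M z := fun hv =>
    h.R_le (d.mem _) ((d.comm_iff (.inl rfl) h.tφ).2 hv.2)
  have ea : ∀ {x y}, x ∈ DD M z → y ∈ DD M z → (Eqv z (α x) (α y) ↔ Eqv z x y) := fun hx hy => by
    have := a.eqv_iff h.zD hx hy
    rwa [az] at this
  choose w hw using fun v : PP => d.onto _ (h.map_Q a aD (pD v.2) (d.mem _))
  have ct : Eqv z (α t) 1 ∨ Eqv z (α t) t := h.cenR (mem_DD.1 (aD t h.tD)).2 fun x hx x1 => by
    obtain ⟨y, hy, rfl⟩ := onto a aD (h.R_le hx x1)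
    exact (a.comm_iff hy h.tD).2 (h.le y hy.1)
  have e0 : Eqv z (φ 0) 1 := d.triv'.2 (.inl (Cg.refl _))
  classical
  let f : leechLattice → leechLattice := fun v => if hv : v ∈ PP then n⁻¹ • (w ⟨v, hv⟩ : leechLattice) else 0
  have hf : ∀ v hv, f v = n⁻¹ • (w ⟨v, hv⟩ : leechLattice) := fun v hv => dif_pos hv
  have xP' := TE_le_PP x_mem_TE
  obtain ⟨h1, h2⟩ := mu (f := f) (smul_TE (inv_mem n1) u_mem_TE) (fun v hv v' hv' => by
      rw [hf v hv, hf v' hv', hf _ (add_mem hv hv'), ← smul_add, ← smul_sub, smul_T1_iff,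
        ← AddSubgroup.coe_add, ← ev d]
      refine ((hw ⟨_, add_mem hv hv'⟩).symm zz).trans zz (Eqv.trans zz ?_ ((d.add _ _).symm zz))
      refine Eqv.trans zz ?_ (eqv_mul h.xs (d.mem _) (hw ⟨v, hv⟩) (hw ⟨v', hv'⟩))
      rw [← a.mul _ (pD hv) _ (pD hv'), ea (pD _) (mul_mem (pD hv) (pD hv'))]
      exact d.add (pv hv) (pv hv'))
    (fun v hv => by
      rw [hf v hv, smul_T1_iff]
      refine d.triv'.symm.trans (Iff.trans ?_ (d.triv' (x := pv hv)))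
      rw [← ea (pD hv) (one_mem _), a.one]
      exact ⟨(hw ⟨v, hv⟩).trans zz, ((hw ⟨v, hv⟩).symm zz).trans zz⟩)
    (by
      rw [hf _ xP']
      refine smul_TE (inv_mem n1) ?_
      have k := ((hw ⟨_, xP'⟩).symm zz).trans zz ((ea (pD xP') h.tD).2 (h.tφ.symm zz))
      have le := T1_le two_mem_TE u_mem_TE
      rcases ct with c | c
      · exact le (d.triv'.1 (k.trans zz c))
      · simpa [xP] using add_mem (le ((ev d).1 ((k.trans zz c).trans zz h.tφ))) x_mem_TE)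
    fun g hg v hv => by
      obtain ⟨k, k1, rfl⟩ := h.exists_lift hg.1 hg.2
      have l1 := n2 k ⟨α k, (aD k k1).2⟩ k1 rfl
      rw [hf v hv, hf _ (smul_PP hg hv), ← mul_smul, show co2Incl (γ k) * n⁻¹ = n⁻¹ * _ by
        rw [eq_inv_mul_iff_mul_eq, ← mul_assoc, ← l1], mul_smul, ← smul_sub, smul_T1_iff]
      refine (ev d (b := BO.sm _ (co2Incl_u _) _)).1 (((hw ⟨_, smul_PP hg hv⟩).symm zz).trans zz
        (Eqv.trans zz ?_ (d.conj_eqv ⟨α k, (aD k k1).2⟩ (hw ⟨v, hv⟩))))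
      rw [← a.conj k1 (pD hv), ea (pD _) (mul_mem (mul_mem k1 (pD hv)) (inv_mem k1))]
      exact (d.conj_eqv k (.inl rfl)).symm zz
  obtain ⟨m, m1, m2⟩ : ∃ m : Co0, m • leechU = leechU ∧ ∀ v : leechLattice, Cg (m • v) (n • v) := by
    rcases pm_of_cg (g := n) (by simpa using (h1.smul n).symm) with c | c
    · exact ⟨n, c, fun v => Cg.refl _⟩
    · exact ⟨_, c, fun v => by rw [mul_smul, negOne_smul]; exact cg_neg _⟩
  obtain ⟨k, -, k2⟩ := d.exists_sm m1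
  have key : ∀ x ∈ Q, x * t = t * x → Eqv z (α x) (k * x * (k : B)⁻¹) := fun x hx x1 => by
    obtain ⟨v, hv, e⟩ := exists_pv d h.tφ hx x1
    refine (((ea (h.R_le hx x1) (pD hv)).2 e).trans zz (hw ⟨v, hv⟩)).trans zz (Eqv.trans zz ?_
      ((k2 (pv hv)).trans zz ((e.symm zz).conj (MonData.comm_z k))))
    have l1 := smul_T1 n (h2 v hv)
    rw [hf v hv, smul_sub, smul_inv_smul] at l1
    obtain ⟨y, hy⟩ := (m2 v).symm
    have l2 := add_mem (T1_le (two_mem_T1 _) (.inr (m1 ▸ (m2 leechU).symm)) l1) (hy ▸ two_mem_T1 leechU y)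
    rw [sub_add_sub_cancel] at l2
    exact (ev d).2 l2
  refine ⟨k, (mem_NS zz).2 ⟨MonData.comm_z k, ((key t h.tQ rfl).symm zz).trans zz (ct.resolve_left fun c => ?_)⟩, key⟩
  rw [← a.one, ea h.tD (one_mem _)] at c
  exact c.elim h.t_ne fun c => h.t_ne_z (by simpa using c)

end BM

theorem BM.aut (h : BM z t Q M γ φ) {α : B → B} (a : PH (DD M z) α)
    (aD : ∀ x ∈ DD M z, α x ∈ DD M z) (az : α z = z) :
    ∃ k ∈ NS z t, ∀ x ∈ DD M z, α x = k * x * k⁻¹ := by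
  obtain ⟨k, k1, k2⟩ := h.exists_k a aD az
  have xs := h.xs
  let F : B → Subgroup B := fun k =>
    { carrier := {x | x ∈ DD M z ∧ α x = k * x * k⁻¹}
      one_mem' := ⟨one_mem _, by simp [a.one]⟩
      mul_mem' := fun {x y} hx hy => ⟨mul_mem hx.1 hy.1, by rw [a.mul _ hx.1 _ hy.1, hx.2, hy.2, conj_mul]⟩
      inv_mem' := fun {x} hx => ⟨inv_mem hx.1, by rw [a.inv hx.1, hx.2, conj_inv]⟩ }
  have m := fun {x : B} => (mem_centralizer_singleton_iff (g := t) (k := x)).1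
  obtain ⟨q, hq, hc⟩ := xs.exists_centralizer_eq (A := Q ⊓ centralizer {t}) (B := Q ⊓ centralizer {t} ⊓ F k)
    inf_le_left inf_le_left (fun hz => ⟨hz, h.zD, by rw [az, conj_eq_of_comm k1.1]⟩) fun x hx y hy x1 y1 => by
      have x2 := h.R_le hx.1 (m hx.2)
      have y2 := h.R_le hy.1 (m hy.2)
      refine ⟨mul_mem hx hy, mul_mem x2 y2, ?_⟩
      rw [a.mul _ x2 _ y2, (k2 x hx.1 (m hx.2)).resolve_left fun e => x1 ⟨hx, x2, e⟩,
        (k2 y hy.1 (m hy.2)).resolve_left fun e => y1 ⟨hy, y2, e⟩, mul_assoc _ z, ← mul_assoc z,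
        ← xs.z_comm _ (h.d.lx.norm _ k1.1 _ hy.1), xs.mul_z_z, conj_mul]
  have l1 := mul_mem k1 (XS_le_NS xs h.tQ hq)
  have l2 : ∀ x ∈ Q, x * t = t * x → α x = k * q * x * (k * q)⁻¹ := fun x hx x1 => by
    have x2 := hc x ⟨hx, mem_centralizer_singleton_iff.2 x1⟩
    rw [show k * q * x * (k * q)⁻¹ = k * (q * x * q⁻¹) * k⁻¹ by group]
    by_cases e : q * x = x * q
    · rw [conj_eq_of_comm e]; exact (x2.1 e).2.2
    · rw [xs.conj_of_ne hq hx e, ← conj_mul, conj_eq_of_comm k1.1]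
      exact (k2 x hx x1).resolve_left fun e' => e (x2.2 ⟨⟨hx, mem_centralizer_singleton_iff.2 x1⟩, h.R_le hx x1, e'⟩)
  generalize k * q = l at l1 l2
  have l3 : ∀ x ∈ DD M z, ∃ v ∈ DD M z, (∀ y ∈ DD M z, v * y = y * v) ∧ α x = l * (x * v) * l⁻¹ := fun x hx => by
    have x1 := mul_mem (inv_mem hx) (h.nD (inv_mem l1) (aD x hx))
    refine ⟨_, x1, fun y hy => ?_, show α x = l * (x * (x⁻¹ * (l⁻¹ * α x * l⁻¹⁻¹))) * l⁻¹ by group⟩
    have y1 := mem_DD.1 hy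
    rcases h.cenR (mem_DD.1 x1).2 (fun r hr r1 => by
      have r2 := h.R_le hr r1
      have r3 := a.conj hx r2
      rw [l2 _ (h.d.lx.norm _ (mem_DD.1 hx).2 _ hr) (h.le _ (mul_mem (mul_mem hx r2) (inv_mem hx)).1),
        l2 r hr r1] at r3
      calc _ = x⁻¹ * l⁻¹ * (l * (x * r * x⁻¹) * l⁻¹) * α x * l := by group
        _ = _ := by rw [r3]; group) with (e | e) | e | e <;> rw [e]
    · simp
    · simpa using y1.2.symm
    · exact (h.le y y1.1).symm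
    · exact comm_mul_left (h.le y y1.1).symm y1.2.symm
  refine ⟨l, l1, fun x hx => ((h.perf.ge.trans (commutator_le.2 fun x hx y hy => ?_) : _ ≤ F l) hx).2⟩
  obtain ⟨v, -, v1, v2⟩ := l3 x hx
  obtain ⟨w, w0, w1, w2⟩ := l3 y hy
  have i1 := mul_mem (mul_mem hx hy) (inv_mem hx)
  refine ⟨mul_mem i1 (inv_mem hy), ?_⟩
  rw [commutatorElement_def, a.mul _ i1 _ (inv_mem hy), a.conj hx hy, a.inv hy, v2, w2, conj_inv, conj_inv, conj_mul,
    conj_mul, conj_mul]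
  congr 2
  calc _ = x * (v * (y * w) * v⁻¹) * (w * x)⁻¹ * y⁻¹ := by group
    _ = _ := by rw [conj_eq_of_comm (v1 _ (mul_mem hy w0)), w1 x hx]; group

end Cfsg.Agent.Std2E
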