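import Cfsg.Agent.Std2E.Aut

/-! First consequences of a chart. -/

set_option autoImplicit false
set_option linter.unusedSectionVars false

namespace Cfsg.Agent.Std2E

open Cfsg Cfsg.Spor Cfsg.Agent.Spor Cfsg.Agent.Spor.Leech Cfsg.Agent.TT Cfsg.Agent.LES Cfsg.Agent.Mon
  Cfsg.Agent.Mon.LC Cfsg.Agent.Std2B Subgroup

variable {B : Type*} [Group B] [Finite B] {z t : B} {Q M : Subgroup B}
  {γ : centralizer ({z} : Set B) →* Co2} {φ : leechPerpU → B}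
  {G : Type*} [Group G] [Finite G] {j Θ : B → G}

namespace Bse

omit [Finite B] in
theorem fix_of_odd {P : Subgroup B} (hP : IsPGroup 2 P) {O : Set B} (hO : Odd O.ncard)
    (hinv : ∀ b ∈ P, ∀ x ∈ O, b * x * b⁻¹ ∈ O) : ∃ x ∈ O, ∀ b ∈ P, b * x = x * b := by
  let _ : MulAction P O :=
    { smul := fun b x => ⟨b * x * (b : B)⁻¹, hinv b b.2 x x.2⟩
      one_smul := fun x => Subtype.ext (by change (1 : P) * x.1 * ((1 : P) : B)⁻¹ = x; simp)
      mul_smul := fun a b x => Subtype.ext (by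
        change (a * b : P) * x.1 * ((a * b : P) : B)⁻¹ = a * (b * x.1 * (b : B)⁻¹) * (a : B)⁻¹
        simp only [coe_mul]; group) }
  obtain ⟨x, hx⟩ := hP.nonempty_fixed_point_of_prime_not_dvd_card O (by
    rw [Nat.card_coe_set_eq]; exact hO.not_two_dvd_nat)
  exact ⟨x, x.2, fun b hb => mul_inv_eq_iff_eq_mul.1 (congrArg Subtype.val (hx ⟨b, hb⟩))⟩

theorem surj {S : Subgroup B} {α : B → B} (a : PH S α) (aS : ∀ x ∈ S, α x ∈ S) {y : B} (hy : y ∈ S) :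
    ∃ x ∈ S, α x = y := by
  obtain ⟨x, hx⟩ := Finite.surjective_of_injective (f := fun x : S => (⟨α x, aS x x.2⟩ : S))
    (fun x x' e => Subtype.ext ((a.eq_iff x.2 x'.2).1 (congrArg Subtype.val e))) ⟨y, hy⟩
  exact ⟨x, x.2, congrArg Subtype.val hx⟩

omit [Finite B] in
theorem comm_le {D H : Subgroup B} (two : ∀ x ∈ D, ∀ y ∈ D, x ∉ H → y ∉ H → x * y ∈ H) :
    ⁅D, D⁆ ≤ H := by
  have nm : ∀ y ∈ D, ∀ x ∈ D, x ∈ H → y * x * y⁻¹ ∈ H := fun y hy x hx e => by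
    by_cases a : y ∈ H
    · exact mul_mem (mul_mem a e) (inv_mem a)
    · exact two _ (mul_mem hy hx) _ (inv_mem hy) (fun b => a ((H.mul_mem_cancel_right e).1 b))
        fun b => a (inv_mem_iff.1 b)
  refine commutator_le.2 fun x hx y hy => ?_
  rw [commutatorElement_def, show x * y * x⁻¹ * y⁻¹ = x * (y * x⁻¹ * y⁻¹) by group]
  by_cases a : x ∈ H
  · exact mul_mem a (nm y hy _ (inv_mem hx) (inv_mem a))
  · refine two _ hx _ (mul_mem (mul_mem hy (inv_mem hx)) (inv_mem hy)) a fun b => a ?_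
    have := nm _ (inv_mem hy) _ (mul_mem (mul_mem hy (inv_mem hx)) (inv_mem hy)) b
    rwa [show y⁻¹ * (y * x⁻¹ * y⁻¹) * y⁻¹⁻¹ = x⁻¹ by group, inv_mem_iff] at this

omit [Finite B] [Finite G] in
/-- The map induced on the chart. -/
theorem exists_ind {S : Subgroup B} (p : PH S j) {g : G}
    (hg : ∀ x ∈ S, ∃ y ∈ S, g * j x * g⁻¹ = j y) :
    ∃ α : B → B, PH S α ∧ ∀ x ∈ S, α x ∈ S ∧ g * j x * g⁻¹ = j (α x) := by
  choose! α h1 h2 using hg
  refine ⟨α, ⟨fun x hx y hy => ?_, fun x hx e => ?_⟩, fun x hx => ⟨h1 x hx, h2 x hx⟩⟩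
  · rw [← p.eq_iff (h1 _ (mul_mem hx hy)) (mul_mem (h1 _ hx) (h1 _ hy)), p.mul _ (h1 _ hx) _ (h1 _ hy),
      ← h2 _ hx, ← h2 _ hy, ← h2 _ (mul_mem hx hy), p.mul _ hx _ hy, conj_mul]
  · have := h2 x hx
    rw [e, p.one, conj_eq_one_iff] at this
    exact p.inj x hx this

variable (h : BM z t Q M γ φ)
include h

theorem mem_V {v : B} : v ∈ closure {z, t} ↔ v = 1 ∨ v = z ∨ v = t ∨ v = z * t :=
  mem_closure_four h.xs.z_sq h.tt (h.xs.z_comm t h.tQ)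

omit [Finite B] in
theorem V_le_Q : closure {z, t} ≤ Q :=
  (closure_le _).2 (by rintro _ (rfl | rfl); exacts [h.xs.z_mem, h.tQ])

theorem V_le_D : closure {z, t} ≤ DD M z :=
  (closure_le _).2 (by rintro _ (rfl | rfl); exacts [h.zD, h.tD])

theorem cases {k y : B} (yQ : y ∈ Q) (yt : y * t = t * y)
    (hk : ∀ x ∈ Q, x * t = t * x → x * y = y * x → x * k = k * x) :
    k ∈ Q ∧ (Eqv z k 1 ∨ Eqv z k t ∨ Eqv z k y ∨ Eqv z k (t * y)) := by
  have kz := (hk z h.xs.z_mem (h.xs.z_comm t h.tQ).symm (h.xs.z_comm y yQ).symm).symm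
  have kQ := fix3 h.d kz h.tQ yQ yQ yt.symm yt.symm rfl fun x hx a b _ =>
    .inl (conj_eq_of_comm (hk x hx a b).symm)
  exact ⟨kQ, three h.xs h.tQ yQ h.tt kQ hk⟩

theorem cenR {k : B} (hk : ∀ x ∈ Q, x * t = t * x → x * k = k * x) : k ∈ closure {z, t} := by
  have hz : z ∈ closure {z, t} := subset_closure (.inl rfl)
  have ht : t ∈ closure {z, t} := subset_closure (.inr rfl)
  rcases (cases h h.tQ rfl fun x hx a _ => hk x hx a).2 with e | e | e | e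
  exacts [e.mem hz (one_mem _), e.mem hz ht, e.mem hz ht, e.mem hz (mul_mem ht ht)]

theorem aut_z {α : B → B} (a : PH (DD M z) α) (aD : ∀ x ∈ DD M z, α x ∈ DD M z) : α z = z := by
  have hR : Q ⊓ centralizer {t} ≤ DD M z := fun x hx =>
    h.R_le hx.1 (mem_centralizer_singleton_iff.1 hx.2)
  have hN : a.img (Q ⊓ centralizer {t}) ≤ Q := by
    refine h.o2 (a.isPGroup_img (h.xs.isPGroup.to_le inf_le_left)) (fun y hy => ?_) fun k hk y hy => ?_
    · obtain ⟨x, hx, rfl⟩ := (a.mem_img hR).1 hy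
      exact aD x (hR hx)
    · obtain ⟨x, hx, rfl⟩ := (a.mem_img hR).1 hy
      obtain ⟨k, hk', rfl⟩ := surj a aD hk
      rw [← a.conj hk' (hR hx)]
      refine (a.mem_img hR).2 ⟨_, ⟨h.d.lx.norm k (mem_DD.1 hk').2 x hx.1, ?_⟩, rfl⟩
      have kt : k ∈ centralizer {t} := mem_centralizer_singleton_iff.2 (h.le k hk'.1)
      exact (centralizer {t}).mul_mem (mul_mem kt hx.2) (inv_mem kt)
  obtain ⟨x, hx, y, hy, xt, yt, e⟩ := h.xs.exists_noncomm_in_centralizer (by rw [h.d.card]; norm_num) h.tQ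
  have hx' := h.R_le hx xt
  have hy' := h.R_le hy yt
  have e1 : α x * α y = α y * α x * α z := by
    rw [← a.mul _ hx' _ hy', ← a.mul _ hy' _ hx', ← a.mul _ (mul_mem hy' hx') _ h.zD, e]
  rcases h.xs.comm _ (hN ((a.mem_img hR).2 ⟨x, ⟨hx, mem_centralizer_singleton_iff.2 xt⟩, rfl⟩)) _
    (hN ((a.mem_img hR).2 ⟨y, ⟨hy, mem_centralizer_singleton_iff.2 yt⟩, rfl⟩)) with e2 | e2 <;>
    rw [e1] at e2
  · exact (h.xs.z_ne (a.inj z h.zD (mul_eq_left.1 e2))).elim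
  · exact mul_left_cancel e2

theorem aut_rts {α : B → B} (a : PH M α) (aM : ∀ x ∈ M, α x ∈ M) (at' : α t = t) : α z ∈ Rts M z := by
  have zM : z ∈ M := h.zD.1
  have rM : ∀ w ∈ Rts M z, w ∈ M := by
    rintro _ ⟨m, hm, rfl⟩; exact mul_mem (mul_mem hm zM) (inv_mem hm)
  obtain ⟨_, ⟨_, ⟨m, hm, rfl⟩, rfl⟩, hw⟩ := fix_of_odd (O := α '' Rts M z)
    (h.xs.isPGroup.to_le (inf_le_left : Q ⊓ centralizer {t} ≤ Q))
    (by rw [Set.InjOn.ncard_image fun x hx y hy e => (a.eq_iff (rM x hx) (rM y hy)).1 e]; exact h.odd) (by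
      rintro b hb _ ⟨w, hw, rfl⟩
      obtain ⟨b, hb', rfl⟩ := surj a aM (h.R_le hb.1 (mem_centralizer_singleton_iff.1 hb.2)).1
      exact ⟨_, Rts.conj hw hb', a.conj hb' (rM w hw)⟩)
  have hV := cenR h fun x hx xt => hw x ⟨hx, mem_centralizer_singleton_iff.2 xt⟩
  have cm : ∀ {x}, x ∈ M → m * x * m⁻¹ ∈ M := fun hx => mul_mem (mul_mem hm hx) (inv_mem hm)
  have b : PH (DD M z) fun x => α (m * x * m⁻¹) := ⟨fun x hx y hy => by
    rw [← a.mul _ (cm hx.1) _ (cm hy.1), conj_mul], fun x hx e => conj_eq_one_iff.1 (a.inj _ (cm hx.1) e)⟩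
  have e := aut_z h b fun x hx => by
    refine mem_DD.2 ⟨aM _ (cm hx.1), ?_⟩
    have e1 := (a.comm_iff (cm hx.1) (cm zM)).2 (by rw [conj_mul, conj_mul, (mem_DD.1 hx).2])
    have e2 := h.le _ (aM _ (cm hx.1))
    rcases (mem_V h).1 hV with e | e | e | e
    · exact (h.xs.z_ne (conj_eq_one_iff.1 (a.inj _ (cm zM) e))).elim
    · rwa [e] at e1
    · rw [← at', a.eq_iff (cm zM) h.tD.1, ← conj_eq_of_comm (h.le m hm), mul_left_inj, mul_right_inj] at e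
      exact (h.t_ne_z e.symm).elim
    · rw [e, ← mul_assoc, mul_assoc z, ← e2, ← mul_assoc] at e1
      exact mul_right_cancel e1
  refine ⟨(α m)⁻¹, inv_mem (aM m hm), ?_⟩
  rw [a.conj hm zM] at e
  exact (congrArg (fun x => (α m)⁻¹ * x * (α m)⁻¹⁻¹) e).symm.trans (by group)

variable (c : Cht t M j) {g g' : G} {k : B}
include c

omit [Finite G] in
theorem cm {x y : B} (hx : x ∈ M) (hy : y ∈ M) : j x * j y = j y * j x ↔ x * y = y * x :=
  c.comm_iff hx hy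

omit [Finite G] in
theorem exists_al (hg : g * j t = j t * g) :
    ∃ α : B → B, PH M α ∧ (∀ x ∈ M, α x ∈ M ∧ g * j x * g⁻¹ = j (α x)) ∧ α t = t := by
  obtain ⟨α, a, e⟩ := exists_ind c.toPH (c.nrm g hg)
  refine ⟨α, a, e, ((c.eq_iff h.tD.1 (e t h.tD.1).1).1 ?_).symm⟩
  rw [← (e t h.tD.1).2, conj_eq_of_comm hg]

omit [Finite G] in
theorem rel_of (hg : ∀ x ∈ DD M z, ∃ y ∈ DD M z, g * j x * g⁻¹ = j y) :
    g * j z = j z * g ∧ ∃ k ∈ NS z t, Rel (DD M z) j g k := by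
  obtain ⟨α, a, e⟩ := exists_ind (c.mono inf_le_left) hg
  have az := aut_z h a fun x hx => (e x hx).1
  obtain ⟨k, hk, e'⟩ := h.aut a (fun x hx => (e x hx).1) az
  exact ⟨comm_of_conj_eq (by rw [(e z h.zD).2, az]), k, hk, fun x hx => e' x hx ▸ e x hx⟩

omit [Finite G] in
theorem rel0 (gt : g * j t = j t * g) (gz : g * j z = j z * g) :
    ∃ k, k * t = t * k ∧ k * z = z * k ∧ Rel (DD M z) j g k := by
  obtain ⟨-, k, hk, r⟩ := rel_of h c (g := g) fun x hx => by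
    obtain ⟨y, hy, e⟩ := c.nrm g gt x hx.1
    refine ⟨y, mem_DD.2 ⟨hy, (cm h c hy h.zD.1).1 ?_⟩, e⟩
    rw [← e]
    exact comm_mul_left (comm_mul_left gz ((cm h c hx.1 h.zD.1).2 (mem_DD.1 hx).2)) (comm_inv_left gz)
  refine ⟨k, comm_of_conj_eq ((c.eq_iff (r t h.tD).1.1 h.tD.1).1 ?_), hk.1, r⟩
  rw [← (r t h.tD).2, conj_eq_of_comm gt]

omit [Finite G] in
theorem fix_iff (r : Rel (DD M z) j g k) {x : B} (hx : x ∈ DD M z) :
    g * j x = j x * g ↔ k * x = x * k := by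
  rw [← mul_inv_eq_iff_eq_mul, (r x hx).2, c.eq_iff (r x hx).1.1 hx.1, mul_inv_eq_iff_eq_mul]

end Bse

open Bse

variable (h : BM z t Q M γ φ) (c : Cht t M j) {g g' : G}
include h c

theorem frat (hg : g * j t = j t * g) : ∃ m ∈ M, g * j z * g⁻¹ = j (m * z * m⁻¹) := by
  obtain ⟨α, a, e, at'⟩ := exists_al h c hg
  obtain ⟨m, hm, e'⟩ := aut_rts h a (fun x hx => (e x hx).1) at'
  exact ⟨m, hm, by rw [e', (e z h.zD.1).2]⟩

theorem cenD (hg : ∀ x ∈ DD M z, g * j x = j x * g) : ∃ v ∈ closure {z, t}, j v = g := by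
  obtain ⟨_, ⟨m, hm, rfl⟩, -, -, -, wQ, -, wz, -⟩ := h.exists_line
  have zM : z ∈ M := h.zD.1
  have cj : ∀ {x}, x ∈ M → m * x * m⁻¹ ∈ M := fun hx => mul_mem (mul_mem hm hx) (inv_mem hm)
  have wD : m * z * m⁻¹ ∈ DD M z := mem_DD.2 ⟨cj zM, h.xs.z_comm _ wQ⟩
  have mt := (cm h c hm h.tD.1).2 (h.le m hm)
  have pull : ∀ x ∈ DD M (m * z * m⁻¹), m⁻¹ * x * m ∈ DD M z := fun x hx => by
    refine mem_DD.2 ⟨mul_mem (mul_mem (inv_mem hm) hx.1) hm, ?_⟩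
    calc _ = m⁻¹ * (x * (m * z * m⁻¹)) * m := by group
      _ = _ := by rw [(mem_DD.1 hx).2]; group
  obtain ⟨k, kt, kz, r⟩ := rel0 h c (g := (j m)⁻¹ * g * j m)
    (comm_mul_left (comm_mul_left (comm_inv_left mt) (hg t h.tD)) mt) (by
      calc _ = (j m)⁻¹ * (g * (j m * j z * (j m)⁻¹)) * j m := by group
        _ = _ := by rw [← c.conj hm zM, hg _ wD, c.conj hm zM]; group)
  have r' : ∀ x ∈ DD M (m * z * m⁻¹), g * j x * g⁻¹ = j (m * k * m⁻¹ * x * (m * k * m⁻¹)⁻¹) ∧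
      m * k * m⁻¹ * x * (m * k * m⁻¹)⁻¹ ∈ M := fun x hx => by
    obtain ⟨a, b⟩ := r _ (pull x hx)
    have e : m * k * m⁻¹ * x * (m * k * m⁻¹)⁻¹ = m * (k * (m⁻¹ * x * m) * k⁻¹) * m⁻¹ := by group
    rw [e, c.conj hm a.1, ← b, c.mul _ (mul_mem (inv_mem hm) hx.1) _ hm, c.mul _ (inv_mem hm) _ hx.1,
      c.inv hm]
    exact ⟨by group, cj a.1⟩
  obtain ⟨-, hk⟩ := cases h (k := m * k * m⁻¹) wQ (h.le _ (cj zM)) fun x hx xt xw => by
    have xD := h.R_le hx xt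
    obtain ⟨a, b⟩ := r' x (mem_DD.2 ⟨xD.1, xw⟩)
    rw [conj_eq_of_comm (hg x xD), c.eq_iff xD.1 b] at a
    exact (comm_of_conj_eq a.symm).symm
  obtain ⟨v, hv, e⟩ : ∃ v, (∀ x ∈ DD M (m * z * m⁻¹), v * x = x * v) ∧ Eqv z (m * k * m⁻¹) v := by
    rcases hk with e | e | e | e
    · exact ⟨_, fun x _ => by simp, e⟩
    · exact ⟨_, fun x hx => (h.le x hx.1).symm, e⟩
    · exact ⟨_, fun x hx => (mem_DD.1 hx).2.symm, e⟩
    · exact ⟨_, fun x hx => comm_mul_left (h.le x hx.1).symm (mem_DD.1 hx).2.symm, e⟩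
  have zw : z ∈ DD M (m * z * m⁻¹) := mem_DD.2 ⟨zM, (h.xs.z_comm _ wQ).symm⟩
  obtain ⟨e, he, e1⟩ : ∃ e ∈ zpowers z, ∀ x ∈ DD M (m * z * m⁻¹), g * j x * g⁻¹ = j (e * x * e⁻¹) := by
    rcases e with e | e
    · exact ⟨1, one_mem _, fun x hx => by rw [(r' x hx).1, e, conj_eq_of_comm (hv x hx)]; simp⟩
    · refine ⟨z, mem_zpowers z, fun x hx => ?_⟩
      rw [(r' x hx).1, e, show v * z * x * (v * z)⁻¹ = v * (z * x * z⁻¹) * v⁻¹ by group,
        conj_eq_of_comm (hv _ (mul_mem (mul_mem zw hx) (inv_mem zw)))]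
  have eV : e ∈ closure {z, t} := zpowers_le.2 (subset_closure (.inl rfl)) he
  have eM : e ∈ M := (V_le_D h eV).1
  obtain ⟨u, hu, e2⟩ := c.cen ((j e)⁻¹ * g) fun x hx => by
    have : M ≤ ((centralizer {(j e)⁻¹ * g}).comap c.hom).map M.subtype := by
      refine (h.gen _ (Rts.conj (self_mem_Rts M z) hm) wQ wz).trans (sup_le (fun x hx => ?_) fun x hx => ?_)
      · refine ⟨⟨x, hx.1⟩, mem_centralizer_singleton_iff.2 (comm_mul_left (comm_inv_left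
          ((cm h c eM hx.1).2 ?_)) (hg x hx)).symm, rfl⟩
        obtain ⟨n, rfl⟩ := he
        exact (Commute.zpow_right (mem_DD.1 hx).2 n).eq.symm
      · refine ⟨⟨x, hx.1⟩, mem_centralizer_singleton_iff.2 (comm_of_conj_eq ?_).symm, rfl⟩
        change (j e)⁻¹ * g * j x * ((j e)⁻¹ * g)⁻¹ = j x
        calc _ = (j e)⁻¹ * (g * j x * g⁻¹) * j e := by group
          _ = _ := by rw [e1 x hx, c.conj eM hx.1]; group
    obtain ⟨y, hy, rfl⟩ := this hx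
    exact (mem_centralizer_singleton_iff.1 hy).symm
  refine ⟨e * u, mul_mem eV (cenR h fun x hx xt => ?_), by rw [c.mul _ eM _ hu, e2, mul_inv_cancel_left]⟩
  have xD := h.R_le hx xt
  rw [← cm h c xD.1 hu, e2]
  refine (comm_mul_left (comm_inv_left ((cm h c eM xD.1).2 ?_)) (hg x xD)).symm
  obtain ⟨n, rfl⟩ := he
  exact (Commute.zpow_right (mem_DD.1 xD).2 n).eq.symm

theorem Bse.of_rel {k : B} (r : Rel (DD M z) j g k) (hk : k ∈ DD M z) :
    ∃ v ∈ closure {z, t}, j (k * v) = g := by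
  have r' := (Rel.of_mem c.toPH inf_le_left hk).inv.mul r
  rw [inv_mul_cancel] at r'
  obtain ⟨v, hv, e⟩ := cenD h c fun x hx => (fix_iff h c r' hx).2 (by simp)
  exact ⟨v, hv, by rw [c.mul _ hk.1 _ (V_le_D h hv).1, e, mul_inv_cancel_left]⟩

theorem Bse.img_of_rel {k : B} (r : Rel (DD M z) j g k) (hk : k ∈ DD M z) : g ∈ c.img M := by
  obtain ⟨v, hv, e⟩ := of_rel h c r hk
  exact (c.mem_img le_rfl).2 ⟨_, mul_mem hk.1 (V_le_D h hv).1, e⟩

theorem idx (hg : g * j t = j t * g) (hg' : g' * j t = j t * g') (h1 : g ∉ c.img M)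
    (h2 : g' ∉ c.img M) : g * g' ∈ c.img M := by
  have im : ∀ {m}, m ∈ M → j m ∈ c.img M := fun hm => (c.mem_img le_rfl).2 ⟨_, hm, rfl⟩
  have key : ∀ {g : G}, g * j t = j t * g → g ∉ c.img M → ∃ m ∈ M, ∃ g₀ k, g = j m * g₀ ∧
      g₀ * j t = j t * g₀ ∧ k * t = t * k ∧ k * z = z * k ∧ k ∉ M ∧ Rel (DD M z) j g₀ k :=
    fun {g} hg n => by
      obtain ⟨m, hm, e⟩ := frat h c hg
      have e1 := comm_mul_left (comm_inv_left ((cm h c hm h.tD.1).2 (h.le m hm))) hg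
      obtain ⟨k, kt, kz, r⟩ := rel0 h c e1 (comm_of_conj_eq (by
        calc _ = (j m)⁻¹ * (g * j z * g⁻¹) * j m := by group
          _ = _ := by rw [e, c.conj hm h.zD.1]; group))
      refine ⟨m, hm, _, k, (mul_inv_cancel_left _ _).symm, e1, kt, kz, fun a => n ?_, r⟩
      exact (Subgroup.mul_mem_cancel_left _ (inv_mem (im hm))).1 (img_of_rel h c r (mem_DD.2 ⟨a, kz⟩))
  obtain ⟨m, hm, a, k, rfl, at', kt, kz, kM, r⟩ := key hg h1
  obtain ⟨m', hm', a', k', rfl, -, kt', kz', kM', r'⟩ := key hg' h2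
  obtain ⟨y, hy, e⟩ := c.nrm a at' m' hm'
  rw [show j m * a * (j m' * a') = j m * (a * j m' * a⁻¹) * (a * a') by group, e]
  exact mul_mem (mul_mem (im hm) (im hy)) (img_of_rel h c (r.mul r')
    (mem_DD.2 ⟨h.idxD kt kz kt' kz' kM kM', comm_mul_left kz kz'⟩))

theorem Bse.rel_of_cent (hg : ∀ y, y * j z = j z * y → y * j t = j t * y →
      g * y * g⁻¹ * j z = j z * (g * y * g⁻¹) ∧ g * y * g⁻¹ * j t = j t * (g * y * g⁻¹)) :
    g * j z = j z * g ∧ ∃ k ∈ NS z t, Rel (DD M z) j g k := by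
  have hc : ∀ x ∈ DD M z, _ := fun x hx => hg (j x) ((cm h c hx.1 h.zD.1).2 (mem_DD.1 hx).2)
    ((cm h c hx.1 h.tD.1).2 (h.le x hx.1))
  have p : PH (DD M z) j := c.mono inf_le_left
  have : DD M z ≤ ((c.img M).comap ((MulAut.conj g).toMonoidHom.comp p.hom)).map (DD M z).subtype := by
    refine h.perf.ge.trans (comm_le fun x hx y hy a b => ⟨⟨_, mul_mem hx hy⟩, ?_, rfl⟩)
    change g * j (x * y) * g⁻¹ ∈ c.img M
    rw [p.mul _ hx _ hy, ← conj_mul]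
    exact idx h c (hc x hx).2 (hc y hy).2 (fun e => a ⟨⟨x, hx⟩, e, rfl⟩) fun e => b ⟨⟨y, hy⟩, e, rfl⟩
  refine rel_of h c fun x hx => ?_
  obtain ⟨x, hx', rfl⟩ := this hx
  obtain ⟨y, hy, e⟩ := (c.mem_img le_rfl).1 hx'
  refine ⟨y, mem_DD.2 ⟨hy, (cm h c hy h.zD.1).1 ?_⟩, e.symm⟩
  rw [e]
  exact (hc _ hx).1

theorem fixz (hg : g ∈ normalizer ((closure {j z, j t} : Subgroup G) : Set G)) :
    g ∈ NS (j z) (j t) := by
  have zz := (c.sq_iff h.zD.1).2 h.xs.z_sq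
  have tz := (cm h c h.tD.1 h.zD.1).2 (h.xs.z_comm t h.tQ)
  have gz := (rel_of_cent h c (g := g) fun y yz yt => by
    have : ∀ v ∈ closure {j z, j t}, g * y * g⁻¹ * v = v * (g * y * g⁻¹) := fun v hv => by
      have e := mem_centralizer_closure_pair.2 ⟨yz, yt⟩ _ ((mem_normalizer_iff''.1 hg v).1 hv)
      calc _ = g * (y * (g⁻¹ * v * g)) * g⁻¹ := by group
        _ = _ := by rw [← e]; group
    exact ⟨this _ (subset_closure (.inl rfl)), this _ (subset_closure (.inr rfl))⟩).1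
  refine (mem_NS zz).2 ⟨gz, ?_⟩
  rcases (mem_closure_four zz ((c.sq_iff h.tD.1).2 h.tt) tz).1
    ((mem_normalizer_iff.1 hg (j t)).1 (subset_closure (.inr rfl))) with e | e | e | e
  · exact (h.t_ne (c.inj t h.tD.1 (conj_eq_one_iff.1 e))).elim
  · rw [← conj_eq_of_comm gz, mul_left_inj, mul_right_inj, c.eq_iff h.tD.1 h.zD.1] at e
    exact (h.t_ne_z e).elim
  · exact .inl e
  · exact .inr (e.trans tz.symm)

theorem exRel (hg : g ∈ NS (j z) (j t)) : ∃ k ∈ NS z t, Rel (DD M z) j g k := by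
  refine (rel_of_cent h c (g := g) fun y yz yt => ?_).2
  refine ⟨comm_mul_left (comm_mul_left hg.1 yz) (comm_inv_left hg.1), ?_⟩
  obtain ⟨-, _, ⟨n, rfl⟩, e⟩ := inv_mem hg
  have e1 : y * (g⁻¹ * j t * g⁻¹⁻¹) = g⁻¹ * j t * g⁻¹⁻¹ * y := by
    rw [e]; exact (comm_mul_left yt.symm (Commute.zpow_right yz n).eq.symm).symm
  calc _ = g * (y * (g⁻¹ * j t * g⁻¹⁻¹)) * g⁻¹ := by group
    _ = _ := by rw [e1]; group

theorem cen2 {y : B} (yQ : y ∈ Q) (yt : y * t = t * y)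
    (hg : ∀ x ∈ Q, x * t = t * x → x * y = y * x → g * j x = j x * g) :
    ∃ v ∈ closure {z, t, y}, j v = g := by
  obtain ⟨k, kt, kz, r⟩ := rel0 h c (hg t h.tQ rfl yt.symm)
    (hg z h.xs.z_mem (h.xs.z_comm t h.tQ).symm (h.xs.z_comm y yQ).symm)
  obtain ⟨kQ, hk⟩ := cases h (k := k) yQ yt fun x hx xt xy =>
    ((fix_iff h c r (h.R_le hx xt)).1 (hg x hx xt xy)).symm
  obtain ⟨v, hv, e⟩ := of_rel h c r (h.R_le kQ kt)
  refine ⟨_, mul_mem ?_ (closure_mono (by rintro _ (rfl | rfl) <;> simp) hv), e⟩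
  have hz : z ∈ closure {z, t, y} := subset_closure (by simp)
  have ht : t ∈ closure {z, t, y} := subset_closure (by simp)
  have hy : y ∈ closure {z, t, y} := subset_closure (by simp)
  rcases hk with e | e | e | e
  exacts [e.mem hz (one_mem _), e.mem hz ht, e.mem hz hy, e.mem hz (mul_mem ht hy)]

theorem memR (gg : g * g = 1) (gt : g * j t = j t * g) (gz : g * j z = j z * g) {S : Subgroup B}
    (hS : S ≤ Q ⊓ centralizer {t}) (hc : Nat.card Q ≤ 16 * Nat.card S)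
    (hg : ∀ x ∈ S, g * j x = j x * g) : ∃ r ∈ Q, r * t = t * r ∧ j r = g := by
  obtain ⟨k, kt, kz, r⟩ := rel0 h c gt gz
  have r2 := r.mul r
  rw [gg] at r2
  have kQ := fixQ h.d kz (V_le_Q h (cenR h fun x hx xt =>
    ((fix_iff h c r2 (h.R_le hx xt)).1 (by simp)).symm)) (hS.trans inf_le_left) hc fun x hx =>
      .inl (conj_eq_of_comm ((fix_iff h c r
        (h.R_le (hS hx).1 (mem_centralizer_singleton_iff.1 (hS hx).2))).1 (hg x hx)))
  obtain ⟨v, hv, e⟩ := of_rel h c r (h.R_le kQ kt)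
  exact ⟨_, mul_mem kQ (V_le_Q h hv), comm_mul_left kt (h.le v (V_le_D h hv).1), e⟩

end Cfsg.Agent.Std2E
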