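import Cfsg.Agent.Std2E.Defs
import Cfsg.Agent.Std2B.RedA
import Cfsg.Agent.Std2B.NrmA
import Cfsg.Agent.Spor.LeechCount

/-! Involutions of `Co0` with a fixed space of index at most `64`; commutators in extraspecial groups. -/

set_option autoImplicit false

namespace Cfsg.Agent.Std2E

open Cfsg Cfsg.Spor Cfsg.Agent.Spor Cfsg.Agent.Spor.Leech Cfsg.Agent.TT Cfsg.Agent.LES Cfsg.Agent.Mon
  Cfsg.Agent.Mon.LL Cfsg.Agent.Std2B Subgroup
open scoped symmDiff commutatorElement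

theorem fix_dodecad {d c c' : Finset GolayPt} (hd : d ∈ GC) (h : d.card = 12) (hc : c ∈ GC)
    (hc' : c' ∈ GC) (e : two_ind c hc - two_ind c' hc' ∈ fixSub (sgn d hd)) :
    c' ∈ ({∅, d, dᶜ, Finset.univ} : Finset (Finset GolayPt)).image (c ∆ ·) := by
  obtain ⟨y, hy⟩ := e
  obtain ⟨o, ho⟩ := exists_not_mem (.inr h)
  have e := coord_of_fix hd hy
  obtain ⟨a, ha, h1, -⟩ := even_of_zero y.2 (p := o) (by rw [e, if_neg ho]; rfl)
  have h2 : ∀ i, i ∈ a ↔ i ∈ d ∧ i ∈ c ∆ c' := fun i => by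
    have := h1 i
    rw [e] at this
    simp only [AddSubgroup.coe_sub, Pi.sub_apply, two_ind, Finset.mem_symmDiff] at this ⊢
    split_ifs at this <;> first | tauto | omega
  have h3 : ∀ i, i ∈ a ∆ (c ∆ c') ↔ i ∈ dᶜ ∧ i ∈ c ∆ c' := fun i => by
    rw [Finset.mem_symmDiff, h2, Finset.mem_compl]; tauto
  refine Finset.mem_image.2 ⟨c ∆ c', ?_, symmDiff_symmDiff_cancel_left _ _⟩
  have h4 := eq_of_subset hd (.inr h) ha fun i hi => ((h2 i).1 hi).1
  have h5 := eq_of_subset (GC_compl hd) (.inr (by rw [Finset.card_compl, Leech.card_golayPt, h]))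
    (GC_symmDiff ha (GC_symmDiff hc hc')) fun i hi => ((h3 i).1 hi).1
  generalize c ∆ c' = s at *
  simp only [Finset.mem_insert, Finset.mem_singleton]
  rcases h4 with a1 | a1 <;> rcases h5 with a2 | a2 <;> rw [a2] at h3 <;> rw [a1] at h2 <;>
    simp only [Finset.notMem_empty, Finset.mem_compl] at h2 h3
  exacts [.inl (Finset.eq_empty_of_forall_notMem fun i => by have := h2 i; have := h3 i; tauto),
    .inr (.inr (.inl (Finset.ext fun i => by have := h2 i; have := h3 i; rw [Finset.mem_compl]; tauto))),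
    .inr (.inl (Finset.ext fun i => by have := h2 i; have := h3 i; tauto)),
    .inr (.inr (.inr (Finset.eq_univ_of_forall fun i => by have := h2 i; have := h3 i; tauto)))]

theorem not_idx {d : Finset GolayPt} (hd : d ∈ GC) (h : d.card = 8 ∨ d.card = 12) :
    ¬ Idx (fixSub (sgn d hd)) 64 := fun hi => by
  classical
  rcases h with h | h
  · have := hi.2
    rw [index_fixSub hd h] at this
    omega
  have : Finite (leechLattice ⧸ fixSub (sgn d hd)) := Nat.finite_of_card_ne_zero hi.1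
  have := Fintype.ofFinite (leechLattice ⧸ fixSub (sgn d hd))
  let f : Finset GolayPt → leechLattice ⧸ fixSub (sgn d hd) := fun c =>
    if hc : c ∈ GC then (two_ind c hc : leechLattice) else 0
  have := Finset.card_le_mul_card_image_of_maps_to (f := f) (s := GCf) (t := Finset.univ)
    (fun _ _ => Finset.mem_univ _) 4 fun b _ => by
      rcases (GCf.filter fun c => f c = b).eq_empty_or_nonempty with e | ⟨c, hc⟩
      · rw [e]; simp
      refine (Finset.card_le_card fun c' hc' => ?_).trans ((Finset.card_image_le (f := (c ∆ ·))).trans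
        (Finset.card_le_four (a := ∅) (b := d) (c := dᶜ) (d := Finset.univ)))
      simp only [Finset.mem_filter, mem_GCf] at hc hc'
      have e := hc.2.trans hc'.2.symm
      simp only [f, dif_pos hc.1, dif_pos hc'.1] at e
      exact fix_dodecad hd h hc.1 hc'.1 (QuotientAddGroup.eq_iff_sub_mem.1 e)
  rw [card_GCf, Finset.card_univ, ← Nat.card_eq_fintype_card] at this
  have := hi.2
  rw [AddSubgroup.index] at this
  omega

theorem pm_of_idx64 {g : Co0} (hg : g * g = 1) {W : AddSubgroup leechLattice} (hW : W ≤ fixSub g)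
    (hi : Idx W 64) : g = 1 ∨ g = negOne := by
  have key : ∀ {d : Finset GolayPt} (hd : d ∈ GC), d.card = 8 ∨ d.card = 12 →
      ¬ (IsConj g (sgn d hd) ∨ IsConj g (negOne * sgn d hd)) := fun {d} hd h c => by
    obtain ⟨k, hk⟩ : ∃ k, k * g * k⁻¹ = sgn d hd ∨ k * g * k⁻¹ = negOne * sgn d hd :=
      c.elim (fun c => (isConj_iff.1 c).imp fun _ => Or.inl) fun c => (isConj_iff.1 c).imp fun _ => Or.inr
    have e : ((fixSub (sgn d hd)).comap (DistribSMul.toAddMonoidHom _ k)).index =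
        (fixSub (sgn d hd)).index :=
      AddSubgroup.index_comap_of_surjective _ (MulAction.surjective k)
    have l : W ≤ (fixSub (sgn d hd)).comap (DistribSMul.toAddMonoidHom _ k) := fun v hv =>
      mem_fix_conj hk (by simpa using hW hv)
    have := AddSubgroup.index_dvd_of_le l
    exact not_idx hd h ⟨fun a => hi.1 (Nat.eq_zero_of_zero_dvd (a ▸ e ▸ this)),
      e ▸ (Nat.le_of_dvd (Nat.pos_of_ne_zero hi.1) this).trans hi.2⟩
  rcases XSC.C1.sq_cases hg with e | e | e | e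
  · exact Or.inl e
  · exact Or.inr e
  · exact (key _ (Or.inl XSC.C1.o0_card) (e.exists_octad XSC.C1.o0_GC XSC.C1.o0_card)).elim
  · exact (key _ (Or.inr XSC.C1.d0_card)
      (Or.inl (e.exists_dodecad XSC.C1.d0_GC XSC.C1.d0_card))).elim

variable {B : Type*} [Group B] {z k : B} {Q A : Subgroup B}

theorem idx_pre [Finite B] {γ : centralizer ({z} : Set B) →* Co2} {φ : leechPerpU → B}
    (d : BabyData z Q γ φ) {F : Subgroup B} (hF : F ≤ Q) (hz : z ∈ F) {n : ℕ}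
    (hc : Nat.card Q ≤ n * Nat.card F) : Idx (d.pre F hz) (2 * n) := by
  have h1 : Idx leechPerpU (2 * 1) := Two.idx ⟨le_top, fun x _ y _ a b => by
    have := eight_dvd_dotInt x.2 leechU.2
    have := eight_dvd_dotInt y.2 leechU.2
    rw [BabyData.mem_perp] at a b ⊢
    rw [AddSubgroup.coe_add, dotInt_add_left]; omega⟩ idx_top
  have h2 := AddSubgroup.relIndex_mul_index (show d.pre F hz ≤ leechPerpU from fun _ h => h.1)
  let f : leechPerpU ⧸ (d.pre F hz).addSubgroupOf leechPerpU → Q ⧸ F.subgroupOf Q := fun q =>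
    ((⟨φ q.out, d.mem _⟩ : Q) : Q ⧸ F.subgroupOf Q)
  have hf : Function.Injective f := fun a b e => by
    have e1 : (φ a.out)⁻¹ * φ b.out ∈ F := (QuotientGroup.eq (s := F.subgroupOf Q)).1 e
    rw [← a.out_eq, ← b.out_eq]
    refine QuotientAddGroup.eq.2 ⟨(-a.out + b.out).2, ?_⟩
    have := (d.add a.out (-a.out + b.out)).mul_left (φ a.out)⁻¹
    rw [add_neg_cancel_left, inv_mul_cancel_left] at this
    exact (this.symm d.lx.z_sq).mem hz e1
  have h3 : (d.pre F hz).relIndex leechPerpU ≤ F.relIndex Q := Nat.card_le_card_of_injective f hf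
  have h4 : (d.pre F hz).relIndex leechPerpU ≠ 0 :=
    @Nat.card_ne_zero.2 ⟨⟨0⟩, .of_injective f hf⟩
  have h5 : F.relIndex Q * Nat.card F = Nat.card Q := by
    rw [relIndex, ← Nat.card_congr (subgroupOfEquivOfLe hF).toEquiv, index_mul_card]
  have h6 : F.relIndex Q ≤ n := Nat.le_of_mul_le_mul_right (h5 ▸ hc) Nat.card_pos
  refine ⟨h2 ▸ mul_ne_zero h4 h1.1, h2 ▸ ?_⟩
  rw [mul_comm]
  exact Nat.mul_le_mul h1.2 (h3.trans h6)

/-- The elements of `Q` fixed by `k` modulo `z`. -/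
def FixS (xs : XS Q z) (k : B) : Subgroup B where
  carrier := {x | x ∈ Q ∧ Eqv z (k * x * k⁻¹) x}
  one_mem' := ⟨one_mem _, .inl (by simp)⟩
  mul_mem' := fun a b => ⟨mul_mem a.1 b.1, by rw [← conj_mul]; exact eqv_mul xs b.1 a.2 b.2⟩
  inv_mem' := fun {x} a => ⟨inv_mem a.1, by
    have := xs.inv (a.2.mem xs.z_mem a.1)
    rw [conj_inv] at this
    exact Eqv.trans xs.z_sq this (a.2.trans xs.z_sq (Eqv.symm xs.z_sq (xs.inv a.1)))⟩

theorem comm_mul (r s k : B) : ⁅r * s, k⁆ = r * ⁅s, k⁆ * r⁻¹ * ⁅r, k⁆ := by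
  simp only [commutatorElement_def]; group

section
variable (lx : LX Q z) (hk : k * z = z * k)
include lx hk

theorem comm_mem {r : B} (hr : r ∈ Q) : ⁅r, k⁆ ∈ Q := by
  rw [show ⁅r, k⁆ = r * (k * r⁻¹ * k⁻¹) by simp only [commutatorElement_def]; group]
  exact mul_mem hr (lx.norm k hk _ (inv_mem hr))

theorem cmv_comm_eq {r x : B} (hr : r ∈ Q) (hx : x ∈ Q) :
    cmv x ⁅r, k⁆ = cmv (x⁻¹ * (k⁻¹ * x * k)) r := by
  have xs := lx.toXS
  have h1 := lx.norm k hk _ (inv_mem hr)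
  have h2 : k⁻¹ * x * k ∈ Q := by simpa using lx.norm _ (comm_inv_left hk) _ hx
  rw [show ⁅r, k⁆ = r * (k * r⁻¹ * k⁻¹) by simp only [commutatorElement_def]; group,
    cmv_mul_right xs hr h1 hx, cmv_mul_left xs (inv_mem hx) h2 hr, cmv_eqv xs hr (xs.inv hx),
    ← cmv_conj k (k⁻¹ * x * k) r, show k * (k⁻¹ * x * k) * k⁻¹ = x by group, cmv_comm x (k * r⁻¹ * k⁻¹),
    cmv_comm x (k * r * k⁻¹), ← conj_inv, cmv_eqv xs hx (xs.inv (lx.norm k hk _ hr))]

theorem conj_comm {r : B} (h : k * k * r = r * (k * k)) : k * ⁅r, k⁆ * k⁻¹ = ⁅r, k⁆⁻¹ := by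
  calc _ = k * r * k⁻¹ * (k * k * r⁻¹) * (k * k)⁻¹ := by simp only [commutatorElement_def]; group
    _ = _ := by rw [← comm_inv_left h.symm]; simp only [commutatorElement_def]; group

/-- The commutator subgroup `[A, k] ⟨z⟩`. -/
def CmS (hA : A ≤ Q) : Subgroup B where
  carrier := {x | ∃ r ∈ A, Eqv z x ⁅r, k⁆}
  one_mem' := ⟨1, one_mem _, .inl (by simp)⟩
  mul_mem' := fun {a b} ⟨r, hr, e⟩ ⟨s, hs, f⟩ => ⟨s * r, mul_mem hs hr, by
    rw [comm_mul]
    exact eqv_mul lx.toXS (comm_mem lx hk (hA hs)) (e.trans lx.z_sq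
      (Eqv.symm lx.z_sq (lx.conj (hA hs) (comm_mem lx hk (hA hr))))) f⟩
  inv_mem' := fun {a} ⟨r, hr, e⟩ => ⟨r, hr,
    Eqv.trans lx.z_sq (lx.inv (e.mem lx.z_mem (comm_mem lx hk (hA hr)))) e⟩

theorem CmS_le (hA : A ≤ Q) : CmS lx hk hA ≤ Q := fun _ ⟨_, hr, e⟩ =>
  e.mem lx.z_mem (comm_mem lx hk (hA hr))

theorem z_mem_CmS (hA : A ≤ Q) : z ∈ CmS lx hk hA := ⟨1, one_mem _, .inr (by simp)⟩

/-- The singular part of `[A, k] ⟨z⟩`. -/
theorem exists_sing [Finite B] (hA : A ≤ Q) (h2 : ∀ r ∈ A, k * k * r = r * (k * k)) :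
    ∃ E ≤ Q, z ∈ E ∧ Nat.card (CmS lx hk hA) ≤ 2 * Nat.card E ∧ ∀ e, e ∈ E ↔
      e * e = 1 ∧ ∃ r ∈ A, Eqv z e ⁅r, k⁆ := by
  have xs := lx.toXS
  have cm : ∀ x ∈ CmS lx hk hA, ∀ y ∈ CmS lx hk hA, x * y = y * x := by
    rintro x ⟨r, hr, e⟩ y ⟨s, hs, f⟩
    have a := comm_mem lx hk (hA hr)
    have b := comm_mem lx hk (hA hs)
    rw [eqv_comm_iff xs (f.mem xs.z_mem b) e, eq_comm, eqv_comm_iff xs a f, ← cmv_eq_zero,
      cmv_comm_eq lx hk (hA hr) b, cmv_eqv xs (hA hr) (y := 1), cmv_eq_zero, one_mul, mul_one]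
    rw [show k⁻¹ * ⁅s, k⁆ * k = ⁅s, k⁆⁻¹ by
      conv_lhs => rw [← inv_inv ⁅s, k⁆, ← conj_comm lx hk (h2 s hs)]
      group]
    exact eqv_one_iff.2 (xs.sq (inv_mem b))
  let E : Subgroup B :=
    { carrier := {x | x ∈ CmS lx hk hA ∧ x * x = 1}
      one_mem' := ⟨one_mem _, one_mul _⟩
      mul_mem' := fun {a b} ha hb => ⟨mul_mem ha.1 hb.1, by
        rw [mul_assoc, ← mul_assoc b, cm b hb.1 a ha.1, mul_assoc, hb.2, mul_one, ha.2]⟩
      inv_mem' := fun {a} ha => ⟨inv_mem ha.1, by rw [← mul_inv_rev, ha.2, inv_one]⟩ }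
  refine ⟨E, fun x hx => CmS_le lx hk hA hx.1, ⟨z_mem_CmS lx hk hA, xs.z_sq⟩,
    card_le_two_mul_of_mul_mem (fun x hx => hx.1) fun x hx y hy a b => ⟨mul_mem hx hy, ?_⟩,
    fun e => and_comm⟩
  rw [mul_assoc, ← mul_assoc y, cm y hy x hx, mul_assoc, ← mul_assoc,
    (xs.sq (CmS_le lx hk hA hx)).resolve_left fun c => a ⟨hx, c⟩,
    (xs.sq (CmS_le lx hk hA hy)).resolve_left fun c => b ⟨hy, c⟩, xs.z_sq]

end

theorem two_mul_le {I : Subgroup B} [Finite B] (xs : XS Q z) (hI : I ≤ Q) {n : ℕ}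
    (h : 2 ^ n < Nat.card I) : 2 * 2 ^ n ≤ Nat.card I := by
  obtain ⟨m, hm⟩ := IsPGroup.iff_card.1 (xs.isPGroup.to_le hI)
  rw [hm] at h ⊢
  rw [← pow_succ']
  exact Nat.pow_le_pow_right two_pos ((Nat.pow_lt_pow_iff_right one_lt_two).1 h)

end Cfsg.Agent.Std2E
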