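import Cfsg.Agent.Std2E.Base

/-! Fusion of `t` with `t z`. -/

set_option autoImplicit false

namespace Cfsg.Agent.Std2E

open Cfsg Cfsg.Spor Cfsg.Agent.Spor Cfsg.Agent.Spor.Leech Cfsg.Agent.TT Cfsg.Agent.LES Cfsg.Agent.Mon
  Cfsg.Agent.Mon.LC Cfsg.Agent.Std2B Subgroup Cfsg.Agent.PLocal.Amb

variable {B : Type*} [Group B] [Finite B] {z t : B} {Q M : Subgroup B}
  {γ : centralizer ({z} : Set B) →* Co2} {φ : leechPerpU → B}
  {G : Type*} [Group G] [Finite G] {j Θ : B → G}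

namespace Fu

omit [Finite G] in
theorem fix_odd {Ω : Type*} (f : G → Ω → Ω) (f1 : ∀ a, f 1 a = a)
    (f2 : ∀ x y a, f (x * y) a = f x (f y a)) {P : Subgroup G} (hP : IsPGroup 2 P) {A : Set Ω}
    (hA : Odd A.ncard) (h : ∀ x ∈ P, ∀ a ∈ A, f x a ∈ A) : ∃ a ∈ A, ∀ x ∈ P, f x a = a := by
  have : Finite A := Set.finite_of_ncard_ne_zero (by rintro e; simp [e] at hA)
  letI : MulAction P A :=
    { smul := fun x a => ⟨f x a, h x x.2 a a.2⟩
      one_smul := fun a => Subtype.ext (f1 a)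
      mul_smul := fun x y a => Subtype.ext (f2 x y a) }
  obtain ⟨a, ha⟩ := hP.nonempty_fixed_point_of_prime_not_dvd_card A (by
    rw [Nat.card_coe_set_eq]; exact hA.not_two_dvd_nat)
  exact ⟨a, a.2, fun x hx => congrArg Subtype.val (ha ⟨x, hx⟩)⟩

omit [Finite G] in
theorem fix_conj {P : Subgroup G} (hP : IsPGroup 2 P) {A : Set G} (hA : Odd A.ncard)
    (h : ∀ x ∈ P, ∀ a ∈ A, x * a * x⁻¹ ∈ A) : ∃ a ∈ A, ∀ x ∈ P, x * a * x⁻¹ = a :=
  fix_odd (fun x a => x * a * x⁻¹) (by simp) (fun _ _ _ => by group) hP hA h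

theorem fix_pair {P : Subgroup G} (hP : IsPGroup 2 P) {A : Set G} {k : ℕ} (hA : A.ncard = 2 * k)
    (hk : Odd k) (h : ∀ x ∈ P, ∀ a ∈ A, x * a * x⁻¹ ∈ A) {z : G} (z1 : z ≠ 1) (z2 : z * z = 1)
    (hz : ∀ a ∈ A, a * z ∈ A) (hc : ∀ x ∈ P, x * z = z * x) :
    ∃ a ∈ A, ∀ x ∈ P, Eqv z (x * a * x⁻¹) a := by
  classical
  have sm : ∀ x ∈ P, ∀ a : G, ({a, a * z} : Finset G).image (fun a => x * a * x⁻¹) =
      {x * a * x⁻¹, x * a * x⁻¹ * z} := fun x hx a => by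
    simp [mul_assoc, comm_inv_left (hc x hx)]
  let s := (Set.toFinite A).toFinset
  have fib : ∀ b ∈ s.image fun a => ({a, a * z} : Finset G),
      (s.filter fun a => ({a, a * z} : Finset G) = b).card = 2 := fun b hb => by
    obtain ⟨a, ha, rfl⟩ := Finset.mem_image.1 hb
    rw [← Finset.card_pair (a := a) (b := a * z) (by simpa using z1)]
    congr 1
    ext x
    simp only [Finset.mem_filter, s, Set.Finite.mem_toFinset] at ha ⊢
    refine ⟨fun e => e.2 ▸ Finset.mem_insert_self _ _, fun e => ?_⟩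
    rcases Finset.mem_insert.1 e with rfl | e
    · exact ⟨ha, rfl⟩
    · rw [Finset.mem_singleton.1 e, mul_assoc, z2, mul_one, Finset.pair_comm]
      exact ⟨hz a ha, rfl⟩
  have h1 := Finset.card_le_mul_card_image s 2 fun b hb => (fib b hb).le
  have h2 := Finset.mul_card_image_le_card s 2 fun b hb => (fib b hb).ge
  rw [← Set.ncard_eq_toFinset_card, hA] at h1 h2
  obtain ⟨b, hb, h3⟩ := fix_odd (fun x (b : Finset G) => b.image fun a => x * a * x⁻¹) (by simp)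
    (fun _ _ _ => by simp [Finset.image_image, Function.comp_def, mul_assoc]) hP
    (A := ((s.image fun a => ({a, a * z} : Finset G) : Finset (Finset G)) : Set (Finset G)))
    (by rwa [Set.ncard_coe_finset, show Finset.card _ = k by omega]) fun x hx b hb => by
      obtain ⟨a, ha, rfl⟩ := Finset.mem_image.1 hb
      exact Finset.mem_image.2 ⟨_, by simpa [s] using h x hx a (by simpa [s] using ha), (sm x hx a).symm⟩
  obtain ⟨a, ha, rfl⟩ := Finset.mem_image.1 hb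
  refine ⟨a, by simpa [s] using ha, fun x hx => ?_⟩
  have := (sm x hx a).symm.trans (h3 x hx) ▸ Finset.mem_insert_self (x * a * x⁻¹) {x * a * x⁻¹ * z}
  simpa [Eqv] using this

omit [Finite B] in
theorem cl3 (q : XS Q z) {t y v : B} (ht : t ∈ Q) (hy : y ∈ Q) (tt : t * t = 1) (yy : y * y = 1)
    (hv : v ∈ closure {z, t, y}) :
    Eqv z v 1 ∨ Eqv z v t ∨ Eqv z v y ∨ Eqv z v (t * y) := by
  have a1 : zpowers z ≤ Q := zpowers_le.2 q.z_mem
  have a2 : zpowers z ⊔ zpowers t ≤ Q := sup_le a1 (zpowers_le.2 ht)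
  have b1 : ∀ v x, x ∈ Q → v * x ∈ zpowers z → Eqv z v x⁻¹ := fun v x hx h => by
    rcases (mem_zpowers_invol q.z_sq).1 h with e | e
    · exact .inl (eq_inv_of_mul_eq_one_left e)
    · exact .inr (by rw [q.z_comm _ (inv_mem hx), ← e]; simp)
  have h1 : v ∈ zpowers z ⊔ zpowers t ⊔ zpowers y := (closure_le _).2 (by
    rintro _ (rfl | rfl | rfl)
    exacts [mem_sup_left (mem_sup_left (mem_zpowers _)), mem_sup_left (mem_sup_right (mem_zpowers _)),
      mem_sup_right (mem_zpowers _)]) hv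
  rw [q.mem_sup_zpowers a2 (mem_sup_left (mem_zpowers z)) hy, q.mem_sup_zpowers a1 (mem_zpowers z) ht,
    q.mem_sup_zpowers a1 (mem_zpowers z) ht] at h1
  rcases h1 with (e | e) | e | e
  · exact .inl (by simpa using b1 v 1 (one_mem _) (by simpa using e))
  · exact .inr (.inl (inv_eq_of_mul_self tt ▸ b1 v t ht e))
  · exact .inr (.inr (.inl (inv_eq_of_mul_self yy ▸ b1 v y hy e)))
  · refine .inr (.inr (.inr ?_))
    simpa [inv_eq_of_mul_self tt, inv_eq_of_mul_self yy] using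
      b1 v _ (mul_mem hy ht) (by rwa [← mul_assoc])

omit [Finite G] in
theorem comm_mem {K C : Subgroup G} (hK : C ≤ 𝐍[K]) (h : ∀ x ∈ C, ∀ y ∈ C, x ∉ K → y ∉ K → x * y ∈ K)
    {a b : G} (ha : a ∈ C) (hb : b ∈ C) : a * b * a⁻¹ * b⁻¹ ∈ K := by
  by_cases h1 : b ∈ K
  · exact mul_mem (conj_mem_of_mem_normalizer (hK ha) h1) (inv_mem h1)
  · exact h _ (mul_mem (mul_mem ha hb) (inv_mem ha)) _ (inv_mem hb)
      (fun e => h1 ((mem_normalizer_iff.1 (hK ha) b).2 e)) (by simpa using h1)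

/-- A large subgroup of `Q` has `z` as a commutator. -/
theorem exists_comm (d : BabyData z Q γ φ) {S : Subgroup B} (hS : S ≤ Q)
    (hc : Nat.card Q ≤ 16 * Nat.card S) : ∃ a ∈ S, ∃ b ∈ S, a * b * a⁻¹ * b⁻¹ = z := by
  have q := d.lx.toXS
  by_contra hh
  push Not at hh
  have h1 : ∀ a ∈ S, ∀ b ∈ S, a * b = b * a := fun a ha b hb => by_contra fun e => hh a ha b hb (by
    rw [q.conj_of_ne (hS ha) (hS hb) e, q.z_comm b (hS hb)]; simp)
  have h2 := q.card_mul_card_centralizer (A := S ⊔ zpowers z) (sup_le hS (zpowers_le.2 q.z_mem))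
    (mem_sup_right (mem_zpowers z))
  have h3 := card_le_of_le (le_sup_left : S ≤ S ⊔ zpowers z)
  have h4 := card_le_of_le (show S ≤ Q ⊓ centralizer ((S ⊔ zpowers z : Subgroup B) : Set B) from
    fun x hx => ⟨hS hx, XS.mem_centralizer_sup_zpowers.2 ⟨fun a ha => h1 a ha x hx,
      q.z_comm x (hS hx)⟩⟩)
  have h5 := (Nat.mul_le_mul h3 h4).trans_eq h2
  rw [d.card] at h5 hc
  nlinarith

omit [Finite B] in
theorem half {z : B} {S : Subgroup B} {f : B → G} {w ζ : G} (zz : ζ * ζ = 1)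
    (hm : ∀ x ∈ S, ∀ y ∈ S, f (x * y) = f x * f y) (hz : ∀ x ∈ S, f x * ζ = ζ * f x)
    (h : ∀ x ∈ S, Eqv ζ (f x * w * (f x)⁻¹) w) :
    ∃ S' ≤ S, Nat.card S ≤ 2 * Nat.card S' ∧ ∀ x ∈ S', f x * w = w * f x := by
  let F : S →* G := MonoidHom.mk' (fun x => f x) fun x y => hm x x.2 y y.2
  let S' := ((centralizer {w}).comap F).map S.subtype
  have m : ∀ x ∈ S, x ∈ S' ↔ f x * w = w * f x := fun x hx =>
    ⟨fun ⟨y, a, b⟩ => b ▸ mem_centralizer_singleton_iff.1 a,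
      fun e => ⟨⟨x, hx⟩, mem_centralizer_singleton_iff.2 e, rfl⟩⟩
  refine ⟨S', map_subtype_le _, card_le_two_mul_of_mul_mem (map_subtype_le _) fun x hx y hy a b =>
    (m _ (mul_mem hx hy)).2 (comm_of_conj_eq ?_), fun x hx => (m x (map_subtype_le _ hx)).1 hx⟩
  have e1 := (h x hx).resolve_left fun e => a ((m x hx).2 (comm_of_conj_eq e))
  have e2 := (h y hy).resolve_left fun e => b ((m y hy).2 (comm_of_conj_eq e))
  calc _ = f x * (f y * w * (f y)⁻¹) * (f x)⁻¹ := by rw [hm x hx y hy]; group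
    _ = _ := by rw [e2, ← conj_mul, e1, conj_eq_of_comm (hz x hx), mul_assoc, zz, mul_one]

variable (h : BM z t Q M γ φ) (c : Cht t M j)
include h

theorem RM {q : B} (hq : q ∈ Q) (hc : q * t = t * q) : q ∈ M := (h.R_le hq hc).1

theorem card_B0 {y : B} (hy : y ∈ Q) :
    Nat.card Q ≤ 4 * Nat.card (Q ⊓ centralizer {t} ⊓ centralizer {y} : Subgroup B) := by
  have k : ∀ S ≤ Q, ∀ y ∈ Q, Nat.card S ≤ 2 * Nat.card (S ⊓ centralizer {y} : Subgroup B) :=
    fun S hS y hy => card_le_two_mul_of_mul_mem inf_le_left fun a ha b hb a1 b1 =>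
      ⟨mul_mem ha hb, mem_centralizer_singleton_iff.2 (h.xs.mul_comm_of_not_comm hy (hS ha) (hS hb)
        (fun e => a1 ⟨ha, mem_centralizer_singleton_iff.2 e⟩)
        fun e => b1 ⟨hb, mem_centralizer_singleton_iff.2 e⟩)⟩
  have := k Q le_rfl t h.tQ
  have := k (Q ⊓ centralizer {t}) inf_le_left y hy
  omega

include c

omit [Finite G] in
theorem ct {m : B} (hm : m ∈ M) : j m * j t = j t * j m := (c.comm_iff hm h.tD.1).2 (h.le m hm)

theorem nK {g : G} (hg : g * j t = j t * g) : g ∈ 𝐍[c.img M] := mem_normalizer_fintype fun x hx => by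
  obtain ⟨m, hm, rfl⟩ := (c.mem_img le_rfl).1 hx
  obtain ⟨m', a, b⟩ := c.nrm g hg m hm
  exact b ▸ (c.mem_img_iff a).2 a

theorem cK {a b : G} (ha : a * j t = j t * a) (hb : b * j t = j t * b) :
    ∃ m ∈ M, j m = a * b * a⁻¹ * b⁻¹ :=
  (c.mem_img le_rfl).1 (comm_mem (C := centralizer {j t})
    (fun _ hg => nK h c (mem_centralizer_singleton_iff.1 hg)) (fun _ a _ b => idx h c
      (mem_centralizer_singleton_iff.1 a) (mem_centralizer_singleton_iff.1 b))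
    (mem_centralizer_singleton_iff.2 ha) (mem_centralizer_singleton_iff.2 hb))

omit c in
theorem rM {w : B} (hw : w ∈ Rts M z) : w ∈ M :=
  let ⟨_, a, b⟩ := hw; b ▸ mul_mem (mul_mem a h.zD.1) (inv_mem a)

/-- A 2-subgroup of `C(t)` centralises a conjugate of `z`. -/
theorem exists_cz {P : Subgroup G} (hP : IsPGroup 2 P) (hc : ∀ x ∈ P, x * j t = j t * x) :
    ∃ m ∈ M, ∀ x ∈ P, (j m)⁻¹ * x * j m * j z = j z * ((j m)⁻¹ * x * j m) := by
  obtain ⟨_, ⟨_, ⟨m, hm, rfl⟩, rfl⟩, h2⟩ := fix_conj hP (A := j '' Rts M z) (by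
    rw [Set.InjOn.ncard_image fun a ha b hb => (c.eq_iff (rM h ha) (rM h hb)).1]
    exact h.odd) (by
    rintro x hx _ ⟨_, ⟨m, hm, rfl⟩, rfl⟩
    obtain ⟨k, k1, k2⟩ := frat h c (hc x hx)
    obtain ⟨l, l1, l2⟩ := c.nrm x (hc x hx) m hm
    refine ⟨_, Rts.conj ⟨k, k1, rfl⟩ l1, ?_⟩
    rw [c.conj l1 (rM h ⟨k, k1, rfl⟩), c.conj hm h.zD.1, ← k2, ← l2]; group)
  refine ⟨m, hm, fun x hx => ?_⟩
  have := h2 x hx
  rw [c.conj hm h.zD.1] at this
  calc _ = (j m)⁻¹ * (x * (j m * j z * (j m)⁻¹) * x⁻¹) * x * j m := by group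
    _ = _ := by rw [this]; group

theorem exists_syl : ∃ P : Subgroup G, IsSyl 2 P (centralizer {j t}) ∧ P ≤ centralizer {j z} ∧
    ∀ q ∈ Q, q * t = t * q → j q ∈ P := by
  obtain ⟨T, hT⟩ := exists_isSyl 2 (centralizer {j t})
  obtain ⟨m, hm, h1⟩ := exists_cz h c hT.pgrp fun x hx => mem_centralizer_singleton_iff.1 (hT.le hx)
  have h2 := hT.cj_of_mem (inv_mem (mem_centralizer_singleton_iff.2 (ct h c hm)))
  have hR : Q ⊓ centralizer {t} ≤ M := fun q hq => RM h hq.1 (mem_centralizer_singleton_iff.1 hq.2)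
  obtain ⟨P, hP, h3⟩ := exists_isSyl_ge (L := centralizer {j t} ⊓ centralizer {j z})
    (c.isPGroup_img (h.xs.isPGroup.to_le (inf_le_left (b := centralizer {t})))) fun x hx => by
      obtain ⟨r, hr, rfl⟩ := (c.mem_img hR).1 hx
      exact ⟨mem_centralizer_singleton_iff.2 (ct h c (hR hr)), mem_centralizer_singleton_iff.2
        ((c.comm_iff (hR hr) h.zD.1).2 (h.xs.z_comm r hr.1))⟩
  refine ⟨P, hP.of_le_of_isSyl inf_le_left h2 (le_inf h2.le ?_), hP.le.trans inf_le_right,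
    fun q a b => h3 ((c.mem_img hR).2 ⟨q, ⟨a, mem_centralizer_singleton_iff.2 b⟩, rfl⟩)⟩
  rintro _ ⟨x, hx, rfl⟩
  exact mem_centralizer_singleton_iff.2 (by simpa using h1 x hx)

/-- Some other conjugate of `t` lies in the image of `M`. -/
theorem exists_inner {g : G} (h1 : g * j t * g⁻¹ ≠ j t)
    (h2 : g * j t * g⁻¹ * j t = j t * (g * j t * g⁻¹)) :
    ∃ l ∈ M, l ≠ t ∧ IsConj (j t) (j l) := by
  have tt := (c.sq_iff h.tD.1).2 h.tt
  by_cases hu : g * j t * g⁻¹ ∈ c.img M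
  · obtain ⟨l, l1, l2⟩ := (c.mem_img le_rfl).1 hu
    exact ⟨l, l1, fun e => h1 (by rw [← l2, e]), isConj_iff.2 ⟨g, l2.symm⟩⟩
  obtain ⟨m, hm, h3⟩ := exists_cz h c (P := zpowers (g * j t * g⁻¹)) (isPGroup_zpowers ⟨1, by
    rw [pow_one, pow_two, conj_mul, tt]; simp⟩) fun x hx =>
      mem_centralizer_singleton_iff.1 (zpowers_le.2 (mem_centralizer_singleton_iff.2 h2) hx)
  have mK := (c.mem_img_iff hm).2 hm
  replace h3 := h3 _ (mem_zpowers _)
  have h4 : (j m)⁻¹ * (g * j t * g⁻¹) * j m * j t = j t * ((j m)⁻¹ * (g * j t * g⁻¹) * j m) :=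
    comm_mul_left (comm_mul_left (comm_inv_left (ct h c hm)) h2) (ct h c hm)
  have h5 : (j m)⁻¹ * (g * j t * g⁻¹) * j m ∉ c.img M := fun e => hu (by
    simpa [mul_assoc] using mul_mem (mul_mem mK e) (inv_mem mK))
  rw [show (j m)⁻¹ * (g * j t * g⁻¹) * j m = (j m)⁻¹ * g * j t * ((j m)⁻¹ * g)⁻¹ by group] at h3 h4 h5
  generalize (j m)⁻¹ * g = g at h3 h4 h5
  obtain ⟨u, hu⟩ : ∃ u, u = g * j t * g⁻¹ := ⟨_, rfl⟩
  have uu : u * u = 1 := by rw [hu, conj_mul, tt]; simp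
  rw [← hu] at h3 h4 h5
  obtain ⟨k, k1, k2⟩ := exRel h c (mem_NS_of_comm h4 h3)
  have kz := k1.1
  have kt : k * t = t * k := comm_of_conj_eq ((c.eq_iff (k2 t h.tD).1.1 h.tD.1).1
    ((k2 t h.tD).2.symm.trans (conj_eq_of_comm h4)))
  have vM : closure {z, t} ≤ M := (closure_le _).2 (by rintro _ (rfl | rfl); exacts [h.zD.1, h.tD.1])
  have cen : ∀ g k, k ∈ DD M z → Rel (DD M z) j g k → ∃ v ∈ closure {z, t}, j (k * v) = g :=
    fun g k a b => by
      obtain ⟨v, v1, v2⟩ := cenD h c (g := (j k)⁻¹ * g) fun x hx => comm_of_conj_eq (by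
        rw [show (j k)⁻¹ * g * j x * ((j k)⁻¹ * g)⁻¹ = (j k)⁻¹ * (g * j x * g⁻¹) * j k by group,
          (b x hx).2, c.conj a.1 hx.1]; group)
      exact ⟨v, v1, by rw [c.mul _ a.1 _ (vM v1), v2]; group⟩
  obtain ⟨e, f, k3⟩ := out4 h.d h.tQ kz kt (fun a => by
    obtain ⟨v, v1, v2⟩ := cen u k (h.R_le a kt) k2
    have := mul_mem (RM h a kt) (vM v1)
    exact h5 (v2 ▸ (c.mem_img_iff this).2 this)) (by
    have a : k * k ∈ M := (em (k ∈ M)).elim (fun a => mul_mem a a) fun a => h.idxD kt kz kt kz a a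
    obtain ⟨v, v1, v2⟩ := cen _ _ (mem_DD.2 ⟨a, comm_mul_left kz kz⟩) (k2.mul k2)
    rw [uu, c.eq_one_iff (mul_mem a (vM v1))] at v2
    exact eq_inv_of_mul_eq_one_left v2 ▸ inv_mem v1)
  have k4 : ∀ x, x = e ∨ x = f ∨ x = e * f → x ∈ M ∧ g⁻¹ * j x * g * j t = j t * (g⁻¹ * j x * g) ∧
      (g⁻¹ * j x * g ∈ c.img M → ∃ l ∈ M, l ≠ t ∧ IsConj (j t) (j l)) := fun x hx => by
    obtain ⟨x1, x2, r, r1, r2, r3⟩ := k3 x hx
    have rD := h.R_le r1 r2
    have xD : x ∈ DD M z := by simpa [← r3, mul_assoc] using mul_mem rD (k2 _ (inv_mem rD)).1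
    have x3 : u * j x * u⁻¹ = j x := by rw [(k2 x xD).2, conj_eq_of_comm x2]
    have x4 : j x * u = j r * u * (j r)⁻¹ := by
      rw [← r3, show r * k * r⁻¹ * k⁻¹ = r * (k * r⁻¹ * k⁻¹) by group,
        c.mul _ rD.1 _ (k2 _ (inv_mem rD)).1.1, ← (k2 _ (inv_mem rD)).2, c.inv rD.1]; group
    refine ⟨xD.1, ?_, fun a => ?_⟩
    · calc _ = g⁻¹ * (j x * u) * g := by rw [hu]; group
        _ = _ := by rw [← comm_of_conj_eq x3, hu]; group
    · obtain ⟨l, l1, l2⟩ := (c.mem_img le_rfl).1 a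
      refine ⟨l * t, mul_mem l1 h.tD.1, fun e1 => x1 (c.inj x xD.1 ?_), isConj_iff.2
        ⟨g⁻¹ * j r * g, ?_⟩⟩
      · rw [mul_eq_right.1 e1, c.one] at l2
        simpa [mul_assoc, inv_mul_eq_one, eq_comm (a := g)] using l2.symm
      · rw [c.mul _ l1 _ h.tD.1, l2]
        calc _ = g⁻¹ * (j r * u * (j r)⁻¹) * g := by rw [hu]; group
          _ = _ := by rw [← x4, hu]; group
  obtain ⟨a1, a2, a3⟩ := k4 e (.inl rfl)
  obtain ⟨b1, b2, b3⟩ := k4 f (.inr (.inl rfl))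
  by_contra hc
  refine hc ((k4 _ (.inr (.inr rfl))).2.2 ?_)
  simpa [c.mul _ a1 _ b1, mul_assoc] using idx h c a2 b2 (mt a3 hc) (mt b3 hc)

/-- Without fusion in `N(V0)`: a Sylow subgroup of `G` centralising `V0`, and Burnside. -/
theorem exists_top (hn : ¬ ∃ n : G, n * j z = j z * n ∧ n * j t * n⁻¹ = j t * j z) :
    ∃ P : Subgroup G, IsSyl 2 P ⊤ ∧ P ≤ centralizer {j t} ∧ P ≤ centralizer {j z} ∧
      ∀ x ∈ closure {j z, j t}, ∀ y ∈ closure {j z, j t}, IsConj x y → x = y := by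
  obtain ⟨P, hP, h3, h4⟩ := exists_syl h c
  have zz := (c.sq_iff h.zD.1).2 h.xs.z_sq
  have v1 : closure {j z, j t} ≤ 𝐂[P] := (closure_le _).2 (by
    rintro _ (rfl | rfl) y hy
    exacts [mem_centralizer_singleton_iff.1 (h3 hy), mem_centralizer_singleton_iff.1 (hP.le hy)])
  have v2 : 𝐂[P] ≤ closure {j z, j t} := fun x hx => by
    obtain ⟨v, a, rfl⟩ := cen2 h c (g := x) (one_mem _) (by simp) fun q a b _ => (hx _ (h4 q a b)).symm
    have hz : j z ∈ closure {j z, j t} := subset_closure (by simp)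
    have ht : j t ∈ closure {j z, j t} := subset_closure (by simp)
    rcases cl3 h.xs h.tQ (one_mem _) h.tt (one_mul 1) a with e | e | e | e <;>
      rcases e with rfl | rfl <;> simp [c.one, c.mul _ h.tD.1 _ h.zD.1, hz, ht, mul_mem, one_mem]
  have hN : 𝐍[P] ≤ 𝐂[closure {j z, j t}] := fun n a => by
    obtain ⟨n1, n2⟩ := (mem_NS zz).1 (fixz h c (le_antisymm v2 v1 ▸
      normalizer_le_normalizer_centralizer P a))
    rw [centralizer_closure]
    rintro _ (rfl | rfl)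
    exacts [n1.symm, (comm_of_conj_eq (n2.resolve_right fun e => hn ⟨n, n1, e⟩)).symm]
  have h5 : IsSyl 2 P ⊤ := isSyl_of_isSyl_normalizer (hP.mono (le_inf le_top le_normalizer)
    fun n a => mem_centralizer_singleton_iff.2 (hN a.2 _ (subset_closure (by simp))).symm)
  refine ⟨P, h5, hP.le, h3, fun x hx y hy e => ?_⟩
  obtain ⟨S, rfl⟩ := h5.exists_sylow_top
  obtain ⟨k, rfl⟩ := isConj_iff.1 e
  obtain ⟨n, a, b⟩ := S.conj_eq_normalizer_conj_of_mem_centralizer x k⁻¹ (v1 hx)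
    (by simpa using v1 hy)
  rw [inv_inv] at b
  rw [b, mul_assoc, hN a x hx]; simp

end Fu

open Fu

variable (h : BM z t Q M γ φ) (c : Cht t M j)
include h c

theorem fusion {g : G} (h1 : g * j t * g⁻¹ ≠ j t)
    (h2 : g * j t * g⁻¹ * j t = j t * (g * j t * g⁻¹)) :
    ∃ n : G, n * j z = j z * n ∧ n * j t * n⁻¹ = j t * j z := by
  by_contra hn
  have q := h.xs
  have zM := h.zD.1
  have tM := h.tD.1
  have tt := (c.sq_iff tM).2 h.tt
  have zz := (c.sq_iff zM).2 q.z_sq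
  have tz := ct h c zM
  have t1 : j t ≠ 1 := fun e => h.t_ne (c.inj _ tM e)
  have z1 : j z ≠ 1 := fun e => q.z_ne (c.inj _ zM e)
  have t2 : j t ≠ j z := fun e => h.t_ne_z ((c.eq_iff tM zM).1 e)
  obtain ⟨T, hT, T1, T2, bur⟩ := exists_top h c hn
  have hz : j z ∈ closure {j z, j t} := subset_closure (by simp)
  have ht : j t ∈ closure {j z, j t} := subset_closure (by simp)
  have n1 : ¬ IsConj (j t) (j z) := fun e => t2 (bur _ ht _ hz e)
  have n2 : ¬ IsConj (j t) (j t * j z) := fun e => z1 (by simpa using bur _ ht _ (mul_mem ht hz) e)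
  have n3 : ¬ IsConj (j z) (j t * j z) := fun e => t1 (by simpa using bur _ hz _ (mul_mem ht hz) e)
  have cj : ∀ {m l}, m ∈ M → l ∈ M → IsConj (j l) (j (m * l * m⁻¹)) := fun a b =>
    c.isConj b (mul_mem (mul_mem a b) (inv_mem a)) a rfl
  have sq : ∀ {l x}, l ∈ M → x * x = 1 → IsConj x (j l) → l * l = 1 := fun {l x} a b e => by
    obtain ⟨g, e⟩ := isConj_iff.1 e
    rw [← c.sq_iff a, ← e, conj_mul, b]; simp
  have mz : ∀ l ∈ Q, l ∈ M → ¬ Eqv z l 1 → ¬ Eqv z l t →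
      ∃ r ∈ M, r * l * r⁻¹ = l * z := fun l a b e1 e2 => by
    by_contra! hh
    rcases q.eq_of_comm_centralizer h.tQ a fun r r1 r2 => by_contra fun e =>
      hh r (RM h r1 r2) (q.conj_of_ne r1 a e) with e | e | e | e
    exacts [e1 (.inl e), e1 (.inr (by simpa using e)), e2 (.inl e), e2 (.inr e)]
  have B0 : ∀ y ∈ Q, Q ⊓ centralizer {t} ⊓ centralizer {y} ≤ M := fun y _ x hx =>
    RM h hx.1.1 (mem_centralizer_singleton_iff.1 hx.1.2)
  -- an element `y` of `R` with `y ~ z`, `t y ~ t`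
  obtain ⟨y, yQ, yM, y1, y2⟩ : ∃ y ∈ Q, y ∈ M ∧ IsConj (j z) (j y) ∧ IsConj (j t) (j t * j y) := by
    obtain ⟨l, lQ, lM, l1, l2⟩ : ∃ l ∈ Q, l ∈ M ∧ l ≠ t ∧ IsConj (j t) (j l) := by
      obtain ⟨l, l1, l2, l3⟩ := exists_inner h c h1 h2
      obtain ⟨m, m1, m2⟩ := h.clsA l l1 (sq l1 tt l3)
      exact ⟨_, m2, mul_mem (mul_mem m1 l1) (inv_mem m1), fun e => l2 (by
        rw [← conj_eq_of_comm (comm_inv_left (h.le m m1)), ← e]; group), l3.trans (cj m1 l1)⟩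
    obtain ⟨r, r1, r2⟩ := mz l lQ lM (by
      rintro (rfl | rfl)
      exacts [t1 (by simpa [c.one] using l2), n1 (by simpa using l2)]) (by
      rintro (rfl | rfl)
      exacts [l1 rfl, n2 (c.mul _ tM _ zM ▸ l2)])
    have l3 := l2.trans (cj r1 lM)
    rw [r2, c.mul _ lM _ zM] at l3
    obtain ⟨g, hg⟩ := isConj_iff.1 l2
    obtain ⟨a, a1, b, b1, ab⟩ := exists_comm h.d (S := Q ⊓ centralizer {t} ⊓ centralizer {l})
      (inf_le_left.trans inf_le_left) (by have := card_B0 h lQ; omega)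
    have key : ∀ a ∈ Q ⊓ centralizer {t} ⊓ centralizer {l},
        g⁻¹ * j a * g * j t = j t * (g⁻¹ * j a * g) := fun a a1 => by
      have := (c.comm_iff (B0 l lQ a1) lM).2 (mem_centralizer_singleton_iff.1 a1.2)
      calc _ = g⁻¹ * (j a * (g * j t * g⁻¹)) * g := by group
        _ = _ := by rw [hg, this, ← hg]; group
    obtain ⟨y, y1, y2⟩ := cK h c (key a a1) (key b b1)
    have aM := B0 l lQ a1
    have bM := B0 l lQ b1
    have y3 : j y = g⁻¹ * j z * g := by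
      rw [y2, ← ab, c.mul _ (mul_mem (mul_mem aM bM) (inv_mem aM)) _ (inv_mem bM), c.conj aM bM,
        c.inv bM]; group
    have y4 : IsConj (j z) (j y) := isConj_iff.2 ⟨g⁻¹, by rw [y3, inv_inv]⟩
    obtain ⟨m, m1, m2⟩ := h.clsA y y1 (sq y1 zz y4)
    refine ⟨_, m2, mul_mem (mul_mem m1 y1) (inv_mem m1), y4.trans (cj m1 y1),
      l3.trans (isConj_iff.2 ⟨j m * g⁻¹, ?_⟩)⟩
    rw [c.conj m1 y1, y3, ← hg, ← conj_eq_of_comm (ct h c m1)]
    nth_rw 1 [conj_eq_of_comm (ct h c m1)]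
    group
  have yy := sq yM zz y1
  have yt := h.le y yM
  have yz := (c.comm_iff yM zM).2 (q.z_comm y yQ)
  have y0 : y ≠ z := by rintro rfl; exact n2 y2
  obtain ⟨r, r1, r2⟩ := mz y yQ yM (by
    rintro (rfl | e)
    exacts [z1 (by simpa [c.one] using y1), y0 (by simpa using e)]) (by
    rintro (rfl | rfl)
    exacts [n1 y1.symm, n3 (c.mul _ tM _ zM ▸ y1)])
  have y3 : IsConj (j z) (j y * j z) := c.mul _ yM _ zM ▸ r2 ▸ y1.trans (cj r1 yM)
  have y4 : IsConj (j t) (j t * j y * j z) := y2.trans (isConj_iff.2 ⟨j r, by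
    rw [← conj_mul, conj_eq_of_comm (ct h c r1), ← c.conj r1 yM, r2, c.mul _ yM _ zM, mul_assoc]⟩)
  have Z0 : ∀ x : G, (∀ a ∈ Q ⊓ centralizer {t} ⊓ centralizer {y}, x * j a = j a * x) →
      (IsConj (j t * j z) x → x = j t * j z) ∧ (IsConj (j z) x → x = j z ∨ Eqv (j z) x (j y)) :=
    fun x hx => by
      obtain ⟨v, a, rfl⟩ := cen2 h c yQ yt fun a a1 a2 a3 => hx a ⟨⟨a1,
        mem_centralizer_singleton_iff.2 a2⟩, mem_centralizer_singleton_iff.2 a3⟩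
      have n4 : j t * j z ≠ 1 := fun e => t2 (by
        rw [mul_eq_one_iff_eq_inv, inv_eq_of_mul_self zz] at e; exact e)
      rcases cl3 q h.tQ yQ h.tt yy a with e | e | e | e <;> rcases e with e | e <;> rw [e] <;>
        try simp only [one_mul, c.one, c.mul _ tM _ zM, c.mul _ yM _ zM, c.mul _ tM _ yM,
          c.mul _ (mul_mem tM yM) _ zM]
      · exact ⟨fun e => absurd (isConj_one_left.1 e) n4, fun e => absurd (isConj_one_left.1 e) z1⟩
      · exact ⟨fun e => absurd e.symm n3, fun _ => .inl trivial⟩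
      · exact ⟨fun e => absurd e.symm n2, fun e => absurd e.symm n1⟩
      · exact ⟨fun _ => trivial, fun e => absurd e n3⟩
      · exact ⟨fun e => absurd (y1.trans e.symm) n3, fun _ => .inr (.inl rfl)⟩
      · exact ⟨fun e => absurd (y3.trans e.symm) n3, fun _ => .inr (.inr rfl)⟩
      · exact ⟨fun e => absurd (y2.trans e.symm) n2, fun e => absurd (y2.trans e.symm) n1⟩
      · exact ⟨fun e => absurd (y4.trans e.symm) n2, fun e => absurd (y4.trans e.symm) n1⟩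
  obtain ⟨S, hS⟩ : ∃ S, S = Q ⊓ centralizer {t} ⊓ centralizer {y} := ⟨_, rfl⟩
  have SM := B0 y yQ
  have Sc := card_B0 h yQ
  rw [← hS] at Z0 SM Sc
  have mS : ∀ {a}, a ∈ S ↔ a ∈ Q ∧ a * t = t * a ∧ a * y = y * a := by
    simp [hS, mem_centralizer_singleton_iff, and_assoc]
  have SQ : S ≤ Q := fun a ha => (mS.1 ha).1
  -- `k` maps `y` to `z` and `S` into `T`
  obtain ⟨k, k1, k2⟩ : ∃ k : G, k * j y * k⁻¹ = j z ∧ ∀ a ∈ S, k * j a * k⁻¹ ∈ T := by
    obtain ⟨k, hk⟩ := isConj_iff.1 y1.symm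
    obtain ⟨x, x1, x2⟩ := (hT.mono T2 le_top).exists_cj_le (R := cj(k, c.img S))
      (isPGroup_cj k (c.isPGroup_img (q.isPGroup.to_le SQ))) (by
      rintro _ ⟨_, a0, rfl⟩
      obtain ⟨a, a1, rfl⟩ := (c.mem_img SM).1 a0
      refine mem_centralizer_singleton_iff.2 ?_
      change k * j a * k⁻¹ * _ = _ * (k * j a * k⁻¹)
      rw [← hk, conj_mul, conj_mul, (c.comm_iff (SM a1) yM).2 (mS.1 a1).2.2])
    refine ⟨x * k, ?_, fun a ha => ?_⟩
    · rw [← conj_eq_of_comm (mem_centralizer_singleton_iff.1 x1), ← hk]; group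
    · simpa [mul_assoc] using x2 (conj_mem_cj x (conj_mem_cj k ((c.mem_img_iff (SM ha)).2 ha)))
  have kt : ∀ a ∈ S, k * j a * k⁻¹ * j t = j t * (k * j a * k⁻¹) := fun a ha =>
    mem_centralizer_singleton_iff.1 (T1 (k2 a ha))
  have kz : ∀ a ∈ S, k * j a * k⁻¹ * j z = j z * (k * j a * k⁻¹) := fun a ha =>
    mem_centralizer_singleton_iff.1 (T2 (k2 a ha))
  have pb : ∀ x a : G, k * a * k⁻¹ * x = x * (k * a * k⁻¹) → k⁻¹ * x * k * a = a * (k⁻¹ * x * k) :=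
    fun x a e => by
      calc _ = k⁻¹ * (x * (k * a * k⁻¹)) * k := by group
        _ = _ := by rw [← e]; group
  have k3 : k * (j t * j z) * k⁻¹ = j t * j z := by
    have := (Z0 _ fun a ha => pb (j t * j z) _ (comm_mul_left (kt a ha).symm (kz a ha).symm).symm).1
      (isConj_iff.2 ⟨k⁻¹, by rw [inv_inv]⟩)
    conv_lhs => rw [← this]
    group
  have tS : t ∈ S := mS.2 ⟨h.tQ, rfl, yt.symm⟩
  have k4 : IsConj (j t) (j t * (k * j z * k⁻¹)) := y2.trans (isConj_iff.2 ⟨k, by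
    have e : k * j z * k⁻¹ = k * j t * k⁻¹ * (j t * j z) := by
      rw [← k3, conj_mul, ← mul_assoc (j t), tt, one_mul]
    rw [e, ← mul_assoc (j t), ← kt t tS, mul_assoc _ (j t), ← mul_assoc (j t), tt, one_mul,
      ← conj_mul, k1]⟩)
  -- a pair `w, w z` fixed by `T`
  obtain ⟨_, ⟨w, ⟨w1, w2, w3⟩, rfl⟩, w4⟩ := fix_pair hT.pgrp (k := 891)
    (A := j '' {w | w ∈ Rts M z ∧ w ∈ Q ∧ w ≠ z}) (by
      rw [Set.InjOn.ncard_image fun a ha b hb => (c.eq_iff (rM h ha.1) (rM h hb.1)).1, h.ncard_coll])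
    (by decide) (by
      rintro x hx _ ⟨w, ⟨w1, w2, w3⟩, rfl⟩
      obtain ⟨l, l1, l2⟩ := exRel h c (mem_NS_of_comm (mem_centralizer_singleton_iff.1 (T1 hx))
        (mem_centralizer_singleton_iff.1 (T2 hx)))
      refine ⟨_, ⟨h.conj_coll l1 w1 w2, h.d.lx.norm l l1.1 w w2, fun e => w3 ?_⟩,
        (l2 w (mem_DD.2 ⟨rM h w1, q.z_comm w w2⟩)).2.symm⟩
      rw [← conj_eq_of_comm (comm_inv_left l1.1), ← e]; group) z1 zz (by
      rintro _ ⟨w, ⟨w1, w2, w3⟩, rfl⟩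
      refine ⟨_, ⟨h.mulz w1 w2 w3, mul_mem w2 q.z_mem, fun e => ?_⟩, c.mul _ (rM h w1) _ zM⟩
      obtain ⟨m, -, rfl⟩ := w1
      exact q.z_ne (by simpa using e)) fun x hx => mem_centralizer_singleton_iff.1 (T2 hx)
  have wM := rM h w1
  have wz := (c.comm_iff wM zM).2 (q.z_comm w w2)
  have w5 : IsConj (j z) (j w) := by obtain ⟨m, m1, rfl⟩ := w1; exact cj m1 zM
  have cf : ∀ a ∈ S, ∀ b ∈ S, k * j (a * b) * k⁻¹ = k * j a * k⁻¹ * (k * j b * k⁻¹) :=
    fun a ha b hb => by rw [c.mul _ (SM ha) _ (SM hb), conj_mul]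
  obtain ⟨S', S1, S2, S3⟩ := half (z := z) (f := fun a => k * j a * k⁻¹) zz cf kz fun a ha => w4 _ (k2 a ha)
  have S4 : Nat.card Q ≤ 16 * Nat.card S' := by omega
  have w6 : k⁻¹ * j w * k * j z = j z * (k⁻¹ * j w * k) := by
    obtain ⟨a, a1, b, b1, ab⟩ := exists_comm h.d (S1.trans SQ) S4
    have aM := SM (S1 a1)
    have bM := SM (S1 b1)
    have a2 := (pb _ _ (S3 a a1)).symm
    have b2 := (pb _ _ (S3 b b1)).symm
    rw [← ab, c.mul _ (mul_mem (mul_mem aM bM) (inv_mem aM)) _ (inv_mem bM), c.conj aM bM, c.inv bM]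
    exact (comm_mul_left (comm_mul_left (comm_mul_left a2 b2) (comm_inv_left a2))
      (comm_inv_left b2)).symm
  have w7 : k⁻¹ * j w * k * j t = j t * (k⁻¹ * j w * k) := by
    have := pb (j w) (j t * j z) (by rw [k3]; exact comm_mul_left (ct h c wM).symm wz.symm)
    rwa [← mul_assoc, mul_assoc (j t), ← w6, ← mul_assoc, mul_left_inj] at this
  obtain ⟨s, s1, s2, s3⟩ := memR h c (by
      rw [show k⁻¹ * j w * k * (k⁻¹ * j w * k) = k⁻¹ * (j w * j w) * k by group,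
        (c.sq_iff wM).2 (sq wM zz w5)]; simp) w7 w6
    (fun a ha => ⟨SQ (S1 ha), mem_centralizer_singleton_iff.2 (mS.1 (S1 ha)).2.1⟩) S4
    fun a ha => pb _ _ (S3 a ha)
  have sM := RM h s1 s2
  have s4 : k * j s * k⁻¹ = j w := by rw [s3]; group
  have key : ∀ w' ∈ Rts M z, j w' ≠ k * j z * k⁻¹ := by
    rintro _ ⟨m, m1, rfl⟩ e
    refine n2 (k4.trans (isConj_iff.2 ⟨(j m)⁻¹, ?_⟩))
    rw [← e, c.conj m1 zM, ← conj_eq_of_comm (ct h c m1)]
    nth_rw 2 [conj_eq_of_comm (ct h c m1)]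
    group
  have s5 : ∀ a ∈ S, j s * j a = j a * j s := fun a ha => by_contra fun e => by
    have e1 := q.conj_of_ne (SQ ha) s1 fun e1 => e ((c.comm_iff sM (SM ha)).2 e1.symm)
    have e2 : k * j a * k⁻¹ * j w * (k * j a * k⁻¹)⁻¹ = j w * (k * j z * k⁻¹) := by
      rw [← s4, conj_mul (a := j s), ← c.mul _ sM _ zM, ← e1, c.conj (SM ha) sM]; group
    rcases w4 _ (k2 a ha) with e3 | e3 <;> rw [e2] at e3
    · exact z1 (by simpa using e3)
    · exact key z (self_mem_Rts M z) (mul_left_cancel e3).symm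
  rcases (Z0 (j s) s5).2 (w5.trans (isConj_iff.2 ⟨k⁻¹, by rw [inv_inv, s3]⟩)) with e | e | e
  · exact key w w1 (by rw [← s4, e])
  · exact w3 ((c.eq_iff wM zM).1 (by rw [← s4, e, k1]))
  · refine key _ (h.mulz w1 w2 w3) ?_
    rw [c.mul _ wM _ zM, ← s4, e, ← conj_mul, k1, ← kz z (mS.2 ⟨q.z_mem, h.le z zM,
      (q.z_comm y yQ).symm⟩), mul_assoc, zz, mul_one]

theorem not_isConj {n : G} (h1 : n * j z = j z * n) (h2 : n * j t * n⁻¹ = j t * j z) :
    ¬ IsConj (j t) (j z) := by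
  intro e
  obtain ⟨g, hg⟩ := isConj_iff.1 e
  have zz := (c.sq_iff h.zD.1).2 h.xs.z_sq
  have z1 : j z ≠ 1 := fun e => h.xs.z_ne (c.inj _ h.zD.1 e)
  obtain ⟨P, hP, h3, -⟩ := exists_syl h c
  have h4 := hP.cj g
  rw [← centralizer_singleton_conj, hg] at h4
  have h6 : P ≤ centralizer {j t} ⊓ NS (j z) (j t) := fun x hx => ⟨hP.le hx,
    mem_NS_of_comm (mem_centralizer_singleton_iff.1 (hP.le hx)) (mem_centralizer_singleton_iff.1 (h3 hx))⟩
  have h5 := ((h4.of_card_ge hP.pgrp h3 (card_cj _ _).le).mono (K := NS (j z) (j t))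
    (h6.trans inf_le_right) fun x hx => mem_centralizer_singleton_iff.2 hx.1).sup_eq_of_pRes_le
    (N := centralizer {j t} ⊓ NS (j z) (j t)) (pRes_le_of_pow fun b hb => ⟨1, ?_, pow_mem hb _⟩)
    inf_le_right
  · rw [sup_eq_left.2 h6] at h5
    have := mem_centralizer_singleton_iff.1 (h5.ge ((mem_NS zz).2 ⟨h1, .inr h2⟩)).1
    exact z1 (by simpa [conj_eq_of_comm this] using h2)
  · obtain ⟨b1, b2⟩ := (mem_NS zz).1 hb
    refine mem_centralizer_singleton_iff.2 (comm_of_conj_eq ?_)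
    rw [pow_one, pow_two, show b * b * j t * (b * b)⁻¹ = b * (b * j t * b⁻¹) * b⁻¹ by group]
    rcases b2 with e | e
    · rw [e, e]
    · rw [e, ← conj_mul, e, conj_eq_of_comm b1, mul_assoc, zz, mul_one]

end Cfsg.Agent.Std2E
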