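import Cfsg.Agent.Mult.E62Low
import Cfsg.Agent.S1104

/-! Every non-split double cover of `²E₆(2)` is `C(a,b) / ⟨a⟩` in the Monster. -/

set_option autoImplicit false

namespace Cfsg.Agent.Std2E

open Cfsg Cfsg.Spor Cfsg.Agent.Spor Cfsg.Agent.Spor.Leech Cfsg.Agent.Mon Subgroup

theorem onto_of_stem {K H H' : Type*} [Group K] [Group H] [Group H'] [Finite H] [Finite H']
    {σ : H →* K} {τ : H' →* K} (hσ : IsStemExtension σ) (hτ : IsStemExtension τ) (hK : commutator K = ⊤)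
    (h1 : ∀ n, n ∣ Mult.mcard K → n ∣ Nat.card σ.ker * Nat.card τ.ker → n ≤ Nat.card σ.ker) :
    ∃ p : H →* H', Function.Surjective p ∧ ∀ x, τ (p x) = σ x := by
  have : Finite K := Finite.of_surjective σ hσ.1
  let P : Subgroup (H × H') := (σ.comp (MonoidHom.fst H H')).eqLocus (τ.comp (MonoidHom.snd H H'))
  have hP : ∀ x : H × H', x ∈ P ↔ σ x.1 = τ x.2 := fun x => Iff.rfl
  let p1 : P →* H := (MonoidHom.fst H H').comp P.subtype
  let p2 : P →* H' := (MonoidHom.snd H H').comp P.subtype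
  have s1 : Function.Surjective p1 := fun x => by
    obtain ⟨y, hy⟩ := hτ.1 (σ x)
    exact ⟨⟨(x, y), (hP _).2 hy.symm⟩, rfl⟩
  have s2 : Function.Surjective p2 := fun y => by
    obtain ⟨x, hx⟩ := hσ.1 (τ y)
    exact ⟨⟨(x, y), (hP _).2 hx⟩, rfl⟩
  let ρ : P →* K := σ.comp p1
  have k1 : ∀ x ∈ ρ.ker, x.1 ∈ σ.ker.prod τ.ker := fun x hx => ⟨hx, ((hP _).1 x.2).symm.trans hx⟩
  have hc : ρ.ker ≤ center P := fun x hx => mem_center_iff.2 fun y => Subtype.ext (Prod.ext
    (mem_center_iff.1 (hσ.2.1 (k1 x hx).1) y.1.1) (mem_center_iff.1 (hτ.2.1 (k1 x hx).2) y.1.2))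
  let D := commutator P
  have hd := h1 _ (Mult.card_ker_inf_commutator_dvd (σ := ρ) (hσ.1.comp s1) hc) (by
    rw [← Nat.card_prod, ← Nat.card_congr (prodEquiv _ _).toEquiv, ← card_map_of_injective P.subtype_injective]
    exact card_dvd_of_le (by rintro _ ⟨x, hx, rfl⟩; exact k1 x hx.1))
  have t1 : Function.Surjective (p1.comp D.subtype) := by
    rw [← MonoidHom.range_eq_top, MonoidHom.range_comp, range_subtype, map_commutator_eq,
      MonoidHom.range_eq_top.2 s1]
    exact Std2B.perf_of_stem hσ hK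
  have t2 : Function.Surjective (p2.comp D.subtype) := by
    rw [← MonoidHom.range_eq_top, MonoidHom.range_comp, range_subtype, map_commutator_eq,
      MonoidHom.range_eq_top.2 s2]
    exact Std2B.perf_of_stem hτ hK
  have hD : Nat.card D = Nat.card ↥(ρ.ker ⊓ D) * Nat.card K := by
    rw [Mult.Cov.card_eq_card_ker_mul (σ := ρ.comp D.subtype) (hσ.1.comp t1)]
    congr 1
    rw [← MonoidHom.comap_ker, ← subgroupOf, ← inf_subgroupOf_right]
    exact Nat.card_congr (subgroupOfEquivOfLe inf_le_right).toEquiv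
  have b1 : Function.Bijective (p1.comp D.subtype) :=
    (Nat.bijective_iff_surjective_and_card _).2 ⟨t1, le_antisymm (by
      rw [hD, Mult.Cov.card_eq_card_ker_mul hσ.1]
      exact Nat.mul_le_mul_right _ hd) (Nat.card_le_card_of_surjective _ t1)⟩
  refine ⟨(p2.comp D.subtype).comp (MulEquiv.ofBijective _ b1).symm.toMonoidHom,
    t2.comp (MulEquiv.ofBijective _ b1).symm.surjective, fun x => ?_⟩
  obtain ⟨y, rfl⟩ := (MulEquiv.ofBijective _ b1).surjective x
  rw [MonoidHom.comp_apply, MulEquiv.coe_toMonoidHom, MulEquiv.symm_apply_apply]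
  exact ((hP _).1 y.1.2).symm

theorem exists_onto {G : Type} [Group G] [Finite G] {z : G} {Q : Subgroup G}
    {π : centralizer ({z} : Set G) →* Co1} {ψ : leechLattice → G} (h : If0 z Q π ψ)
    {L : Type*} [Group L] [Finite L] (K : Type) [Field K] [Fintype K] (hK : Fintype.card K = 4)
    (hL : IsNonsplitDoubleCover L (Lie.twistedE6 K 2)) :
    ∃ p : centralizer ({ψ leechU, ψ x16} : Set G) →* L, Function.Surjective p ∧
      ∀ x, p x = 1 ↔ (x : G) = 1 ∨ (x : G) = ψ leechU := by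
  have ha := MonU.E6.A_a h (.inl rfl)
  have hb := MonU.E6.D_b h (.inl rfl) (.inl rfl)
  have hX := S1104.result (K := K) (q := 2) Nat.prime_two.isPrimePow hK
  obtain ⟨m, hm, k1⟩ := Mult.E62.exists_stem h K hK
  obtain ⟨τ, hτ, k2⟩ := Mult.YL.stem_of_nonsplit hL hX
  have c1 : Nat.card m.ker = 4 := by
    rw [← (MonU.E6.klein h ha hb).card_four, ← Nat.card_congr (subgroupOfEquivOfLe (MonU.E6.E_le h ha hb)).toEquiv,
      show m.ker = (closure {ψ leechU, ψ x16}).subgroupOf _ from Subgroup.ext k1]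
  have c2 : Nat.card τ.ker = 2 := k2 ▸ hL.1
  obtain ⟨p, p1, p2⟩ := onto_of_stem hm hτ hX fun n a b => by
    rw [Mult.mcard_eq (Mult.E62.multiplier hK)] at a
    rw [c1, c2] at b
    exact c1 ▸ Nat.le_of_dvd (by norm_num) (by simpa using Nat.dvd_gcd a b)
  have c3 : Nat.card p.ker = 2 := by
    have a1 := Mult.Cov.card_eq_card_ker_mul p1
    rw [Mult.Cov.card_eq_card_ker_mul hm.1, Mult.Cov.card_eq_card_ker_mul hτ.1, c1, c2, ← mul_assoc] at a1
    have : Finite (Lie.twistedE6 K 2) := Finite.of_surjective τ hτ.1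
    have := Nat.eq_of_mul_eq_mul_right Nat.card_pos a1
    omega
  obtain ⟨e, e1, e2⟩ := (Nat.card_eq_two_iff' (1 : p.ker)).1 c3
  have le : closure {ψ leechU, ψ x16} ≤ Q := (closure_le _).2 (by rintro _ (rfl | rfl) <;> exact h.mon.mem _)
  have eE : (e.1 : G) ∈ closure {ψ leechU, ψ x16} := (k1 _).1 (by rw [← p2, show p e = 1 from e.2, map_one])
  have e3 : (e.1 : G) ≠ 1 := fun k => e1 (Subtype.ext (Subtype.ext k))
  have mE := fun x => MonU.E6.mem_E h ha hb (x := x)
  obtain ⟨f, fE, f1, f2⟩ : ∃ f ∈ closure {ψ leechU, ψ x16}, f ≠ 1 ∧ (e.1 : G) ≠ f := by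
    by_cases k : (e.1 : G) = ψ leechU
    · exact ⟨_, (mE _).2 (.inr (.inr (.inl rfl))), h.ne_one_A hb.1, k.trans_ne (MonU.E6.ne_ab h ha hb)⟩
    · exact ⟨_, (mE _).2 (.inr (.inl rfl)), h.ne_one_A ha, k⟩
  obtain ⟨g, g1, g2, -⟩ := h.trans_pair ha hb ((MonU.E6.E_A h ha hb eE).resolve_left e3)
    ⟨(MonU.E6.E_A h ha hb fE).resolve_left f1, (MonU.E6.E_A h ha hb (mul_mem eE fE)).resolve_left
      (Inv.Klein.mul_ne_one (MonU.E6.klein h ha hb) fE f2)⟩ (h.mon.mem _) (h.mon.mem _) (le eE) (le fE)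
  have cE : ∀ x ∈ centralizer ({ψ leechU, ψ x16} : Set G), ∀ y ∈ closure {ψ leechU, ψ x16}, y * x = x * y :=
    fun x hx => ((centralizer_closure _).ge hx :)
  have hg : g ∈ normalizer ((closure {ψ leechU, ψ x16} : Subgroup G) : Set G) := mem_normalizer_fintype fun x hx => by
    rcases (mE _).1 hx with rfl | rfl | rfl | rfl
    exacts [by simp, g1 ▸ eE, g2 ▸ fE, by rw [← conj_mul, g1, g2]; exact mul_mem eE fE]
  have hn : ∀ g ∈ normalizer ((closure {ψ leechU, ψ x16} : Subgroup G) : Set G), ∀ x ∈ centralizer ({ψ leechU, ψ x16} : Set G),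
      g * x * g⁻¹ ∈ centralizer ({ψ leechU, ψ x16} : Set G) := fun g hg x hx y hy => by
    calc _ = g * (g⁻¹ * y * g * x) * g⁻¹ := by group
      _ = _ := by rw [cE x hx _ ((mem_normalizer_iff''.1 hg y).1 (subset_closure hy))]; group
  let c : centralizer ({ψ leechU, ψ x16} : Set G) →* centralizer ({ψ leechU, ψ x16} : Set G) :=
    ((MulAut.conj g).toMonoidHom.comp (Subgroup.subtype _)).codRestrict _ fun x => hn g hg x x.2
  have hc : ∀ x, (c x : G) = g * x * g⁻¹ := fun _ => rfl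
  refine ⟨p.comp c, p1.comp fun y => ⟨⟨_, hn _ (inv_mem hg) y y.2⟩, Subtype.ext (by rw [hc]; group)⟩,
    fun x => ⟨fun k => ?_, ?_⟩⟩
  · refine or_iff_not_imp_left.2 fun x1 => ?_
    have := congrArg (fun y : p.ker => (y.1 : G)) (e2 ⟨c x, k⟩ fun s => x1 (by
      simpa [hc] using congrArg (fun y : p.ker => (y.1 : G)) s))
    simpa [hc, ← g1] using this
  · rintro (k | k)
    · rw [show x = 1 from Subtype.ext k, map_one]
    · rw [MonoidHom.comp_apply, show c x = e.1 from Subtype.ext (by rw [hc, k, g1])]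
      exact e.2

end Cfsg.Agent.Std2E
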