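import Cfsg.Agent.Std2E.Defs
import Cfsg.Agent.MonY.Irr20

/-! The module `P / 2Λ` of `U₆(2)`, where `P` is orthogonal to `u` and `x16` modulo 16. -/

set_option autoImplicit false

namespace Cfsg.Agent.Std2E

open Cfsg Cfsg.Spor Cfsg.Agent.Spor Cfsg.Agent.Spor.Leech Cfsg.Agent.LES Cfsg.Agent.Mon
  Cfsg.Agent.Mon.LC Cfsg.Agent.MonU.BL Subgroup MulAction

/-- The stabiliser of the triangle. -/
abbrev U6 : Subgroup Co0 := stabilizer Co0 leechU ⊓ stabilizer Co0 x16

/-- `⟨u, x16⟩ + 2Λ`. -/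
def TE : AddSubgroup leechLattice where
  carrier := {v | ∃ (a b : ℤ) (y : leechLattice), v = a • leechU + b • x16 + (y + y)}
  zero_mem' := ⟨0, 0, 0, by simp⟩
  add_mem' := by
    rintro _ _ ⟨a, b, y, rfl⟩ ⟨c, d, w, rfl⟩
    exact ⟨a + c, b + d, y + w, by simp only [add_smul]; abel⟩
  neg_mem' := by
    rintro _ ⟨a, b, y, rfl⟩
    exact ⟨-a, -b, -y, by simp only [neg_smul]; abel⟩

/-- The vectors orthogonal to the triangle modulo 16. -/
def PP : AddSubgroup leechLattice where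
  carrier := {v | dt v leechU % 16 = 0 ∧ dt v x16 % 16 = 0}
  zero_mem' := by decide
  add_mem' := fun {a b} ha hb => by
    simp only [Set.mem_ofPred_eq, dt_add_left] at *; omega
  neg_mem' := fun {a} ha => by
    simp only [Set.mem_ofPred_eq, dt_neg_left] at *; omega

instance (v : leechLattice) : Decidable (v ∈ PP) :=
  inferInstanceAs (Decidable (dt v leechU % 16 = 0 ∧ dt v x16 % 16 = 0))

instance (g : Co0) : Decidable (g ∈ U6) :=
  inferInstanceAs (Decidable (g • leechU = leechU ∧ g • x16 = x16))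

/-- `⟨e⟩ + 2Λ`. -/
def T1 (e : leechLattice) : AddSubgroup leechLattice where
  carrier := {v | Cg v 0 ∨ Cg v e}
  zero_mem' := .inl (Cg.refl 0)
  add_mem' := by
    rintro a b (ha | ha) (hb | hb)
    · exact .inl (by simpa using ha.add hb)
    · exact .inr (by simpa using ha.add hb)
    · exact .inr (by simpa using ha.add hb)
    · exact .inl ((ha.add hb).trans ⟨e, by simp⟩)
  neg_mem' := fun {a} ha => ha.imp (cg_neg a).trans (cg_neg a).trans

variable {e v w : leechLattice} {g : Co0}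

theorem two_mem_T1 (e v : leechLattice) : v + v ∈ T1 e := .inl ⟨v, by simp⟩

theorem self_mem_T1 (e : leechLattice) : e ∈ T1 e := .inr (Cg.refl e)

theorem two_mem_TE (v : leechLattice) : v + v ∈ TE := ⟨0, 0, v, by simp⟩

theorem u_mem_TE : leechU ∈ TE := ⟨1, 0, 0, by simp⟩

theorem x_mem_TE : x16 ∈ TE := ⟨0, 1, 0, by simp⟩

theorem mem_of_cg {K : AddSubgroup leechLattice} (h2 : ∀ v, v + v ∈ K) (h : Cg v w) (hw : w ∈ K) :
    v ∈ K := by
  obtain ⟨y, h⟩ := h
  exact sub_eq_iff_eq_add.1 h ▸ K.add_mem (h2 y) hw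

theorem T1_le {K : AddSubgroup leechLattice} (h2 : ∀ v, v + v ∈ K) (he : e ∈ K) : T1 e ≤ K :=
  fun _ h => h.elim (fun a => mem_of_cg h2 a K.zero_mem) fun a => mem_of_cg h2 a he

theorem two_mem_PP (v : leechLattice) : v + v ∈ PP := by
  have : dt v leechU % 8 = 0 := eight_dvd_dotInt v.2 leechU.2
  have : dt v x16 % 8 = 0 := eight_dvd_dotInt v.2 x16.2
  constructor <;> rw [dt_add_left] <;> omega

theorem TE_cases (h : v ∈ TE) : Cg v 0 ∨ Cg v leechU ∨ Cg v x16 ∨ Cg v (leechU - x16) := by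
  obtain ⟨a, b, y, rfl⟩ := h
  obtain ⟨a, rfl | rfl⟩ := Int.even_or_odd' a <;> obtain ⟨b, rfl | rfl⟩ := Int.even_or_odd' b
  · exact .inl ⟨a • leechU + b • x16 + y, by module⟩
  · exact .inr (.inr (.inl ⟨a • leechU + b • x16 + y, by module⟩))
  · exact .inr (.inl ⟨a • leechU + b • x16 + y, by module⟩)
  · exact .inr (.inr (.inr ⟨a • leechU + (b + 1) • x16 + y, by module⟩))

theorem TE_le_PP : TE ≤ PP := fun _ h => by
  rcases TE_cases h with a | a | a | a <;> exact mem_of_cg two_mem_PP a (by decide)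

theorem not_cg_short (hv : nm v = 32) (hw : nm w ≤ 64) (h1 : v ≠ w) (h2 : v ≠ -w) : ¬ Cg v w :=
  fun ⟨_, h⟩ => (eq_or_neg_of_congr (by change nm v < 64; omega) hw h).elim h1 h2

theorem e22_not_mem : e8 (some 22) ∉ TE := fun h => by
  rcases TE_cases h with a | a | a | a
  · exact (BO.not_cg_e8 _).1 a
  all_goals exact not_cg_short (by decide) (by decide) (by decide) (by decide) a.symm

theorem x_not_mem : x16 ∉ T1 leechU := fun h =>
  h.elim (not_cg_short (by decide) (by decide) (by decide) (by decide))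
    (not_cg_short (by decide) (by decide) (by decide) (by decide))

theorem two_TE (he : e ∈ TE) (e0 : ¬ Cg e 0) (hv : v ∈ TE) (hw : w ∈ TE) (h1 : v ∉ T1 e)
    (h2 : w ∉ T1 e) : v + w ∈ T1 e := by
  have k : ∀ {a b c : leechLattice}, Cg v a → Cg w b → Cg (a + b) c → Cg (v + w) c :=
    fun p q r => (p.add q).trans r
  have n1 := fun a => h1 (.inl a)
  have n2 := fun a => h2 (.inl a)
  have m1 : ∀ {a}, Cg v a → ¬ Cg e a := fun p q => h1 (.inr (p.trans q.symm))
  have m2 : ∀ {a}, Cg w a → ¬ Cg e a := fun p q => h2 (.inr (p.trans q.symm))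
  rcases (TE_cases hv).resolve_left n1 with a | a | a <;>
    rcases (TE_cases hw).resolve_left n2 with b | b | b <;>
    first
    | exact .inl (k a b ⟨_, sub_zero _⟩)
    | rcases (TE_cases he).resolve_left e0 with c | c | c <;>
      first
      | exact absurd c (m1 a)
      | exact absurd c (m2 b)
      | refine .inr ((k a b ?_).trans c.symm)
        first | exact ⟨x16, by module⟩ | exact ⟨leechU - x16, by module⟩ | exact ⟨0, by module⟩

theorem smul_PP (hg : g ∈ U6) (hv : v ∈ PP) : g • v ∈ PP := by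
  have h1 := dt_smul g v leechU
  have h2 := dt_smul g v x16
  rw [hg.1] at h1; rw [hg.2] at h2
  exact ⟨h1 ▸ hv.1, h2 ▸ hv.2⟩

theorem smul_cg (hg : g ∈ U6) (hv : v ∈ TE) : Cg (g • v) v := by
  obtain ⟨a, b, y, rfl⟩ := hv
  refine ⟨g • y - y, ?_⟩
  rw [smul_add, smul_add, smul_add, smul_comm g a, smul_comm g b, hg.1, hg.2]; abel

theorem smul_T1 (g : Co0) (hv : v ∈ T1 e) : g • v ∈ T1 (g • e) :=
  hv.imp (fun a => by simpa using a.smul g) fun a => a.smul g

theorem smul_T1' (hg : g ∈ U6) (he : e ∈ TE) (hv : v ∈ T1 e) : g • v ∈ T1 e :=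
  (smul_T1 g hv).imp_right fun a => a.trans (smul_cg hg he)

/-- Sign change with a mask. -/
def sm (m : ℕ) (h : isCW m = true := by decide +kernel) : Co0 := sgn _ (setOf'_mem_codeSets h)

/-- Twice a codeword with a mask. -/
def tw (m : ℕ) (h : isCW m = true := by decide +kernel) : leechLattice :=
  two_ind _ (setOf'_mem_codeSets h)

theorem trip (v : leechLattice) : v - sm 7397512 • v - sm 5210132 • (v - sm 7397512 • v) -
    sm 7221256 • (v - sm 7397512 • v - sm 5210132 • (v - sm 7397512 • v)) =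
      (v : GolayPt → ℤ) (some 22) • e8 (some 22) := by
  refine Subtype.ext (funext fun i => ?_)
  have e : i ∈ setOf' 7221256 ∧ i ∈ setOf' 5210132 ∧ i ∈ setOf' 7397512 ↔ i = some 22 := by
    revert i; decide
  simp only [sm, AddSubgroup.coe_sub, Pi.sub_apply, sgn_smul]
  change _ = (v : GolayPt → ℤ) (some 22) * Pi.single (M := fun _ => ℤ) (some 22) 8 i
  by_cases h : i = some 22
  · obtain ⟨h1, h2, h3⟩ := e.2 h
    simp only [if_pos h1, if_pos h2, if_pos h3]
    rw [h, Pi.single_eq_same]; ring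
  · rw [Pi.single_eq_of_ne h]
    split_ifs with h1 h2 h3
    · exact absurd (e.1 ⟨‹_›, ‹_›, ‹_›⟩) h
    all_goals ring

theorem vo_mem : sm 13938692 • v3 ∈ PP ∧
    ((sm 13938692 • v3 : leechLattice) : GolayPt → ℤ) (some 22) = -1 := by decide

theorem a1 : sm 7397512 ∈ U6 := by decide
theorem a2 : sm 5210132 ∈ U6 := by decide
theorem a3 : sm 7221256 ∈ U6 := by decide

/-- `P / 2Λ` has no invariant hyperplane. -/
theorem nohyp {K : AddSubgroup leechLattice} (h2 : ∀ v, v + v ∈ K)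
    (hc : ∀ g ∈ U6, ∀ v ∈ PP, v - g • v ∈ K) : PP ≤ K := by
  have s : ∀ {g v}, g ∈ U6 → v ∈ PP → v - g • v ∈ PP := fun hg hv => sub_mem hv (smul_PP hg hv)
  have hu : leechU ∈ K := by
    refine mem_of_cg h2 ⟨tw 13062145, ?_⟩ (neg_mem (add_mem (hc _ a3 (tw 5329044) (by decide))
      (hc (sm 475812) (by decide) (tw 1525008) (by decide))))
    decide
  have hx : x16 ∈ K := by
    refine mem_of_cg h2 ⟨tw 10305542, ?_⟩ (neg_mem (add_mem (hc _ a3 (tw 1852256) (by decide))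
      (hc (sm 5329044) (by decide) (tw 3227948) (by decide))))
    decide
  rcases MonY.I20.std (K ⊓ PP) (fun v => ⟨h2 v, two_mem_PP v⟩) ⟨hu, TE_le_PP u_mem_TE⟩ ⟨hx, TE_le_PP x_mem_TE⟩
    (fun v hv => hv.2) (fun g a b v hv => ⟨by simpa using K.sub_mem hv.1 (hc g ⟨a, b⟩ v hv.2),
      smul_PP ⟨a, b⟩ hv.2⟩) with h | h
  · have k := s a2 (s a1 vo_mem.1)
    have := h _ ⟨hc _ a3 _ k, s a3 k⟩
    rw [trip, vo_mem.2, neg_smul, one_smul] at this
    exact absurd (neg_mem_iff.1 (show _ ∈ TE from this)) e22_not_mem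
  · exact fun v hv => (h v hv.1 hv.2).1

/-- Equivariant isomorphisms `P / (2Λ, u) → P / (2Λ, e)`. -/
theorem mu {f : leechLattice → leechLattice} (he : e ∈ TE)
    (add : ∀ v ∈ PP, ∀ w ∈ PP, f (v + w) - (f v + f w) ∈ T1 e)
    (ker : ∀ v ∈ PP, f v ∈ T1 e ↔ v ∈ T1 leechU) (fx : f x16 ∈ TE)
    (eqv : ∀ g ∈ U6, ∀ v ∈ PP, f (g • v) - g • f v ∈ T1 e) :
    Cg leechU e ∧ ∀ v ∈ PP, f v - v ∈ T1 leechU := by
  have le : T1 e ≤ TE := T1_le two_mem_TE he
  have xP : x16 ∈ PP := by decide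
  have uP : leechU ∈ PP := by decide
  have f2 : ∀ v, f (v + v) ∈ T1 e := fun v => (ker _ (two_mem_PP v)).2 (two_mem_T1 _ v)
  have f0 : f 0 ∈ T1 e := by simpa using f2 0
  have ng : ∀ v ∈ PP, f (-v) + f v ∈ T1 e := fun v hv => by
    simpa using sub_mem f0 (add _ (neg_mem hv) _ hv)
  have sb : ∀ v ∈ PP, ∀ w ∈ PP, f (v - w) - (f v - f w) ∈ T1 e := fun v hv w hw => by
    convert add_mem (add _ hv _ (neg_mem hw)) (ng w hw) using 1
    rw [sub_eq_add_neg v w]; abel
  have dl : ∀ g ∈ U6, ∀ v ∈ PP, ∀ w, f v - w ∈ T1 e → f (v - g • v) - (w - g • w) ∈ T1 e :=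
    fun g hg v hv w hw => by
      convert sub_mem (add_mem (sub_mem (sb _ hv _ (smul_PP hg hv)) (eqv g hg v hv)) hw)
        (smul_T1' hg he hw) using 1
      rw [smul_sub]; abel
  let K : ∀ A : AddSubgroup leechLattice, T1 e ≤ A → AddSubgroup leechLattice := fun A hA =>
    { carrier := {v | v ∈ PP ∧ f v - v ∈ A}
      zero_mem' := ⟨zero_mem _, by simpa using hA f0⟩
      add_mem' := fun {a b} ha hb => ⟨add_mem ha.1 hb.1, by
        convert add_mem (hA (add a ha.1 b hb.1)) (add_mem ha.2 hb.2) using 1; abel⟩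
      neg_mem' := fun {a} ha => ⟨neg_mem ha.1, by
        convert sub_mem (hA (ng a ha.1)) ha.2 using 1; abel⟩ }
  have K2 : ∀ A hA v, v + v ∈ K A hA := fun A hA v =>
    ⟨two_mem_PP v, hA (sub_mem (f2 v) (two_mem_T1 e v))⟩
  have fu := (ker _ uP).2 (self_mem_T1 _)
  have s : ∀ {g v}, g ∈ U6 → v ∈ PP → v - g • v ∈ PP := fun hg hv => sub_mem hv (smul_PP hg hv)
  have h1 : ∀ v ∈ PP, f v - v ∈ TE := by
    rcases MonY.I20.std (K TE le) (K2 _ le) ⟨uP, sub_mem (le fu) u_mem_TE⟩ ⟨xP, sub_mem fx x_mem_TE⟩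
      (fun v hv => hv.1) (fun g a b v hv => ⟨smul_PP ⟨a, b⟩ hv.1, by
        convert add_mem (le (eqv g ⟨a, b⟩ v hv.1))
          (mem_of_cg two_mem_TE (smul_cg ⟨a, b⟩ hv.2) hv.2) using 1
        rw [smul_sub]; abel⟩) with h | h
    · have k := dl _ a3 _ (s a2 (s a1 vo_mem.1)) _ (dl _ a2 _ (s a1 vo_mem.1) _
        (dl _ a1 _ vo_mem.1 (f (sm 13938692 • v3)) (by simp)))
      rw [trip, trip, vo_mem.2, neg_smul, one_smul] at k
      have eP : -e8 (some 22) ∈ PP := by decide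
      refine absurd (neg_mem_iff.1 (?_ : _ ∈ TE)) e22_not_mem
      obtain ⟨c, hc | hc⟩ := Int.even_or_odd' ((f (sm 13938692 • v3) : GolayPt → ℤ) (some 22)) <;>
        rw [hc] at k
      · have k1 : f (-e8 (some 22)) ∈ T1 e := by
          convert add_mem k (two_mem_T1 e (c • e8 (some 22))) using 1; module
        exact T1_le two_mem_TE u_mem_TE ((ker _ eP).1 k1)
      · refine h _ ⟨eP, ?_⟩
        convert add_mem (le k) (two_mem_TE ((c + 1) • e8 (some 22))) using 1; module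
    · exact fun v hv => (h v hv.1 hv.2).2
  have h2 : PP ≤ K _ le_rfl := nohyp (K2 _ le_rfl) fun g hg v hv => ⟨s hg hv, by
    obtain ⟨y, hy⟩ := smul_cg hg (h1 v hv)
    convert sub_mem (dl g hg v hv (f v) (by simp)) (hy ▸ two_mem_T1 e y) using 1
    rw [smul_sub]; abel⟩
  have h3 : leechU ∈ T1 e := by simpa using sub_mem fu (h2 uP).2
  have h4 := h3.resolve_left (not_cg_short (by decide) (by decide) (by decide) (by decide))
  exact ⟨h4, fun v hv => ((h2 hv).2).imp_right fun a => a.trans h4.symm⟩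

end Cfsg.Agent.Std2E
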