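import Cfsg.Agent.Std2E.Defs
import Cfsg.Agent.Std2E.ParL
import Cfsg.Agent.MonY.Irr20
import Cfsg.Agent.S0283

/-! Lattice facts about `U₆(2) = Stab(u, x16)` and its orbit of `891` short vectors. -/

set_option autoImplicit false

namespace Cfsg.Agent.Std2E

open Cfsg Cfsg.Spor Cfsg.Agent.Spor Cfsg.Agent.Spor.Leech Cfsg.Agent.TT Cfsg.Agent.LES Cfsg.Agent.Mon
  Cfsg.Agent.Mon.LC Subgroup MulAction

/-- The `891` short vectors. -/
def TR (v : leechLattice) : Prop := nm v = 32 ∧ dt leechU v = 0 ∧ dt x16 v = 16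

/-- The group `U₆(2)`. -/
abbrev UU : Subgroup Co0 := stabilizer Co0 leechU ⊓ stabilizer Co0 x16

theorem TR.perp {v : leechLattice} (h : TR v) : v ∈ leechPerpU :=
  perp_iff.2 (by have := h.2.1; rw [dt] at this; rw [this]; rfl)

theorem TR.smul {v : leechLattice} (h : TR v) {g : Co0} (gu : g • leechU = leechU)
    (gx : g • x16 = x16) : TR (g • v) :=
  ⟨(nm_smul g v).trans h.1, by rw [← h.2.1, ← dt_smul g leechU v, gu],
    by rw [← h.2.2, ← dt_smul g x16 v, gx]⟩

theorem TR.smul' {v : leechLattice} (h : TR v) {g : Co0} (gu : g • leechU = leechU)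
    (gx : g • x16 = leechU - x16) : TR (-(g • v)) := by
  have a : dt leechU (g • v) = 0 := by rw [← h.2.1, ← dt_smul g leechU v, gu]
  have b := dt_smul g x16 v
  rw [gx, dt_sub_left, a, h.2.2] at b
  exact ⟨(nm_neg _).trans ((nm_smul g v).trans h.1), by rw [dt_neg_right, a]; rfl,
    by rw [dt_neg_right]; omega⟩

theorem TR.std {v : leechLattice} (h : TR v) :
    ∃ g : Co0, g • leechU = leechU ∧ g • x16 = x16 ∧ g • v = leechU' := by
  obtain ⟨k, a, b⟩ := exists_std_pair sqNorm_leechU h.1 h.2.1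
  have h1 := dt_smul k leechU x16
  have h2 := dt_smul k x16 v
  rw [a, dt, dt, dot_U_x16, dot_U] at h1
  rw [b, h.2.2, dt, dot_leechU'] at h2
  obtain ⟨j, j1, j2, j3⟩ := exists_shape ((nm_smul k x16).trans sqNorm_x16) (p := none) (by omega)
  have j4 : j ≠ some 0 := by rintro rfl; omega
  obtain ⟨σ, hσ⟩ := M24C.exists_map_tuple (k := 3) (by norm_num) ![none, some 0, j]
    ![none, some 0, some 1]
    (by intro x y; fin_cases x <;> fin_cases y <;> simp [j1, j4, j1.symm, j4.symm]) (by decide)
  have s0 : (σ : Equiv.Perm GolayPt) none = none := hσ 0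
  have s1 : (σ : Equiv.Perm GolayPt) (some 0) = some 0 := hσ 1
  have s2 : (σ : Equiv.Perm GolayPt) j = some 1 := hσ 2
  obtain ⟨a', b'⟩ := fix_U_iff.2 (show permHom σ • e8 none = e8 none ∧
    permHom σ • e8 (some 0) = e8 (some 0) from ⟨by rw [permHom_e8, s0], by rw [permHom_e8, s1]⟩)
  have hx : ∀ i, ((permHom σ • k • x16 : leechLattice) : GolayPt → ℤ) i =
      if i = none then 4 else if i = some 1 then ((k • x16 : leechLattice) : GolayPt → ℤ) j else 0 := by
    intro i
    obtain ⟨i, rfl⟩ := (σ : Equiv.Perm GolayPt).surjective i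
    have k0 : (σ : Equiv.Perm GolayPt) i = none ↔ i = none :=
      ⟨fun e => (σ : Equiv.Perm GolayPt).injective (e.trans s0.symm), fun e => e ▸ s0⟩
    have k2 : (σ : Equiv.Perm GolayPt) i = some 1 ↔ i = j :=
      s2 ▸ (σ : Equiv.Perm GolayPt).apply_eq_iff_eq
    rw [permHom_smul']
    simp only [k0, k2]
    split_ifs with e1 e2
    · rw [e1]; omega
    · rw [e2]
    · exact j3 i e1 e2
  rcases j2 with j2 | j2
  · refine ⟨permHom σ * k, by rw [mul_smul, a, a'], ?_, by rw [mul_smul, b, b']⟩
    rw [mul_smul]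
    refine Subtype.ext (funext fun i => ?_)
    rw [hx, j2]; revert i; decide
  · have hc : setOf' 4845570 ∈ GC := setOf'_mem_codeSets (by decide +kernel)
    refine ⟨sgn _ hc * (permHom σ * k), ?_, ?_, ?_⟩
    · rw [mul_smul, mul_smul, a, a', sgn_leechU hc (by decide) (by decide)]
    · rw [mul_smul, mul_smul]
      refine Subtype.ext (funext fun i => ?_)
      rw [sgn_smul, hx, j2]; revert i; decide
    · rw [mul_smul, mul_smul, b, b', sgn_leechU' hc (by decide) (by decide)]

theorem TR.trans {v w : leechLattice} (h : TR v) (h' : TR w) :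
    ∃ g : Co0, g • leechU = leechU ∧ g • x16 = x16 ∧ g • v = w :=
  trans_of_std₃ h.std h'.std

theorem ncard_TR : {v | TR v}.ncard = 891 := by
  rw [← ncard_891 (r := leechU) (s := -x16) sqNorm_leechU ((nm_neg _).trans sqNorm_x16)
    (by rw [dt_neg_right, dt, dot_U_x16])]
  refine congrArg _ (Set.ext fun v => ?_)
  simp only [Set.mem_setOf_eq, TR, dt_neg_left, neg_inj]

theorem TR.eq_of_congr {v w : leechLattice} (h : TR v) (h' : TR w)
    (e : (∃ y, v - w = y + y) ∨ ∃ y, v - w = leechU + (y + y)) : v = w := by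
  have a := h.1
  have b := h'.1
  rw [nm] at a b
  rcases e with ⟨y, e⟩ | ⟨y, e⟩
  · refine (eq_or_neg_of_congr (by omega) (by omega) e).resolve_right fun c => ?_
    have := h.2.2
    rw [c, dt_neg_right, h'.2.2] at this
    omega
  · have c : nm (w + leechU) = 64 := by
      rw [nm_add, h'.1, dt_comm, h'.2.1, nm, sqNorm_leechU]; rfl
    have a := h.1
    rcases eq_or_neg_of_congr (v := v) (w := w + leechU) (y := y) (by omega) c.le
      (by rw [← sub_sub, e]; abel) with f | f
    · rw [f] at a; omega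
    · rw [f, nm_neg] at a; omega

theorem card_UU : Nat.card UU = 9196830720 := card_stab_16 sqNorm_leechU sqNorm_x16 dot_U_x16

theorem simple_UU : IsSimpleGroup UU := by
  have := Fintype.ofFinite (GaloisField 2 2)
  have hF : Fintype.card (GaloisField 2 2) = 4 := by
    rw [Fintype.card_eq_nat_card, GaloisField.card 2 2 (by norm_num)]; rfl
  obtain ⟨e⟩ := U62Leech.iso _ hF
  have := S0283.result (q := 2) hF 6 (by norm_num) (by norm_num)
  exact e.isSimpleGroup

theorem perfect_UU : commutator UU = ⊤ := by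
  have := simple_UU
  refine (inferInstance : (commutator UU).Normal).eq_bot_or_eq_top.resolve_left fun e => ?_
  letI : CommGroup UU := { (inferInstance : Group UU) with
    mul_comm := fun a b => commutatorElement_eq_one_iff_mul_comm.1
      (mem_bot.1 (e ▸ commutator_mem_commutator (mem_top a) (mem_top b))) }
  have := IsSimpleGroup.prime_card (α := UU)
  rw [card_UU] at this
  exact absurd this (by norm_num)

theorem two_UU {N : Subgroup UU} (hn : N.Normal) (h : IsPGroup 2 N) : N = ⊥ := by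
  have := simple_UU
  have : Finite UU := Nat.finite_of_card_ne_zero (by rw [card_UU]; norm_num)
  refine hn.eq_bot_or_eq_top.resolve_right fun e => ?_
  obtain ⟨n, hn⟩ := IsPGroup.iff_card.1 h
  rw [e, card_top, card_UU] at hn
  exact absurd (Nat.prime_three.dvd_of_dvd_pow (m := 2) (n := n) (by rw [← hn]; norm_num))
    (by norm_num)

theorem oR : setOf' 12222476 ∈ GC := setOf'_mem_codeSets (by decide +kernel)

theorem sumR : ([2, 3, 15, 17, 19, 20, 21].map fun k => v44 (some 1) (some k) 4 rfl).sum =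
    x16 + ((two_ind _ oR + v44 (some 1) none (-4) rfl + e8 (some 1)) +
      (two_ind _ oR + v44 (some 1) none (-4) rfl + e8 (some 1))) :=
  Subtype.ext (by decide)

theorem x16_mem_of {W : AddSubgroup leechLattice} (h2 : ∀ y, y + y ∈ W) (h : ∀ v, TR v → v ∈ W) :
    x16 ∈ W := by
  have := W.list_sum_mem (l := [2, 3, 15, 17, 19, 20, 21].map fun k => v44 (some 1) (some k) 4 rfl)
    fun v hv => h v (by
      obtain ⟨k, hk, rfl⟩ := List.mem_map.1 hv
      simp only [TR]
      revert k; decide)
  rw [sumR] at this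
  exact (W.add_mem_cancel_right (h2 _)).1 this

theorem lineR : ∃ a b c y : leechLattice, TR a ∧ TR b ∧ TR c ∧ a + b - c = leechU + (y + y) :=
  ⟨v44 (some 1) (some 2) 4 rfl, v44 (some 1) (some 2) (-4) rfl, leechU', v44 (some 1) none (-4) rfl,
    by simp only [TR]; decide, by simp only [TR]; decide, by simp only [TR]; decide,
    Subtype.ext (by decide)⟩

theorem card_Co2' : Nat.card Co2 = 42305421312000 := by
  have e : co2Incl.range = stabilizer Co0 leechU := by
    ext g
    exact ⟨fun ⟨a, ha⟩ => ha ▸ co2Incl_u a, fun hg => exists_co2Incl hg⟩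
  rw [← card_stab_32 sqNorm_leechU, ← e]
  exact Nat.card_congr (MonoidHom.ofInjective co2Incl_injective).toEquiv

theorem top_of_index {Γ : Subgroup Co2} (h : Γ.index ≤ 5) : Γ = ⊤ := by
  have := BS.simple_Co2
  have : Finite Co2 := Nat.finite_of_card_ne_zero (by rw [card_Co2']; norm_num)
  rcases Γ.normalCore_normal.eq_bot_or_eq_top with e | e
  · exfalso
    have inj : Function.Injective (toPermHom Co2 (Co2 ⧸ Γ)) :=
      (MonoidHom.ker_eq_bot_iff _).1 (Γ.normalCore_eq_ker ▸ e)
    have h1 := card_dvd_of_injective _ inj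
    rw [Nat.card_perm, card_Co2'] at h1
    have h2 := Nat.le_of_dvd (by norm_num) (h1.trans (Nat.factorial_dvd_factorial h))
    norm_num [Nat.factorial] at h2
  · exact eq_top_iff.2 (e.ge.trans Γ.normalCore_le)

theorem top_of_move' {Γ : Subgroup Co2} (h1 : ∀ g : Co2, co2Incl g • x16 = x16 → g ∈ Γ) {g : Co2}
    (hg : g ∈ Γ) {v : leechLattice} (hv : TR v)
    (h2 : co2Incl g • x16 = x16 - v ∨ co2Incl g • x16 = leechU - (x16 - v)) : Γ = ⊤ := by
  obtain ⟨f, inj, ne, hf, e⟩ : ∃ f : leechLattice → leechLattice, Function.Injective f ∧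
      (∀ w, TR w → f w ≠ x16) ∧
      (∀ k : Co0, k • leechU = leechU → k • x16 = x16 → ∀ w, k • f w = f (k • w)) ∧
      co2Incl g • x16 = f v := by
    rcases h2 with e | e
    · refine ⟨fun w => x16 - w, sub_right_injective, fun w hw a => ?_,
        fun k _ b w => by rw [smul_sub, b], e⟩
      have := hw.1
      rw [sub_eq_self.1 a] at this
      exact absurd this (by decide)
    · refine ⟨fun w => leechU - (x16 - w), fun a b c => sub_right_injective (sub_right_injective c),
        fun w hw a => ?_, fun k a b w => by rw [smul_sub, smul_sub, a, b], e⟩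
      have := congrArg (dt x16) a
      simp only [dt_sub_right, hw.2.2] at this
      exact absurd this (by decide)
  have hU : Γ.map co2Incl ⊓ stabilizer Co0 x16 = UU := by
    ext k
    refine ⟨fun ⟨⟨a, _, b⟩, c⟩ => ⟨b ▸ co2Incl_u a, c⟩, fun ⟨a, b⟩ => ⟨?_, b⟩⟩
    obtain ⟨k, rfl⟩ := exists_co2Incl a
    exact mem_map_of_mem _ (h1 k b)
  have c1 := card_eq_of_orbit (Γ.map co2Incl) x16 {y | ∃ k ∈ Γ.map co2Incl, k • x16 = y}
    fun _ => Iff.rfl
  rw [hU, card_UU, card_map_of_injective co2Incl_injective] at c1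
  have fin : {y | ∃ k ∈ Γ.map co2Incl, k • x16 = y}.Finite :=
    (fin32 fun _ => True).subset (by
      rintro _ ⟨k, -, rfl⟩
      exact ⟨(nm_smul k _).trans sqNorm_x16, trivial⟩)
  have c2 : (insert x16 (f '' {w | TR w})).ncard ≤ _ := Set.ncard_le_ncard (by
    rintro _ (rfl | ⟨w, hw, rfl⟩)
    · exact ⟨1, one_mem _, one_smul _ _⟩
    · obtain ⟨k, a, b, rfl⟩ := hv.trans hw
      exact ⟨k * co2Incl g, mul_mem (hU.ge ⟨a, b⟩).1 (mem_map_of_mem _ hg), by
        rw [mul_smul, e, hf k a b]⟩) fin
  rw [Set.ncard_insert_of_notMem (by rintro ⟨w, a, b⟩; exact ne w a b)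
      ((show {w | TR w}.Finite from fin32 _).image f),
    Set.ncard_image_of_injective _ inj, ncard_TR] at c2
  have c3 := Γ.index_mul_card
  rw [card_Co2', c1] at c3
  refine top_of_index (not_lt.1 fun c => ?_)
  have := Nat.mul_le_mul (Nat.succ_le_of_lt c) (Nat.mul_le_mul_right 9196830720 c2)
  omega

end Cfsg.Agent.Std2E
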