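import Cfsg.Agent.Std2E.Fix
import Cfsg.Agent.Std2E.Typ
import Cfsg.Agent.Std2E.LocL

/-! The structure of `D = C_M(z)`. -/

set_option autoImplicit false

namespace Cfsg.Agent.Std2E

open Cfsg Cfsg.Spor Cfsg.Agent.Spor Cfsg.Agent.Spor.Leech Cfsg.Agent.TT Cfsg.Agent.LES Cfsg.Agent.Mon
  Cfsg.Agent.Mon.LC Cfsg.Agent.Std2B Subgroup

variable {B : Type*} [Group B] [Finite B] {z t : B} {Q M : Subgroup B}
  {γ : centralizer ({z} : Set B) →* Co2} {φ : leechPerpU → B}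

namespace BM

variable (h : BM z t Q M γ φ) {k q w w' x y : B}
include h

omit [Finite B] in
theorem xs : XS Q z := h.d.lx.toXS

omit [Finite B] in
theorem tQ : t ∈ Q := h.d.mem_of_eqv h.tφ

theorem tT : Ov z φ TyT t := ⟨xP, ⟨sqNorm_x16, dot_U_x16⟩, h.tφ⟩

theorem tt : t * t = 1 := (ov_ne h.d (.inl rfl) h.tT).2.1

theorem t_ne : t ≠ 1 := (ov_ne h.d (.inl rfl) h.tT).2.2.1

theorem t_ne_z : t ≠ z := (ov_ne h.d (.inl rfl) h.tT).2.2.2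

theorem R_le (hq : q ∈ Q) (hc : q * t = t * q) : q ∈ DD M z := by
  have qz := h.xs.z_comm q hq
  have hz := mem_centralizer_singleton_iff.2 qz
  refine mem_DD.2 ⟨(h.memD ⟨q, hz⟩ hc).2 ?_, qz⟩
  rw [(h.d.ker ⟨q, hz⟩).2 hq, map_one, one_smul]

theorem zD : z ∈ DD M z := h.R_le h.xs.z_mem (h.xs.z_comm t h.tQ).symm

theorem tD : t ∈ DD M z := h.R_le h.tQ rfl

omit [Finite B] in
theorem move (k : centralizer ({z} : Set B)) (hk : Eqv z (k * t * (k : B)⁻¹) t) :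
    co2Incl (γ k) • x16 = x16 ∨ co2Incl (γ k) • x16 = leechU - x16 :=
  (x16_mem.smul (co2Incl_u _)).eq_of_congr x16_mem (h.d.eqv_iff.1
    (((h.d.conj_eqv k h.tφ).symm h.xs.z_sq).trans h.xs.z_sq (hk.trans h.xs.z_sq h.tφ)))

omit [Finite B] in
theorem fixD (k : centralizer ({z} : Set B)) (hk : (k : B) ∈ M) : co2Incl (γ k) • x16 = x16 :=
  (h.memD k (h.le _ hk)).1 hk

theorem nD (hk : k ∈ NS z t) (hx : x ∈ DD M z) : k * x * k⁻¹ ∈ DD M z := by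
  obtain ⟨xM, xz⟩ := mem_DD.1 hx
  obtain ⟨kz, kt⟩ := (mem_NS h.xs.z_sq).1 (inv_mem hk)
  have xt := h.le x xM
  let k' : centralizer ({z} : Set B) := ⟨k⁻¹, mem_centralizer_singleton_iff.2 kz⟩
  let x' : centralizer ({z} : Set B) := ⟨x, mem_centralizer_singleton_iff.2 xz⟩
  have e : ((k'⁻¹ * x' * k' : centralizer ({z} : Set B)) : B) = k * x * k⁻¹ := by simp [k', x']
  have c : x * (k⁻¹ * t * k⁻¹⁻¹) = k⁻¹ * t * k⁻¹⁻¹ * x := by
    rcases kt with a | a <;> rw [a]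
    exacts [xt, (comm_mul_left xt.symm xz.symm).symm]
  rw [← e]
  refine mem_DD.2 ⟨(h.memD _ ?_).2 ?_, MonData.comm_z _⟩
  · rw [e]
    calc _ = k * (x * (k⁻¹ * t * k⁻¹⁻¹)) * k⁻¹ := by group
      _ = _ := by rw [c]; group
  · have f := h.fixD x' xM
    rw [map_mul, map_mul, map_mul, map_mul, map_inv, map_inv, mul_smul, mul_smul, inv_smul_eq_iff]
    rcases h.move k' kt with a | a <;> rw [a]
    exacts [f, by rw [smul_sub, f, co2Incl_u]]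

theorem idxD (xt : x * t = t * x) (xz : x * z = z * x) (yt : y * t = t * y) (yz : y * z = z * y)
    (hx : x ∉ M) (hy : y ∉ M) : x * y ∈ M := by
  let x' : centralizer ({z} : Set B) := ⟨x, mem_centralizer_singleton_iff.2 xz⟩
  let y' : centralizer ({z} : Set B) := ⟨y, mem_centralizer_singleton_iff.2 yz⟩
  have a := (h.move x' (.inl (conj_eq_of_comm xt))).resolve_left fun e => hx ((h.memD x' xt).2 e)
  have b := (h.move y' (.inl (conj_eq_of_comm yt))).resolve_left fun e => hy ((h.memD y' yt).2 e)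
  refine (h.memD (x' * y') (comm_mul_left xt yt)).2 ?_
  rw [map_mul, map_mul, mul_smul, b, smul_sub, a, co2Incl_u, sub_sub_cancel]

theorem exists_lift {g : Co0} (gu : g • leechU = leechU) (gx : g • x16 = x16) :
    ∃ k : centralizer ({z} : Set B), (k : B) ∈ DD M z ∧ co2Incl (γ k) = g := by
  obtain ⟨k, a, b⟩ := h.d.exists_conj gu h.tφ (y := t)
    (by rw [show BO.sm g gu xP = xP from Subtype.ext gx]; exact h.tφ) h.t_ne h.t_ne_z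
  exact ⟨k, mem_DD.2 ⟨(h.memD k (comm_of_conj_eq b)).2 (a ▸ gx), MonData.comm_z k⟩, a⟩

omit [Finite B] h in
theorem toB (hw : Ov z φ TyR w) : Ov z φ TyB w :=
  let ⟨v, a, b⟩ := hw; ⟨v, ⟨a.1, a.2.1⟩, b⟩

theorem coll_iff : w ∈ Rts M z ∧ w ∈ Q ∧ w ≠ z ↔ Ov z φ TyR w := by
  refine ⟨fun ⟨a, b, c⟩ => (h.root w b c).1 a, fun a => ?_⟩
  obtain ⟨b, -, -, c⟩ := ov_ne h.d (.inr rfl) (toB a)
  exact ⟨(h.root w b c).2 a, b, c⟩

theorem ncard_coll : {w | w ∈ Rts M z ∧ w ∈ Q ∧ w ≠ z}.ncard = 1782 := by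
  classical
  have zz := h.xs.z_sq
  let f : leechLattice × Bool → B := fun p =>
    if hp : p.1 ∈ leechPerpU then (if p.2 then φ ⟨p.1, hp⟩ * z else φ ⟨p.1, hp⟩) else 1
  have hf : ∀ (v : leechPerpU) (b : Bool), f (v, b) = if b then φ v * z else φ v :=
    fun v b => dif_pos v.2
  have ef : ∀ (v : leechPerpU) (b : Bool), Eqv z (f (v, b)) (φ v) := fun v b => by
    rw [hf]; split_ifs
    exacts [.inr rfl, .inl rfl]
  have e : {w | w ∈ Rts M z ∧ w ∈ Q ∧ w ≠ z} = f '' ({v | TR v} ×ˢ Set.univ) := by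
    ext w
    rw [Set.mem_setOf_eq, h.coll_iff]
    constructor
    · rintro ⟨v, a, rfl | rfl⟩
      exacts [⟨(v, false), ⟨a, trivial⟩, hf v _⟩, ⟨(v, true), ⟨a, trivial⟩, hf v _⟩]
    · rintro ⟨⟨v, b⟩, ⟨a, -⟩, rfl⟩
      exact ⟨⟨v, TR.perp a⟩, a, ef ⟨v, TR.perp a⟩ b⟩
  rw [e, Set.InjOn.ncard_image, Set.ncard_prod, ncard_TR, Set.ncard_univ]
  · simp
  rintro ⟨v, b⟩ ⟨hv, -⟩ ⟨v', b'⟩ ⟨hv', -⟩ c
  have h1 := ef ⟨v, TR.perp hv⟩ b
  have h2 := ef ⟨v', TR.perp hv'⟩ b'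
  obtain rfl : v = v' := TR.eq_of_congr hv hv' (h.d.eqv_iff.1 ((h1.symm zz).trans zz (c ▸ h2)))
  rw [hf ⟨v, TR.perp hv⟩, hf ⟨v, TR.perp hv⟩] at c
  have := h.xs.z_ne
  cases b <;> cases b' <;> simp_all

theorem trans_coll (hw : w ∈ Rts M z) (wQ : w ∈ Q) (wz : w ≠ z) (hw' : w' ∈ Rts M z) (wQ' : w' ∈ Q)
    (wz' : w' ≠ z) : ∃ k ∈ DD M z, k * w * k⁻¹ = w' := by
  have zz := h.xs.z_sq
  have a' := (h.root w' wQ' wz').1 hw'
  obtain ⟨v, a, b⟩ := (h.root w wQ wz).1 hw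
  obtain ⟨v', c, d⟩ := id a'
  obtain ⟨g, gu, gx, gv⟩ := TR.trans a c
  obtain ⟨k, kD, rfl⟩ := h.exists_lift gu gx
  have e := h.d.conj_eqv k b
  rw [show BO.sm _ (co2Incl_u (γ k)) v = v' from Subtype.ext gv] at e
  rcases e.trans zz (d.symm zz) with e | e
  · exact ⟨k, kD, e⟩
  obtain ⟨q, hq, qt, qw⟩ : ∃ q ∈ Q, q * t = t * q ∧ q * w' ≠ w' * q := by
    by_contra hc
    push Not at hc
    have nT : ¬ Eqv z w' t := fun e =>
      not_TB h.d ⟨xP, ⟨sqNorm_x16, dot_U_x16⟩, e.trans zz h.tφ⟩ (toB a')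
    rcases h.xs.eq_of_comm_centralizer h.tQ wQ' hc with f | f | f | f
    exacts [(ov_ne h.d (.inr rfl) (toB a')).2.2.1 f, wz' f, nT (.inl f), nT (.inr f)]
  refine ⟨q * k, mul_mem (h.R_le hq qt) kD, ?_⟩
  calc _ = q * (k * w * (k : B)⁻¹) * q⁻¹ := by group
    _ = _ := by
      rw [e, ← conj_mul, h.xs.conj_of_ne hq wQ' qw, conj_eq_of_comm (h.xs.z_comm q hq), h.xs.mul_z_z]

theorem mulz (hw : w ∈ Rts M z) (wQ : w ∈ Q) (wz : w ≠ z) : w * z ∈ Rts M z := by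
  obtain ⟨v, a, b⟩ := (h.root w wQ wz).1 hw
  exact (h.coll_iff.2 ⟨v, a, Eqv.trans h.xs.z_sq (.inr rfl) b⟩).1

theorem conj_coll (hk : k ∈ NS z t) (hw : w ∈ Rts M z) (wQ : w ∈ Q) : k * w * k⁻¹ ∈ Rts M z := by
  obtain ⟨kz, kt⟩ := (mem_NS h.xs.z_sq).1 hk
  by_cases wz : w = z
  · rw [wz, conj_eq_of_comm kz]; exact self_mem_Rts M z
  obtain ⟨v, a, b⟩ := (h.root w wQ wz).1 hw
  let k' : centralizer ({z} : Set B) := ⟨k, mem_centralizer_singleton_iff.2 kz⟩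
  have e := h.d.conj_eqv k' b
  rcases h.move k' kt with c | c
  · exact (h.coll_iff.2 ⟨BO.sm _ (co2Incl_u (γ k')) v, TR.smul a (co2Incl_u _) c, e⟩).1
  · exact (h.coll_iff.2 ⟨-BO.sm _ (co2Incl_u (γ k')) v, TR.smul' a (co2Incl_u _) c, e.trans h.xs.z_sq
      (h.d.eqv_iff.2 (.inl ⟨_, by rw [AddSubgroup.coe_neg, sub_neg_eq_add]⟩))⟩).1

theorem symm (hk : k * z * k⁻¹ ∈ Q) : k⁻¹ * z * k ∈ Q := by
  obtain ⟨x, a, b⟩ := h.d.lx.mem_map_conj_of_card (by rw [h.d.card]; norm_num) hk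
  rw [show k⁻¹ * z * k = x by rw [← b]; simp [mul_assoc]]
  exact a

theorem exists_line : ∃ w ∈ Rts M z, ∃ w' ∈ Rts M z, w' * w ∈ Rts M z ∧ w ∈ Q ∧ w' ∈ Q ∧
    w ≠ z ∧ w' ≠ z ∧ w' * w ≠ z := by
  have zz := h.xs.z_sq
  obtain ⟨a, b, c, y, ha, hb, hc, e⟩ := lineR
  have h1 := h.coll_iff.2 ⟨⟨a, ha.perp⟩, ha, Eqv.refl _ _⟩
  have h2 := h.coll_iff.2 ⟨⟨b, hb.perp⟩, hb, Eqv.refl _ _⟩
  have h3 := h.coll_iff.2 ⟨⟨c, hc.perp⟩, hc, ((h.d.add ⟨a, ha.perp⟩ ⟨b, hb.perp⟩).symm zz).trans zz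
    (h.d.eqv_iff.2 (.inr ⟨y, e⟩))⟩
  exact ⟨_, h2.1, _, h1.1, h3.1, h2.2.1, h1.2.1, h2.2.2, h1.2.2, h3.2.2⟩

omit [Finite B] in
theorem D_le : DD M z ≤ centralizer {z} := inf_le_right

/-- The map `D → U₆(2)`. -/
def ρ : DD M z →* UU :=
  ((co2Incl.comp γ).comp (inclusion h.D_le)).codRestrict _ fun k =>
    ⟨co2Incl_u _, h.fixD (inclusion h.D_le k) k.2.1⟩

theorem ρ_surj : Function.Surjective h.ρ := fun g => by
  obtain ⟨k, a, b⟩ := h.exists_lift g.2.1 g.2.2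
  exact ⟨⟨k, a⟩, Subtype.ext b⟩

omit [Finite B] in
theorem ρ_ker {k : DD M z} (e : h.ρ k = 1) : (k : B) ∈ Q :=
  (h.d.ker (inclusion h.D_le k)).1
    (co2Incl_injective ((congrArg Subtype.val e).trans (map_one _).symm))

theorem comm_le : ⁅DD M z, DD M z⁆ ≤ DD M z :=
  commutator_le.2 fun _ a _ b => mul_mem (mul_mem (mul_mem a b) (inv_mem a)) (inv_mem b)

theorem conj_comm (hk : k ∈ DD M z) (hx : x ∈ ⁅DD M z, DD M z⁆) : k * x * k⁻¹ ∈ ⁅DD M z, DD M z⁆ := by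
  have := mul_mem (commutator_mem_commutator hk (h.comm_le hx)) hx
  rwa [commutatorElement_def, inv_mul_cancel_right] at this

theorem root_mem (hw : Ov z φ TyR w) : w ∈ ⁅DD M z, DD M z⁆ := by
  obtain ⟨a, a1, b, b1, c1, a2, b2, a3, b3, c3⟩ := h.exists_line
  obtain ⟨k, kD, e⟩ := h.trans_coll a1 a2 a3 b1 b2 b3
  obtain ⟨w1, w2, w3⟩ := h.coll_iff.2 hw
  obtain ⟨l, lD, rfl⟩ := h.trans_coll c1 (mul_mem b2 a2) c3 w1 w2 w3
  obtain ⟨m, mM, f⟩ := id a1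
  have aa : a⁻¹ = a := inv_eq_of_mul_eq_one_right (by rw [← f, conj_mul, h.xs.z_sq]; group)
  have := commutator_mem_commutator kD (h.R_le a2 (by
    rw [← f]
    exact comm_mul_left (comm_mul_left (h.le m mM) (h.le z h.zD.1)) (h.le _ (inv_mem mM))))
  rw [commutatorElement_def, e, aa] at this
  exact h.conj_comm lD this

theorem R_le_comm (hq : q ∈ Q) (hc : q * t = t * q) : q ∈ ⁅DD M z, DD M z⁆ := by
  have zz := h.xs.z_sq
  obtain ⟨a, -, -, -, ha, -⟩ := lineR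
  have o : Ov z φ TyR (φ ⟨a, ha.perp⟩) := ⟨⟨a, ha.perp⟩, ha, Eqv.refl _ _⟩
  have hz : z ∈ ⁅DD M z, DD M z⁆ := (mul_mem_cancel_left (h.root_mem o)).1
    (h.root_mem ⟨⟨a, ha.perp⟩, ha, .inr rfl⟩)
  have i := h.d.inv_pre (A := ⊤) (mem_top z) fun _ _ _ _ => mem_top _
  have two : ∀ y, y + y ∈ h.d.pre _ hz := fun y =>
    ⟨(i.two y).1, ((h.d.triv _).2 (.inl ⟨y, rfl⟩)).mem hz (one_mem _)⟩
  have hR : ∀ v, TR v → v ∈ h.d.pre _ hz := fun v hv =>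
    ⟨hv.perp, h.root_mem ⟨⟨v, hv.perp⟩, hv, Eqv.refl _ _⟩⟩
  obtain ⟨v, ev⟩ := h.d.onto q hq
  rcases MonY.I20.std (h.d.pre _ hz) two
    ⟨i.u.1, ((h.d.triv _).2 (.inr ⟨0, by simp⟩)).mem hz (one_mem _)⟩ (x16_mem_of two hR)
    (fun v ⟨v1, v2⟩ => ⟨Int.emod_eq_zero_of_dvd v1,
      (h.d.comm_iff (Eqv.refl _ _) h.tφ).1 (h.le _ (h.comm_le v2).1)⟩)
    (fun g gu gx v ⟨v1, v2⟩ => by
      obtain ⟨k, kD, rfl⟩ := h.exists_lift gu gx
      exact ⟨smul_perp gu v1, ((h.d.conj_eqv k (Eqv.refl z (φ ⟨v, v1⟩))).symm zz).mem hz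
        (h.conj_comm kD v2)⟩) with hW | hW
  · exfalso
    obtain ⟨i, j, y, e⟩ := hW a (hR a ha)
    have h0 : (∃ y, a - (j % 2) • x16 = y + y) ∨ ∃ y, a - (j % 2) • x16 = leechU + (y + y) := by
      have ei := Int.emod_add_mul_ediv i 2
      have ej := Int.emod_add_mul_ediv j 2
      have : a - (j % 2) • x16 = (i % 2) • leechU + (((i / 2) • leechU + (j / 2) • x16 + y) +
          ((i / 2) • leechU + (j / 2) • x16 + y)) := by
        rw [e]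
        nth_rewrite 1 [← ei, ← ej]
        module
      rcases Int.emod_two_eq_zero_or_one i with f | f <;> rw [f] at this
      exacts [.inl ⟨_, by rw [this, zero_smul, zero_add]⟩, .inr ⟨_, by rw [this, one_smul]⟩]
    rcases Int.emod_two_eq_zero_or_one j with f | f <;> rw [f] at h0
    · obtain ⟨-, -, c, d⟩ := ov_ne h.d (.inr rfl) (toB o)
      rw [zero_smul, sub_zero] at h0
      exact (eqv_one_iff.1 ((h.d.triv ⟨a, ha.perp⟩).2 h0)).elim c d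
    · rw [one_smul] at h0
      exact not_TB h.d ⟨xP, ⟨sqNorm_x16, dot_U_x16⟩, (h.d.eqv_iff (v := ⟨a, ha.perp⟩)).2 h0⟩ (toB o)
  · obtain ⟨_, a⟩ := hW v (Int.emod_eq_zero_of_dvd v.2) ((h.d.comm_iff ev h.tφ).1 hc)
    exact ev.mem hz a

theorem perf : ⁅DD M z, DD M z⁆ = DD M z := by
  refine le_antisymm h.comm_le fun x hx => ?_
  have : h.ρ ⟨x, hx⟩ ∈ (commutator (DD M z)).map h.ρ := by
    rw [commutator_def, map_commutator, ← MonoidHom.range_eq_map, MonoidHom.range_eq_top.2 h.ρ_surj,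
      ← commutator_def, perfect_UU]
    exact mem_top _
  obtain ⟨y, a, b⟩ := this
  have c : (y : B) ∈ ⁅DD M z, DD M z⁆ := by
    rw [← map_subtype_commutator]
    exact mem_map_of_mem _ a
  have d := h.ρ_ker (k := y⁻¹ * ⟨x, hx⟩) (by rw [map_mul, map_inv, b, inv_mul_cancel])
  exact (mul_mem_cancel_left (inv_mem c)).1 (h.R_le_comm d (h.le _ (y⁻¹ * ⟨x, hx⟩).2.1))

theorem o2 {N : Subgroup B} (hN : IsPGroup 2 N) (le : N ≤ DD M z)
    (nm : ∀ k ∈ DD M z, ∀ x ∈ N, k * x * k⁻¹ ∈ N) : N ≤ Q := by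
  have n : (N.subgroupOf (DD M z)).Normal := ⟨fun x hx k => nm k k.2 x hx⟩
  have := two_UU (n.map h.ρ h.ρ_surj) (hN.comap_subtype.map _)
  exact fun x hx => h.ρ_ker (k := ⟨x, le hx⟩) (mem_bot.1 (this ▸ mem_map_of_mem _ hx))

end BM

omit [Finite B] in
theorem top_of_move {Γ : Subgroup Co2} (h1 : ∀ g : Co2, co2Incl g • x16 = x16 → g ∈ Γ) {g : Co2}
    (hg : g ∈ Γ) {v : leechPerpU} (hv : TyR v)
    (h2 : co2Incl g • x16 = x16 - v ∨ co2Incl g • x16 = leechU - (x16 - v)) : Γ = ⊤ :=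
  top_of_move' h1 hg hv h2

end Cfsg.Agent.Std2E
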